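import Cfsg.Agent.MaxSub.OrthGen

/-!
Root elements of `Ω(Q)` attached to totally singular lines, for `dim V ≥ 7` over a finite field.
-/

set_option autoImplicit false

namespace Cfsg.Agent.CG26.AutPO

open QuadraticMap Cfsg.Agent.UnitaryOrthogonal

universe u v

variable {F : Type u} [Field F] {V : Type v} [AddCommGroup V] [Module F V]

/-- The standing hypotheses. -/
structure Setup (Q : QuadraticForm F V) : Prop where
  nd : PolarND Q
  fin : Finite F
  fd : FiniteDimensional F V
  dim : 7 ≤ Module.finrank F V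

variable {Q : QuadraticForm F V}

theorem Setup.finiteV (hS : Setup Q) : Finite V :=
  haveI := hS.fin
  haveI := hS.fd
  Module.finite_of_finite F

theorem polar_self_zero {x : V} (hx : Q x = 0) : polar Q x x = 0 := by
  rw [polar_self_eq, hx, mul_zero]

/-- The subspace orthogonal to two vectors has codimension at most two. -/
theorem Setup.finrank_perp (hS : Setup Q) (a b : V) :
    Module.finrank F V ≤ Module.finrank F (OrthStab.perp₂ Q a b) + 2 := by
  haveI := hS.fd
  have h := Submodule.finrank_sup_add_finrank_inf_eq (LinearMap.ker (polarBilin Q a))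
    (LinearMap.ker (polarBilin Q b))
  have hle := Submodule.finrank_le (LinearMap.ker (polarBilin Q a) ⊔ LinearMap.ker (polarBilin Q b))
  have hk : ∀ x, Module.finrank F V ≤ Module.finrank F (LinearMap.ker (polarBilin Q x)) + 1 := by
    intro x
    have h1 := LinearMap.finrank_range_add_finrank_ker (polarBilin Q x)
    have h2 := Submodule.finrank_le (LinearMap.range (polarBilin Q x))
    rw [Module.finrank_self] at h2
    omega
  have := hk a
  have := hk b
  show _ ≤ Module.finrank F (LinearMap.ker (polarBilin Q a) ⊓ LinearMap.ker (polarBilin Q b) :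
    Submodule F V) + 2
  omega

/-- A singular vector of a subspace outside a smaller subspace. -/
theorem Setup.exists_singular_off (hS : Setup Q) (K W : Submodule F V)
    (h : 3 + Module.finrank F W ≤ Module.finrank F K) : ∃ x ∈ K, x ∉ W ∧ Q x = 0 := by
  haveI := hS.fin
  haveI := hS.fd
  obtain ⟨C, hC⟩ := exists_isCompl ((K ⊓ W).comap K.subtype)
  have h1 := Submodule.finrank_add_eq_of_isCompl hC
  have h2 : Module.finrank F ((K ⊓ W).comap K.subtype) ≤ Module.finrank F W :=
    (Submodule.comapSubtypeEquivOfLe (inf_le_left : K ⊓ W ≤ K)).finrank_eq.le.trans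
      (Submodule.finrank_mono inf_le_right)
  obtain ⟨x, hx, hx0, hQx⟩ := OrthStab.exists_singular_mem (Q := Q) (C.map K.subtype)
    (by rw [Submodule.finrank_map_subtype_eq]; omega)
  obtain ⟨y, hy, rfl⟩ := hx
  refine ⟨y, y.2, fun hW => hx0 ?_, hQx⟩
  have : y ∈ (K ⊓ W).comap K.subtype ⊓ C := ⟨⟨y.2, hW⟩, hy⟩
  rw [hC.inf_eq_bot, Submodule.mem_bot] at this
  rw [this]; rfl

theorem finrank_span_pair_le (a b : V) :
    Module.finrank F (Submodule.span F ({a, b} : Set V)) ≤ 2 := by
  classical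
  refine (finrank_span_le_card _).trans ?_
  rw [Set.toFinset_insert, Set.toFinset_singleton]
  exact Finset.card_le_two

/-- A singular vector orthogonal to two vectors, outside their span. -/
theorem Setup.exists_orth (hS : Setup Q) (a b : V) :
    ∃ c, Q c = 0 ∧ polar Q a c = 0 ∧ polar Q b c = 0 ∧ c ∉ Submodule.span F ({a, b} : Set V) := by
  have h1 := hS.finrank_perp a b
  have h2 := finrank_span_pair_le (F := F) a b
  have := hS.dim
  obtain ⟨x, hx, hxW, hQ⟩ := hS.exists_singular_off (OrthStab.perp₂ Q a b)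
    (Submodule.span F ({a, b} : Set V)) (by omega)
  exact ⟨x, hQ, hx.1, hx.2, hxW⟩

/-- Singular vectors span every subspace containing a hyperbolic pair. -/
theorem mem_closure_singular {K : Submodule F V} {a b : V} (ha : a ∈ K) (hb : b ∈ K)
    (hQa : Q a = 0) (hQb : Q b = 0) (hab : polar Q a b = 1) {v : V} (hv : v ∈ K) :
    v ∈ AddSubgroup.closure {x : V | x ∈ K ∧ Q x = 0} := by
  obtain ⟨y, hy⟩ : ∃ y : F, y + polar Q v a ≠ 0 := by
    by_cases h : polar Q v a = 0
    · exact ⟨1, by rw [h, add_zero]; exact one_ne_zero⟩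
    · exact ⟨0, by rwa [zero_add]⟩
  set x := -(Q v + y * polar Q v b) * (y + polar Q v a)⁻¹ with hx
  have hs : Q (v + (x • a + y • b)) = 0 := by
    rw [form_add, form_add, form_smul, form_smul, hQa, hQb, polar_smul_left, polar_smul_right,
      polar_add_right, polar_smul_right, polar_smul_right, hab]
    simp only [smul_eq_mul]
    have : x * (y + polar Q v a) = -(Q v + y * polar Q v b) := by
      rw [hx, inv_mul_cancel_right₀ hy]
    linear_combination this
  have hm : ∀ z, z ∈ K → Q z = 0 → z ∈ AddSubgroup.closure {x : V | x ∈ K ∧ Q x = 0} :=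
    fun z h1 h2 => AddSubgroup.subset_closure ⟨h1, h2⟩
  have : v = (v + (x • a + y • b)) + ((-x) • a + (-y) • b) := by module
  rw [this]
  refine add_mem (hm _ (K.add_mem hv (K.add_mem (K.smul_mem _ ha) (K.smul_mem _ hb))) hs)
    (add_mem (hm _ (K.smul_mem _ ha) ?_) (hm _ (K.smul_mem _ hb) ?_))
  · rw [form_smul, hQa, mul_zero]
  · rw [form_smul, hQb, mul_zero]

/-- A spanning pair of a totally singular line. -/
structure IsLn (Q : QuadraticForm F V) (u z : V) : Prop where
  qu : Q u = 0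
  qz : Q z = 0
  uz : polar Q u z = 0
  u0 : u ≠ 0
  ind : ∀ c : F, z ≠ c • u

theorem IsLn.swap {u z : V} (h : IsLn Q u z) : IsLn Q z u := by
  refine ⟨h.qz, h.qu, by rw [polar_comm]; exact h.uz, fun e => h.ind 0 (by rw [e, zero_smul]),
    fun c e => ?_⟩
  by_cases hc : c = 0
  · rw [hc, zero_smul] at e; exact h.u0 e
  · exact h.ind c⁻¹ (by rw [e, inv_smul_smul₀ hc])

theorem IsLn.z0 {u z : V} (h : IsLn Q u z) : z ≠ 0 := h.swap.u0

/-- Totally singular lines. -/
def Ln (Q : QuadraticForm F V) (L : Submodule F V) : Prop :=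
  ∃ u z, IsLn Q u z ∧ L = Submodule.span F {u, z}

theorem mem_pair {u z x : V} :
    x ∈ Submodule.span F ({u, z} : Set V) ↔ ∃ a b : F, a • u + b • z = x :=
  Submodule.mem_span_pair

theorem IsLn.form_mem {u z x : V} (h : IsLn Q u z) (hx : x ∈ Submodule.span F ({u, z} : Set V)) :
    Q x = 0 := by
  obtain ⟨a, b, rfl⟩ := mem_pair.1 hx
  simp [form_add, form_smul, h.qu, h.qz, h.uz]

theorem IsLn.polar_mem {u z x y : V} (h : IsLn Q u z) (hx : x ∈ Submodule.span F ({u, z} : Set V))
    (hy : y ∈ Submodule.span F ({u, z} : Set V)) : polar Q x y = 0 := by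
  obtain ⟨a, b, rfl⟩ := mem_pair.1 hx
  obtain ⟨c, d, rfl⟩ := mem_pair.1 hy
  simp [h.uz, polar_comm Q z u, polar_self_zero h.qu, polar_self_zero h.qz]

theorem IsLn.coeff {u z : V} (h : IsLn Q u z) {a b : F} (e : a • u + b • z = 0) : a = 0 ∧ b = 0 := by
  have hb : b = 0 := by
    by_contra hb
    refine h.ind (-(b⁻¹ * a)) ?_
    have := congrArg (b⁻¹ • ·) e
    simp only [smul_add, smul_smul, inv_mul_cancel₀ hb, one_smul, smul_zero] at this
    rw [neg_smul, eq_neg_iff_add_eq_zero, add_comm]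
    exact this
  subst hb
  rw [zero_smul, add_zero] at e
  exact ⟨(smul_eq_zero.1 e).resolve_right h.u0, rfl⟩

theorem IsLn.exists_duals {u z : V} (hS : Setup Q) (h : IsLn Q u z) :
    ∃ f g, polar Q u f = 1 ∧ polar Q z f = 0 ∧ polar Q u g = 0 ∧ polar Q z g = 1 := by
  obtain ⟨f, h1, h2⟩ := exists_polar_eq_pair hS.nd h.qu h.u0 h.ind 1 0
  obtain ⟨g, h3, h4⟩ := exists_polar_eq_pair hS.nd h.qu h.u0 h.ind 0 1
  exact ⟨f, g, h1, h2, h3, h4⟩

/-- A vector orthogonal to `L^⊥` lies in `L`. -/
theorem mem_of_perp_perp (hS : Setup Q) {u z f g d : V} (h1 : polar Q u f = 1) (h2 : polar Q z f = 0)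
    (h3 : polar Q u g = 0) (h4 : polar Q z g = 1)
    (hd : ∀ w, polar Q u w = 0 → polar Q z w = 0 → polar Q d w = 0) :
    d = polar Q d f • u + polar Q d g • z := by
  refine sub_eq_zero.1 (hS.nd _ fun x => ?_)
  have e := hd (x - polar Q u x • f - polar Q z x • g)
    (by simp [polar_sub_right, h1, h3]) (by simp [polar_sub_right, h2, h4])
  simp only [polar_sub_right, polar_smul_right, smul_eq_mul] at e
  simp only [polar_sub_left, polar_add_left, polar_smul_left, smul_eq_mul]
  linear_combination e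

/-- `eich` only depends on `u ∧ z`. -/
theorem eich_change {u z : V} (h : IsLn Q u z) (a b c d : F) :
    eich Q (a • u + b • z) (c • u + d • z) = eich Q u ((a * d - b * c) • z) := by
  refine orth_ext fun x => ?_
  have h1 : Q (a • u + b • z) = 0 := h.form_mem (mem_pair.2 ⟨a, b, rfl⟩)
  have h2 : Q (c • u + d • z) = 0 := h.form_mem (mem_pair.2 ⟨c, d, rfl⟩)
  have h3 : polar Q (a • u + b • z) (c • u + d • z) = 0 :=
    h.polar_mem (mem_pair.2 ⟨a, b, rfl⟩) (mem_pair.2 ⟨c, d, rfl⟩)
  rw [eich_apply h1 h3, eich_apply h.qu (by rw [polar_smul_right, h.uz, smul_zero])]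
  simp only [h2, form_smul, h.qz, mul_zero, zero_mul, polar_add_left, polar_smul_left, smul_eq_mul]
  module

/-- The two vectors are recovered from the transformation. -/
theorem span_eq_range (hS : Setup Q) {a w : V} (ha : Q a = 0) (haw : polar Q a w = 0) (ha0 : a ≠ 0)
    (hind : ∀ c : F, w ≠ c • a) :
    LinearMap.range ((eich Q a w).1.toLinearMap - LinearMap.id) =
      Submodule.span F ({a, w} : Set V) := by
  apply le_antisymm
  · rintro _ ⟨x, rfl⟩
    simp only [LinearMap.sub_apply, LinearEquiv.coe_coe, LinearMap.id_apply, eich_apply ha haw]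
    exact mem_pair.2 ⟨-(polar Q w x + Q w * polar Q a x), polar Q a x, by module⟩
  · rw [Submodule.span_le]
    obtain ⟨x, hx1, hx2⟩ := exists_polar_eq_pair hS.nd ha ha0 hind 0 1
    obtain ⟨y, hy1, hy2⟩ := exists_polar_eq_pair hS.nd ha ha0 hind 1 0
    have h1 : a ∈ LinearMap.range ((eich Q a w).1.toLinearMap - LinearMap.id) :=
      ⟨-x, by simp [eich_apply ha haw, hx1, hx2]⟩
    have h2 : w ∈ LinearMap.range ((eich Q a w).1.toLinearMap - LinearMap.id) := by
      have hy : w - Q w • a ∈ LinearMap.range ((eich Q a w).1.toLinearMap - LinearMap.id) :=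
        ⟨y, by
          simp only [LinearMap.sub_apply, LinearEquiv.coe_coe, LinearMap.id_apply,
            eich_apply ha haw, hy1, hy2]
          module⟩
      simpa using add_mem hy (Submodule.smul_mem _ (Q w) h1)
    intro x hx
    rcases hx with rfl | rfl
    · exact h1
    · exact h2

theorem span_eq_of_eich_eq (hS : Setup Q) {a w a' w' : V} (ha : Q a = 0) (haw : polar Q a w = 0)
    (ha0 : a ≠ 0) (hind : ∀ c : F, w ≠ c • a) (ha' : Q a' = 0) (haw' : polar Q a' w' = 0)
    (ha0' : a' ≠ 0) (hind' : ∀ c : F, w' ≠ c • a') (e : eich Q a w = eich Q a' w') :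
    Submodule.span F ({a, w} : Set V) = Submodule.span F ({a', w'} : Set V) := by
  rw [← span_eq_range hS ha haw ha0 hind, ← span_eq_range hS ha' haw' ha0' hind', e]

theorem eich_eq_one (hS : Setup Q) {a d : V} (ha : Q a = 0) (had : polar Q a d = 0) (ha0 : a ≠ 0)
    (e : eich Q a d = 1) : ∃ c : F, d = c • a := by
  by_contra hc
  push Not at hc
  have h := span_eq_range hS ha had ha0 hc
  rw [e] at h
  have hm : a ∈ Submodule.span F ({a, d} : Set V) := Submodule.subset_span (Set.mem_insert _ _)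
  rw [← h] at hm
  obtain ⟨x, hx⟩ := hm
  exact ha0 (by simpa using hx.symm)

theorem eich_eq_iff (hS : Setup Q) {a w w' : V} (ha : Q a = 0) (haw : polar Q a w = 0)
    (haw' : polar Q a w' = 0) (ha0 : a ≠ 0) (e : eich Q a w = eich Q a w') :
    ∃ c : F, w - w' = c • a := by
  refine eich_eq_one hS ha (by rw [polar_sub_right, haw, haw', sub_zero]) ha0 ?_
  rw [sub_eq_add_neg, ← eich_mul ha haw (by simp [haw']), ← eich_inv ha haw', e, mul_inv_cancel]

/-! ### The group and its centre -/

/-- `Ω(Q)`. -/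
abbrev Om (Q : QuadraticForm F V) : Type _ := ↥(eichGroup Q)

/-- `PΩ(Q)`. -/
abbrev PO (Q : QuadraticForm F V) : Type _ := Om Q ⧸ Subgroup.center (Om Q)

/-- The projection. -/
noncomputable def piO (Q : QuadraticForm F V) : Om Q →* PO Q := QuotientGroup.mk' _

/-- An Eichler transformation in `Ω`. -/
noncomputable def eo (Q : QuadraticForm F V) (u z : V) : Om Q := ⟨eich Q u z, eich_mem_eichGroup u z⟩

/-- Its image. -/
noncomputable def eb (Q : QuadraticForm F V) (u z : V) : PO Q := piO Q (eo Q u z)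

theorem piO_surjective : Function.Surjective (piO Q) := QuotientGroup.mk'_surjective _

@[simp] theorem eo_coe (u z : V) : (eo Q u z).1 = eich Q u z := rfl

theorem conj_eb (g : Om Q) (u z : V) :
    piO Q g * eb Q u z * (piO Q g)⁻¹ = eb Q (g.1.1 u) (g.1.1 z) := by
  rw [eb, eb, ← map_inv, ← map_mul, ← map_mul]
  exact congrArg _ (Subtype.ext (conj_eich g.1 u z))

theorem exists_line_through (hS : Setup Q) {a : V} (ha : Q a = 0) (ha0 : a ≠ 0) :
    ∃ c d, IsLn Q a c ∧ IsLn Q a d ∧ ∀ x ∈ Submodule.span F ({a, c} : Set V),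
      x ∈ Submodule.span F ({a, d} : Set V) → ∃ t : F, x = t • a := by
  obtain ⟨c, hc, hac, -, hc'⟩ := hS.exists_orth a a
  obtain ⟨d, hd, had, -, hd'⟩ := hS.exists_orth a c
  have ic : ∀ t : F, c ≠ t • a := fun t e => hc' (mem_pair.2 ⟨t, 0, by simp [e]⟩)
  have id' : ∀ t : F, d ≠ t • a := fun t e => hd' (mem_pair.2 ⟨t, 0, by simp [e]⟩)
  refine ⟨c, d, ⟨ha, hc, hac, ha0, ic⟩, ⟨ha, hd, had, ha0, id'⟩, fun x hx hx' => ?_⟩
  obtain ⟨p, q, rfl⟩ := mem_pair.1 hx
  obtain ⟨r, s, e⟩ := mem_pair.1 hx'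
  by_cases hs : s = 0
  · refine ⟨r, ?_⟩
    rw [hs, zero_smul, add_zero] at e
    exact e.symm
  · exfalso
    refine hd' (mem_pair.2 ⟨s⁻¹ * (p - r), s⁻¹ * q, ?_⟩)
    have := congrArg (s⁻¹ • ·) e
    simp only [smul_add, smul_smul, inv_mul_cancel₀ hs, one_smul] at this
    linear_combination (norm := module) (-1 : F) • this

/-- A semilinear map fixing all singular points is scalar. -/
theorem scalar_of_fix_points (hS : Setup Q) {σ : F →+* F} (g : V →ₛₗ[σ] V)
    (hg : Function.Injective g) (h : ∀ a, Q a = 0 → ∃ c : F, g a = c • a) :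
    σ = RingHom.id F ∧ ∃ c : F, c ≠ 0 ∧ ∀ x, g x = c • x := by
  have hk : ∀ a c : V, IsLn Q a c → ∀ s t : F, g a = s • a → g c = t • c → s = t ∧ ∀ r, σ r = r := by
    intro a c hL s t hs ht
    have key : ∀ r : F, ∃ m : F, s = m ∧ σ r * t = m * r := fun r => by
      obtain ⟨m, hm⟩ := h (a + r • c) (hL.form_mem (mem_pair.2 ⟨1, r, by rw [one_smul]⟩))
      rw [map_add, g.map_smulₛₗ, hs, ht] at hm
      obtain ⟨e1, e2⟩ := hL.coeff (a := s - m) (b := σ r * t - m * r)
        (by linear_combination (norm := module) hm)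
      exact ⟨m, sub_eq_zero.1 e1, sub_eq_zero.1 e2⟩
    obtain ⟨m, hm1, hm2⟩ := key 1
    rw [map_one, one_mul, mul_one] at hm2
    have hst : s = t := hm1.trans hm2.symm
    refine ⟨hst, fun r => ?_⟩
    obtain ⟨m', h1, h2⟩ := key r
    rw [← h1, ← hst, mul_comm] at h2
    refine mul_left_cancel₀ (fun e => hL.u0 (hg ?_)) h2
    rw [hs, e, zero_smul, map_zero]
  haveI := hS.fin
  haveI := hS.fd
  obtain ⟨a, -, ha0, ha⟩ := OrthStab.exists_singular_mem (Q := Q) ⊤
    (by rw [finrank_top]; have := hS.dim; omega)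
  obtain ⟨s, hs⟩ := h a ha
  have hall : ∀ b, Q b = 0 → g b = s • b := by
    intro b hb
    by_cases hb0 : b = 0
    · simp [hb0]
    obtain ⟨t, ht⟩ := h b hb
    obtain ⟨c, hc, hac, hbc, hc'⟩ := hS.exists_orth a b
    obtain ⟨r, hr⟩ := h c hc
    have e1 := (hk a c ⟨ha, hc, hac, ha0, fun x e => hc' (mem_pair.2 ⟨x, 0, by simp [e]⟩)⟩ s r hs hr).1
    have e2 := (hk b c ⟨hb, hc, hbc, hb0, fun x e => hc' (mem_pair.2 ⟨0, x, by simp [e]⟩)⟩ t r ht hr).1
    rw [ht, e2, ← e1]
  obtain ⟨c, -, hac, -, -⟩ := exists_line_through hS ha ha0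
  refine ⟨RingHom.ext (hk a c hac s s hs (hall c hac.qz)).2, s, fun e => ha0 (hg ?_), fun x => ?_⟩
  · rw [hs, e, zero_smul, map_zero]
  · obtain ⟨b, hb, hab⟩ := exists_pair hS.nd.nonsing ha ha0
    have hx := mem_closure_singular (K := (⊤ : Submodule F V)) trivial trivial ha hb hab
      (v := x) trivial
    induction hx using AddSubgroup.closure_induction with
    | mem y hy => exact hall y hy.2
    | zero => simp
    | add y z _ _ hy hz => rw [map_add, hy, hz, smul_add]
    | neg y _ hy => rw [map_neg, hy, smul_neg]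

/-- Elements commuting with all root elements fix all singular points. -/
theorem fix_points_of_conj (hS : Setup Q) {g : V → V}
    (h : ∀ u z, IsLn Q u z → g u ∈ Submodule.span F ({u, z} : Set V)) :
    ∀ a, Q a = 0 → a ≠ 0 → ∃ c : F, g a = c • a := by
  intro a ha ha0
  obtain ⟨c, d, hc, hd, hcd⟩ := exists_line_through hS ha ha0
  exact hcd _ (h a c hc) (h a d hd)

theorem center_scalar (hS : Setup Q) {g : Om Q} (hg : g ∈ Subgroup.center (Om Q)) :
    ∃ c : F, c * c = 1 ∧ ∀ x, g.1.1 x = c • x := by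
  have hl : ∀ u z, IsLn Q u z → g.1.1 u ∈ Submodule.span F ({u, z} : Set V) := by
    intro u z hL
    have e : eich Q (g.1.1 u) (g.1.1 z) = eich Q u z := by
      rw [← conj_eich, ← eo_coe, ← Subgroup.coe_inv, ← Subgroup.coe_mul, ← Subgroup.coe_mul]
      exact congrArg Subtype.val (mul_inv_eq_iff_eq_mul.2 (Subgroup.mem_center_iff.1 hg _).symm)
    have := span_eq_of_eich_eq hS (by rw [map_form, hL.qu]) (by rw [map_polar, hL.uz])
      (fun e0 => hL.u0 (g.1.1.map_eq_zero_iff.1 e0))
      (fun t e0 => hL.ind t (g.1.1.injective (by rw [e0, map_smul])))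
      hL.qu hL.uz hL.u0 hL.ind e
    rw [← this]
    exact Submodule.subset_span (Set.mem_insert _ _)
  obtain ⟨-, c, -, hc⟩ := scalar_of_fix_points hS (σ := RingHom.id F) g.1.1.toLinearMap
    g.1.1.injective fun a ha => by
      by_cases ha0 : a = 0
      · exact ⟨0, by simp [ha0]⟩
      · exact fix_points_of_conj hS hl a ha ha0
  simp only [LinearEquiv.coe_coe] at hc
  refine ⟨c, ?_, hc⟩
  haveI := hS.fin
  haveI := hS.fd
  obtain ⟨a, -, ha0, ha⟩ := OrthStab.exists_singular_mem (Q := Q) ⊤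
    (by rw [finrank_top]; have := hS.dim; omega)
  obtain ⟨b, hb, hab⟩ := exists_pair hS.nd.nonsing ha ha0
  have := map_polar g.1 a b
  rwa [hc, hc, polar_smul_left, polar_smul_right, hab, smul_eq_mul, smul_eq_mul, mul_one] at this

theorem mem_center_of_scalar {g : Om Q} {c : F} (h : ∀ x, g.1.1 x = c • x) :
    g ∈ Subgroup.center (Om Q) :=
  Subgroup.mem_center_iff.2 fun k => Subtype.ext (orth_ext fun x => by
    simp [h])

/-! ### Unipotent lifts -/

/-- `p`-elements of `Ω`, `p` the characteristic. -/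
def IsU (g : Om Q) : Prop := ∃ k : ℕ, g ^ ringChar F ^ k = 1

theorem eich_pow {u z : V} (hu : Q u = 0) (hz : polar Q u z = 0) :
    ∀ k : ℕ, eich Q u z ^ k = eich Q u ((k : F) • z)
  | 0 => by simp [eich_zero]
  | k + 1 => by
    rw [pow_succ, eich_pow hu hz k, eich_mul hu (by simp [hz]) hz]
    congr 1
    push_cast
    module

theorem eo_isU {u z : V} (hu : Q u = 0) (hz : polar Q u z = 0) : IsU (eo Q u z) := by
  refine ⟨1, Subtype.ext ?_⟩
  rw [SubgroupClass.coe_pow, eo_coe, eich_pow hu hz, pow_one, ringChar.Nat.cast_ringChar,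
    zero_smul, eich_zero]
  rfl

theorem IsU.conj {g : Om Q} (h : IsU g) (x : Om Q) : IsU (x * g * x⁻¹) := by
  obtain ⟨k, hk⟩ := h
  exact ⟨k, by rw [conj_pow, hk, mul_one, mul_inv_cancel]⟩

theorem piO_inj (hS : Setup Q) {g g' : Om Q} (h : IsU g) (h' : IsU g')
    (e : piO Q g = piO Q g') : g = g' := by
  haveI := hS.fin
  obtain ⟨z, hz, rfl⟩ := (QuotientGroup.mk'_eq_mk' _).1 e
  obtain ⟨c, hc2, hc⟩ := center_scalar hS hz
  rcases mul_self_eq_one_iff.1 hc2 with rfl | rfl
  · rw [show z = 1 from Subtype.ext (orth_ext fun x => by simp [hc]), mul_one]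
  · obtain ⟨k, hk⟩ := h
    obtain ⟨l, hl⟩ := h'
    set p := ringChar F with hp
    have hpk : g ^ p ^ (k + l) = 1 := by rw [pow_add, pow_mul, hk, one_pow]
    have hpl : (g * z) ^ p ^ (k + l) = 1 := by rw [add_comm k, pow_add, pow_mul, hl, one_pow]
    rw [(show Commute g z from Subgroup.mem_center_iff.1 hz g).mul_pow, hpk, one_mul] at hpl
    by_cases h2 : (2 : F) = 0
    · rw [show z = 1 from Subtype.ext (orth_ext fun x => by
        rw [hc, neg_one_smul]
        show -x = x
        rw [neg_eq_iff_add_eq_zero, ← two_smul F, h2, zero_smul]), mul_one]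
    · have hodd : Odd (p ^ (k + l)) := by
        haveI := Fact.mk (CharP.char_is_prime F p)
        refine ((Nat.Prime.eq_two_or_odd' (CharP.char_is_prime F p)).resolve_left fun e2 => h2 ?_).pow
        have := ringChar.Nat.cast_ringChar (R := F)
        rw [← hp, e2] at this
        simpa using this
      have hz2 : z * z = 1 := Subtype.ext (orth_ext fun x => by simp [hc])
      obtain ⟨j, hj⟩ := hodd
      rw [hj, pow_add, pow_mul, pow_two, hz2, one_pow, one_mul, pow_one] at hpl
      rw [hpl, mul_one]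

theorem conj_eq_of_comm (hS : Setup Q) {g h : Om Q} (hh : IsU h)
    (hc : Commute (piO Q g) (piO Q h)) : g * h * g⁻¹ = h :=
  piO_inj hS (hh.conj g) hh (by rw [map_mul, map_mul, map_inv, hc.eq, mul_inv_cancel_right])

theorem span_conj_eq (hS : Setup Q) {a w : V} (ha : Q a = 0) (haw : polar Q a w = 0) (ha0 : a ≠ 0)
    (hind : ∀ c : F, w ≠ c • a) {g : Om Q} (hc : Commute (piO Q g) (eb Q a w)) :
    eich Q (g.1.1 a) (g.1.1 w) = eich Q a w ∧
      Submodule.span F ({g.1.1 a, g.1.1 w} : Set V) = Submodule.span F ({a, w} : Set V) := by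
  have e : eich Q (g.1.1 a) (g.1.1 w) = eich Q a w := by
    rw [← conj_eich]
    exact congrArg Subtype.val (conj_eq_of_comm hS (eo_isU ha haw) hc)
  exact ⟨e, span_eq_of_eich_eq hS (by rw [map_form, ha]) (by rw [map_polar, haw])
      (fun e0 => ha0 (g.1.1.map_eq_zero_iff.1 e0))
      (fun t e0 => hind t (g.1.1.injective (by rw [e0, map_smul])))
      ha haw ha0 hind e⟩

end Cfsg.Agent.CG26.AutPO
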