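import Cfsg.Agent.CG26.AutPO.Main

/-!
Counting semisimilitudes: the order of `Aut(PΩ(Q))`.
-/

set_option autoImplicit false

namespace Cfsg.Agent.CG26.AutPO

open QuadraticMap Cfsg.Agent.UnitaryOrthogonal

universe u v

variable {F : Type u} [Field F] {V : Type v} [AddCommGroup V] [Module F V] {Q : QuadraticForm F V}

theorem Setup.exists_one (hS : Setup Q) : ∃ x, Q x = 1 := by
  haveI := hS.fd
  haveI := hS.fin
  obtain ⟨e, -, he0, hQe⟩ := OrthStab.exists_singular_mem (Q := Q) ⊤
    (by rw [finrank_top]; have := hS.dim; omega)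
  obtain ⟨f, hQf, hef⟩ := exists_pair hS.nd.nonsing hQe he0
  exact ⟨e + f, by simp [form_add, hQe, hQf, hef]⟩

namespace Sim

theorem ext' (hS : Setup Q) {s t : Sim Q} (hσ : s.σ = t.σ) (hg : ∀ x, s.g x = t.g x) : s = t := by
  obtain ⟨x, hx⟩ := hS.exists_one
  have hμ : s.μ = t.μ := by
    have := s.form' x
    rw [hg, t.form', hσ, hx, map_one, mul_one, mul_one] at this
    exact this.symm
  cases s
  cases t
  cases AddEquiv.ext hg
  simp only at hσ hμ
  subst hσ hμ
  rfl

/-- Composition. -/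
def comp (s t : Sim Q) : Sim Q where
  σ := t.σ.trans s.σ
  g := t.g.trans s.g
  map_smul' c x := by simp [t.map_smul', s.map_smul']
  μ := s.μ * s.σ t.μ
  μ0 := mul_ne_zero s.μ0 ((map_ne_zero s.σ).2 t.μ0)
  form' x := by simp [s.form', t.form', mul_assoc]

/-- An isometry as a semisimilitude. -/
def ofOrth (h : orth Q) : Sim Q where
  σ := RingEquiv.refl F
  g := h.1.toAddEquiv
  map_smul' c x := by simp
  μ := 1
  μ0 := one_ne_zero
  form' x := by simp

/-- Multiplication by a scalar. -/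
noncomputable def scale (c : Fˣ) (s : Sim Q) : Sim Q where
  σ := s.σ
  g := s.g.trans (LinearEquiv.smulOfUnit c : V ≃ₗ[F] V).toAddEquiv
  map_smul' d x := by
    show (c : F) • s.g (d • x) = s.σ d • (c : F) • s.g x
    rw [s.map_smul', smul_comm]
  μ := (c : F) * c * s.μ
  μ0 := mul_ne_zero (mul_ne_zero c.ne_zero c.ne_zero) s.μ0
  form' x := by
    show Q ((c : F) • s.g x) = _
    rw [form_smul, s.form']
    ring

theorem scale_g (c : Fˣ) (s : Sim Q) (x : V) : (s.scale c).g x = (c : F) • s.g x := rfl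

theorem scale_aut (c : Fˣ) (s : Sim Q) : (s.scale c).aut = s.aut := by
  refine MulEquiv.ext fun x => ?_
  obtain ⟨h, rfl⟩ := piO_surjective x
  rw [aut_piO, aut_piO]
  refine congrArg _ (Subtype.ext (orth_ext fun y => ?_))
  show (s.scale c).g (h.1.1 ((s.scale c).g.symm y)) = s.g (h.1.1 (s.g.symm y))
  obtain ⟨y, rfl⟩ := (s.scale c).g.surjective y
  rw [AddEquiv.symm_apply_apply, scale_g, scale_g, s.symm_smul, s.g.symm_apply_apply, map_smul,
    s.map_smul', s.σ.apply_symm_apply]

/-- A semisimilitude from its map. -/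
noncomputable def ofMap (hS : Setup Q) (σ : F ≃+* F) (T : V → V)
    (hadd : ∀ x y, T (x + y) = T x + T y) (hsmul : ∀ (c : F) x, T (c • x) = σ c • T x)
    (μ : F) (hμ : μ ≠ 0) (hform : ∀ x, Q (T x) = μ * σ (Q x)) : Sim Q where
  σ := σ
  g :=
    haveI := hS.finiteV
    AddEquiv.mk (Equiv.ofBijective T (Finite.injective_iff_bijective.1 (fun x y hxy => by
      refine sub_eq_zero.1 (hS.nd _ fun z => σ.injective (mul_left_cancel₀ hμ ?_))
      have hp : ∀ a b, polar Q (T a) (T b) = μ * σ (polar Q a b) := fun a b => by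
        simp only [polar, ← hadd, hform, map_sub σ, mul_sub]
      rw [map_zero, mul_zero, polar_sub_left, map_sub, mul_sub, ← hp, ← hp, hxy, sub_self]))) hadd
  map_smul' := hsmul
  μ := μ
  μ0 := hμ
  form' := hform

end Sim

/-- The number of automorphisms induced by semisimilitudes, given the possible multipliers. -/
theorem card_range_aut (hS : Setup Q) (M : Set F)
    (hex : ∀ (σ : F ≃+* F), ∀ μ ∈ M, ∃ s : Sim Q, s.σ = σ ∧ s.μ = μ)
    (hmem : ∀ s : Sim Q, s.μ ∈ M) :
    Nat.card (Set.range (Sim.aut (Q := Q))) * (Nat.card F - 1) =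
      Nat.card (F ≃+* F) * M.ncard * Nat.card (orth Q) := by
  haveI := hS.fin
  haveI := hS.finiteV
  choose s₀ hσ₀ hμ₀ using hex
  let φ : (F ≃+* F) × M × orth Q → Sim Q := fun p => (s₀ p.1 p.2.1 p.2.1.2).comp (Sim.ofOrth p.2.2)
  have hφσ : ∀ p, (φ p).σ = p.1 := fun p => RingEquiv.ext fun x => by
    show (s₀ p.1 p.2.1 p.2.1.2).σ x = p.1 x
    rw [hσ₀]
  have hφμ : ∀ p, (φ p).μ = p.2.1 := fun p => by
    show (s₀ p.1 p.2.1 p.2.1.2).μ * (s₀ p.1 p.2.1 p.2.1.2).σ 1 = p.2.1
    rw [map_one, mul_one, hμ₀]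
  have hinj : Function.Injective φ := by
    rintro ⟨σ, ⟨μ, hμ⟩, h⟩ ⟨σ', ⟨μ', hμ'⟩, h'⟩ e
    obtain rfl : σ = σ' := by
      have := congrArg Sim.σ e
      rwa [hφσ, hφσ] at this
    obtain rfl : μ = μ' := by
      have := congrArg Sim.μ e
      rwa [hφμ, hφμ] at this
    obtain rfl : h = h' := orth_ext fun x => (s₀ σ μ hμ).g.injective
      (congrArg (fun s : Sim Q => s.g x) e)
    rfl
  have hsurj : Function.Surjective φ := by
    intro t
    let s := s₀ t.σ t.μ (hmem t)
    have hσ : s.σ = t.σ := hσ₀ _ _ _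
    have hμ : s.μ = t.μ := hμ₀ _ _ _
    let L : V ≃ₗ[F] V :=
      { t.g.trans s.g.symm with
        map_smul' := fun c x => by
          show s.g.symm (t.g (c • x)) = c • s.g.symm (t.g x)
          rw [t.map_smul', s.symm_smul, hσ, t.σ.symm_apply_apply] }
    have hL : L ∈ orth Q := fun x => by
      apply t.σ.injective
      refine mul_left_cancel₀ t.μ0 ?_
      show t.μ * t.σ (Q (s.g.symm (t.g x))) = _
      rw [← t.form' x, ← hσ, ← hμ, ← s.form', s.g.apply_symm_apply]
    refine ⟨(t.σ, ⟨t.μ, hmem t⟩, ⟨L, hL⟩), Sim.ext' hS (hφσ _) fun x => ?_⟩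
    show s.g (s.g.symm (t.g x)) = t.g x
    rw [s.g.apply_symm_apply]
  have h1 := Nat.card_congr (Equiv.ofBijective φ ⟨hinj, hsurj⟩)
  rw [Nat.card_prod, Nat.card_prod, Nat.card_coe_set_eq, ← mul_assoc] at h1
  rw [h1]
  choose sel hsel using fun a : Set.range (Sim.aut (Q := Q)) => a.2
  let ψ : Set.range (Sim.aut (Q := Q)) × Fˣ → Sim Q := fun p => (sel p.1).scale p.2
  have hψ : Function.Bijective ψ := by
    constructor
    · rintro ⟨α, c⟩ ⟨β, d⟩ e
      have hαβ : α = β := by
        have := congrArg Sim.aut e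
        rw [Sim.scale_aut, Sim.scale_aut, hsel, hsel] at this
        exact Subtype.ext this
      subst hαβ
      obtain ⟨x, hx⟩ := hS.exists_one
      have e' : (c : F) • (sel α).g x = (d : F) • (sel α).g x := congrArg (fun s : Sim Q => s.g x) e
      have hne : (sel α).g x ≠ 0 := fun h => by
        rw [(sel α).g.map_eq_zero_iff.1 h, QuadraticMap.map_zero] at hx
        exact zero_ne_one hx
      obtain rfl : c = d := Units.ext (smul_left_injective F hne e')
      rfl
    · intro t
      obtain ⟨hσ, c, hc, hcg⟩ := Sim.unique hS t (sel ⟨t.aut, t, rfl⟩) (hsel ⟨t.aut, t, rfl⟩).symm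
      refine ⟨(⟨t.aut, t, rfl⟩, Units.mk0 c hc), Sim.ext' hS hσ.symm fun x => ?_⟩
      exact (hcg x).symm
  rw [← Nat.card_congr (Equiv.ofBijective ψ hψ), Nat.card_prod, Nat.card_units]

/-- The order of `Aut(PΩ(Q))`, given the possible multipliers. -/
theorem card_aut (hS : Setup Q) (hB : Big Q) (M : Set F)
    (hex : ∀ (σ : F ≃+* F), ∀ μ ∈ M, ∃ s : Sim Q, s.σ = σ ∧ s.μ = μ)
    (hmem : ∀ s : Sim Q, s.μ ∈ M) :
    Nat.card (MulAut (PO Q)) * (Nat.card F - 1) =
      Nat.card (F ≃+* F) * M.ncard * Nat.card (orth Q) := by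
  rw [← card_range_aut hS M hex hmem]
  congr 1
  exact Nat.card_congr
    (Equiv.subtypeUnivEquiv (p := (· ∈ Set.range (Sim.aut (Q := Q)))) (exists_sim_aut hS hB)).symm

/-- Totally singular subspaces of dimension at most three exclude disjoint orthogonal lines. -/
theorem noOD_of_singular_le [FiniteDimensional F V]
    (h : ∀ U : Submodule F V, (∀ x ∈ U, Q x = 0) → Module.finrank F U ≤ 3) : NoOD Q := by
  intro L M hL hM ho
  by_contra hm
  have two : ∀ N : Submodule F V, Ln Q N → 2 ≤ Module.finrank F N := by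
    rintro _ ⟨u, z, hi, rfl⟩
    have h1 : Module.finrank F (Submodule.span F ({u} : Set V)) = 1 := finrank_span_singleton hi.u0
    have hlt : Submodule.span F ({u} : Set V) < Submodule.span F ({u, z} : Set V) :=
      lt_of_le_of_ne (Submodule.span_mono (by simp)) fun e => by
        obtain ⟨c, hc⟩ := Submodule.mem_span_singleton.1
          (show z ∈ Submodule.span F ({u} : Set V) from e ▸ IsLn.span_mem_right)
        exact hi.ind c hc.symm
    have := Submodule.finrank_lt_finrank_of_lt hlt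
    omega
  have hinf : L ⊓ M = ⊥ := (Submodule.eq_bot_iff _).2 fun x hx => by
    by_contra hx0
    exact hm ⟨x, hx.1, hx.2, hx0⟩
  have e := Submodule.finrank_sup_add_finrank_inf_eq L M
  rw [hinf, finrank_bot] at e
  have := two L hL
  have := two M hM
  have := h (L ⊔ M) fun x hx => by
    obtain ⟨l, hl, m, hm', rfl⟩ := Submodule.mem_sup.1 hx
    have hQl : Q l = 0 := by
      obtain ⟨u, z, hi, rfl⟩ := hL
      exact hi.form_mem hl
    have hQm : Q m = 0 := by
      obtain ⟨u, z, hi, rfl⟩ := hM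
      exact hi.form_mem hm'
    rw [form_add, hQl, hQm, ho l hl m hm', add_zero, add_zero]
  omega

/-- A totally singular subspace has at most half the dimension. -/
theorem finrank_singular_le [FiniteDimensional F V] (hnd : PolarND Q) (U : Submodule F V)
    (hU : ∀ x ∈ U, Q x = 0) : 2 * Module.finrank F U ≤ Module.finrank F V := by
  let ψ : U →ₗ[F] Module.Dual F V := (polarBilin Q).comp U.subtype
  have hinj : Function.Injective ψ := (injective_iff_map_eq_zero _).2 fun x hx =>
    Subtype.ext (hnd _ fun y => DFunLike.congr_fun hx y)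
  have hle : LinearMap.range ψ ≤ Submodule.dualAnnihilator U := by
    rintro _ ⟨x, rfl⟩
    refine (Submodule.mem_dualAnnihilator _).2 fun y hy => ?_
    show polar Q (x : V) y = 0
    simp [polar, hU _ (U.add_mem x.2 hy), hU _ x.2, hU _ hy]
  have h1 := Submodule.finrank_mono hle
  rw [LinearMap.finrank_range_of_inj hinj] at h1
  have h2 := Subspace.finrank_add_finrank_dualAnnihilator_eq U
  omega

end Cfsg.Agent.CG26.AutPO
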