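import Cfsg.Agent.CG26.AutPO.D4Mon

/-!
Every automorphism of `PΩ⁺_8(q)` is a power of triality times a semisimilitude.
-/

set_option autoImplicit false

namespace Cfsg.Agent.CG26.AutPO.D4

open QuadraticMap Cfsg.Lie Cfsg.Agent.UnitaryOrthogonal Cfsg.Agent.UnitaryOrthogonal.Adjoint

universe u

variable {F : Type u} [Field F]

/-- The roots of the base pair and of its two images. -/
abbrev r0 : Fin chevD4.nroots := ⟨22, by decide⟩
@[inherit_doc r0] abbrev r1 : Fin chevD4.nroots := ⟨19, by decide⟩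
@[inherit_doc r0] abbrev r2 : Fin chevD4.nroots := ⟨16, by decide⟩
@[inherit_doc r0] abbrev r3 : Fin chevD4.nroots := ⟨15, by decide⟩

theorem d4Pair_vals : d4Pair r0 = (.inl 0, .inl 2, 1) ∧ d4Pair r1 = (.inl 0, .inr 2, -1) ∧
    d4Pair r2 = (.inl 1, .inr 3, -1) ∧ d4Pair r3 = (.inl 1, .inl 3, -1) := by decide +kernel

theorem lnR_r0 : lnR (F := F) r0 = Submodule.span F {bv (.inl 0), bv (.inl 2)} := by
  rw [lnR, d4Pair_vals.1]

theorem lnR_r2 : lnR (F := F) r2 = Submodule.span F {bv (.inl 1), bv (.inr 3)} := by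
  rw [lnR, d4Pair_vals.2.2.1]

theorem isA_base : IsA (qPlus 4 F) (lnR r0) (lnR r1) := by
  refine ⟨bv (.inl 0), bv (.inl 2), bv (.inr 2), isLn_bv (by decide) (by decide),
    isLn_bv (by decide) (by decide), ?_, ?_, ?_⟩
  · rw [polar_bv]; simp
  · rw [lnR, d4Pair_vals.1]
  · rw [lnR, d4Pair_vals.2.1]

theorem not_meet_root : ∀ r, (r = r2 ∨ r = r3) → ¬ Meet (lnR (F := F) r0) (lnR r) := by
  rintro r hr ⟨v, h1, h2, h0⟩
  refine h0 (funext fun i => ?_)
  rw [lnR_r0] at h1
  obtain ⟨a, b, rfl⟩ := mem_pair.1 h1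
  obtain ⟨c, d, e⟩ := mem_pair.1 (show _ ∈ Submodule.span F
    ({bv (d4Pair r).1, bv (d4Pair r).2.1} : Set (I4 → F)) from h2)
  have e0 := congrFun e (.inl 0)
  have e2 := congrFun e (.inl 2)
  rcases hr with rfl | rfl <;>
    · simp only [d4Pair_vals] at e0 e2
      simp at e0 e2
      simp [← e0, ← e2]

variable [Fintype F]

theorem tau_mapsLn (r : Fin chevD4.nroots) : MapsLn (tau (F := F)) (lnR r) (lnR (rho r)) :=
  mapsLn_of_X (eps_ne_zero r) (tau_X r)

theorem tau_base : MapsLn (tau (F := F)) (lnR r0) (lnR r0) ∧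
    MapsLn (tau (F := F)) (lnR r1) (lnR r2) := by
  have h : rho r0 = r0 ∧ rho r1 = r2 := by decide +kernel
  refine ⟨?_, ?_⟩
  · have := tau_mapsLn (F := F) r0; rwa [h.1] at this
  · have := tau_mapsLn (F := F) r1; rwa [h.2] at this

theorem tau_sq_base : MapsLn (tau (F := F) * tau) (lnR r0) (lnR r0) ∧
    MapsLn (tau (F := F) * tau) (lnR r1) (lnR r3) := by
  have h : rho r2 = r3 := by decide +kernel
  refine ⟨tau_base.1.trans tau_base.1, tau_base.2.trans ?_⟩
  have := tau_mapsLn (F := F) r2; rwa [h] at this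

theorem tau_notMem : tau (F := F) ∉ simRange (qPlus 4 F) :=
  notMem_simRange setup4 isA_base tau_base.1 tau_base.2 (not_meet_root _ (Or.inl rfl))

theorem tau_sq_notMem : tau (F := F) * tau ∉ simRange (qPlus 4 F) :=
  notMem_simRange setup4 isA_base tau_sq_base.1 tau_sq_base.2 (not_meet_root _ (Or.inr rfl))

/-! ### Hyperbolic bases on a totally singular solid -/

theorem exists_dual_vec {u : Fin 4 → (I4 → F)}
    (hind : ∀ c : Fin 4 → F, ∑ i, c i • u i = 0 → c = 0) (d : Fin 4 → F) :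
    ∃ x, ∀ i, polar (qPlus 4 F) (u i) x = d i := by
  let Φ : (I4 → F) →ₗ[F] (Fin 4 → F) := LinearMap.pi fun i => polarBilin (qPlus 4 F) (u i)
  suffices LinearMap.range Φ = ⊤ by
    obtain ⟨x, hx⟩ := LinearMap.range_eq_top.1 this d
    exact ⟨x, congrFun hx⟩
  by_contra hne
  obtain ⟨g, hg0, hg⟩ := Submodule.exists_le_ker_of_lt_top _ (lt_top_iff_ne_top.2 hne)
  set c : Fin 4 → F := fun i => g (Pi.single i 1) with hcdef
  have hgc : ∀ y : Fin 4 → F, g y = ∑ i, y i * c i := fun y => by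
    conv_lhs => rw [pi_eq_sum_univ' y]
    simp [map_sum, hcdef]
  refine hg0 (LinearMap.ext fun y => ?_)
  have hc : c = 0 := hind c (setup4.nd _ fun x => by
    rw [← polarBilin_apply_apply, map_sum]
    simp only [LinearMap.sum_apply, map_smul, LinearMap.smul_apply, smul_eq_mul,
      polarBilin_apply_apply]
    have : g (Φ x) = 0 := hg ⟨x, rfl⟩
    rw [hgc] at this
    rw [← this]
    exact Finset.sum_congr rfl fun i _ => mul_comm _ _)
  rw [hgc, hc, LinearMap.zero_apply]
  simp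

theorem exists_orth_solid {u : Fin 4 → (I4 → F)} (hu : ∀ i, qPlus 4 F (u i) = 0)
    (huu : ∀ i j, polar (qPlus 4 F) (u i) (u j) = 0)
    (hind : ∀ c : Fin 4 → F, ∑ i, c i • u i = 0 → c = 0) :
    ∃ h : orth (qPlus 4 F), ∀ i, h.1 (bv (.inl i)) = u i := by
  classical
  choose x hx using fun j : Fin 4 => exists_dual_vec hind (Pi.single j 1)
  let Q := qPlus 4 F
  let v : Fin 4 → (I4 → F) := fun j =>
    x j + (-Q (x j)) • u j +
      ∑ i, (if i < j then -polar Q (x i) (x j) else 0) • u i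
  have hsum : ∀ (c : Fin 4 → F) (y : I4 → F),
      polar Q (∑ i, c i • u i) y = ∑ i, c i * polar Q (u i) y := fun c y => by
    rw [← polarBilin_apply_apply, map_sum]
    simp
  have hux : ∀ i j, polar Q (u i) (x j) = if i = j then 1 else 0 := fun i j => by
    rw [hx j i, Pi.single_apply]
  have huv : ∀ i j, polar Q (u i) (v j) = if i = j then 1 else 0 := fun i j => by
    simp only [v, polar_add_right, polar_smul_right, polar_comm Q (u i) (∑ k, _), hsum,
      polar_comm Q _ (u i), huu, hux, Q, smul_zero, mul_zero, Finset.sum_const_zero, add_zero]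
  have hqu : ∀ c : Fin 4 → F, Q (∑ i, c i • u i) = 0 := fun c => by
    simp [Fin.sum_univ_four, Q, form_add, form_smul, hu, huu]
  have hxu : ∀ i j, polar (qPlus 4 F) (x i) (u j) = if j = i then 1 else 0 := fun i j => by
    rw [polar_comm]; exact hux j i
  have hux' : ∀ i j, polar (qPlus 4 F) (u i) (x j) = if i = j then 1 else 0 := hux
  have hv : ∀ j, Q (v j) = 0 := fun j => by
    simp only [v, form_add, hqu, polar_add_left, polar_smul_left, polar_comm Q _ (∑ k, _), hsum,
      polar_add_right, polar_smul_right, hxu, hux', Q, huu, form_smul, hu, smul_eq_mul]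
    simp
  have hvv : ∀ i j, i < j → polar Q (v i) (v j) = 0 := fun i j hij => by
    simp only [v, polar_add_left, polar_smul_left, polar_add_right, polar_smul_right, hsum,
      polar_comm Q _ (∑ k, _), polar_comm Q (x i) (u _), hux, huu, Q]
    simp [hij.ne', hij.ne, not_lt.2 hij.le, hij]
  have hvv' : ∀ i j, polar Q (v i) (v j) = 0 := fun i j => by
    rcases lt_trichotomy i j with h | rfl | h
    · exact hvv i j h
    · exact polar_self_zero (hv i)
    · rw [polar_comm]; exact hvv j i h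
  let T : (I4 → F) →ₗ[F] (I4 → F) :=
    ∑ i, (LinearMap.proj (Sum.inl i)).smulRight (u i) +
      ∑ i, (LinearMap.proj (Sum.inr i)).smulRight (v i)
  have hT : ∀ y, T y = ∑ i, y (Sum.inl i) • u i + ∑ i, y (Sum.inr i) • v i := fun y => by
    simp [T, LinearMap.sum_apply]
  have hQ : ∀ y, Q (T y) = Q y := fun y => by
    have hvu : ∀ i j, polar Q (v i) (u j) = if j = i then 1 else 0 := fun i j => by
      rw [polar_comm]; exact huv j i
    have hu' : ∀ i, Q (u i) = 0 := hu
    have huu' : ∀ i j, polar Q (u i) (u j) = 0 := huu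
    rw [hT, show Q y = Cfsg.quadFormPlus 4 F y from qPlus_apply 4 y]
    simp [Fin.sum_univ_four, form_add, form_smul, hv, hvv', hu', huu', huv, hvu,
      Cfsg.quadFormPlus]
    ring
  have hinj : Function.Injective T := by
    rw [injective_iff_map_eq_zero]
    intro y hy
    refine setup4.nd _ fun z => ?_
    have h1 : polar Q (T y) (T z) = polar Q y z := by
      simp only [polar, ← map_add, hQ]
    rw [hy, polar_zero_left] at h1
    exact h1.symm
  refine ⟨⟨LinearEquiv.ofInjectiveEndo T hinj, hQ⟩, fun i => ?_⟩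
  show T (bv (.inl i)) = u i
  rw [hT]
  simp [Pi.single_apply]

theorem exists_orth_pair {L M : Submodule F (I4 → F)} (hL : Ln (qPlus 4 F) L)
    (hM : Ln (qPlus 4 F) M) (ho : Orth (qPlus 4 F) L M) (hm : ¬ Meet L M) :
    ∃ h : orth (qPlus 4 F), MapsLn (Sim.ofOrth h).aut (lnR r0) L ∧
      MapsLn (Sim.ofOrth h).aut (lnR r2) M := by
  obtain ⟨a, b, hab, rfl⟩ := hL
  obtain ⟨c, d, hcd, rfl⟩ := hM
  obtain ⟨h, hh⟩ := exists_orth_solid (u := ![a, c, b, d])
    (fun i => by fin_cases i <;> simp [hab.qu, hab.qz, hcd.qu, hcd.qz])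
    (fun i j => by
      have o : ∀ x ∈ ({a, b} : Set (I4 → F)), ∀ y ∈ ({c, d} : Set (I4 → F)),
          polar (qPlus 4 F) x y = 0 :=
        fun x hx y hy => ho x (Submodule.subset_span hx) y (Submodule.subset_span hy)
      have o1 := o a (by simp) c (by simp)
      have o2 := o a (by simp) d (by simp)
      have o3 := o b (by simp) c (by simp)
      have o4 := o b (by simp) d (by simp)
      fin_cases i <;> fin_cases j <;>
        simp [o1, o2, o3, o4, polar_comm _ c a, polar_comm _ d a, polar_comm _ c b,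
          polar_comm _ d b, polar_comm _ b a, polar_comm _ d c, hab.uz, hcd.uz,
          polar_self_zero hab.qu, polar_self_zero hab.qz, polar_self_zero hcd.qu,
          polar_self_zero hcd.qz])
    (fun k hk => by
      have hzero : k 0 • a + k 2 • b = 0 := by
        by_contra hne
        refine hm ⟨k 0 • a + k 2 • b, mem_pair.2 ⟨_, _, rfl⟩,
          mem_pair.2 ⟨-k 1, -k 3, ?_⟩, hne⟩
        simp [Fin.sum_univ_four] at hk
        linear_combination (norm := module) (-1 : F) • hk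
      obtain ⟨k0, k2⟩ := hab.coeff hzero
      obtain ⟨k1, k3⟩ := hcd.coeff (a := k 1) (b := k 3) (by
        simpa [Fin.sum_univ_four, k0, k2] using hk)
      funext i
      fin_cases i <;> simp [k0, k1, k2, k3])
  have hsi : ∀ i, (h * sw).1 (bv i) = h.1 (bv (swI i)) := fun i => by rw [coe_mul_apply, sw_bv]
  have g0 : (h * sw).1 (bv (.inl 0)) = a := (hsi _).trans (hh 0)
  have g2 : (h * sw).1 (bv (.inl 2)) = b := (hsi _).trans (hh 2)
  have g1 : (h * sw).1 (bv (.inl 1)) = c := (hsi _).trans (hh 1)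
  have g3 : (h * sw).1 (bv (.inr 3)) = d := (hsi _).trans (hh 3)
  refine ⟨h * sw, ?_, ?_⟩
  · have := (Sim.ofOrth (h * sw)).mapsLn
      (isLn_bv (F := F) (a := .inl 0) (b := .inl 2) (by decide) (by decide))
    rw [lnR_r0]
    convert this using 1
    exact (by rw [← g0, ← g2]; rfl)
  · have := (Sim.ofOrth (h * sw)).mapsLn
      (isLn_bv (F := F) (a := .inl 1) (b := .inr 3) (by decide) (by decide))
    rw [lnR_r2]
    convert this using 1
    exact (by rw [← g1, ← g3]; rfl)

/-- The action of isometries. -/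
noncomputable def orthAut : orth (qPlus 4 F) →* MulAut (PO (qPlus 4 F)) :=
  MonoidHom.mk' (fun h => (Sim.ofOrth h).aut) fun h k => by
    rw [← Sim.comp_aut]
    refine MulEquiv.ext fun x => ?_
    obtain ⟨y, rfl⟩ := piO_surjective x
    rw [Sim.aut_piO, Sim.aut_piO]
    exact congrArg _ (Subtype.ext (orth_ext fun y => rfl))

theorem orthAut_mem (h : orth (qPlus 4 F)) : orthAut h ∈ simRange (qPlus 4 F) := ⟨_, rfl⟩

theorem pres_mem {α : MulAut (PO (qPlus 4 F))} (h0 : MapsLn α (lnR r0) (lnR r0))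
    (h1 : MapsLn α (lnR r1) (lnR r1)) : α ∈ simRange (qPlus 4 F) :=
  exists_sim_aut_of setup4 (pres_of_fix setup4 isA_base h0 h1)

variable (F) in
/-- Stabiliser of the image pair. -/
noncomputable def stabB : Subgroup (orth (qPlus 4 F)) where
  carrier := {h | MapsLn (orthAut h) (lnR r0) (lnR r0) ∧ MapsLn (orthAut h) (lnR r2) (lnR r2)}
  one_mem' := by
    constructor <;>
    · rw [map_one]
      exact ⟨⟨_, _, isLn_root _, rfl⟩, ⟨_, _, isLn_root _, rfl⟩, Set.image_id _⟩
  mul_mem' {h k} hh hk := by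
    show MapsLn (orthAut (h * k)) _ _ ∧ MapsLn (orthAut (h * k)) _ _
    rw [map_mul]
    exact ⟨hk.1.trans hh.1, hk.2.trans hh.2⟩
  inv_mem' {h} hh := by
    show MapsLn (orthAut h⁻¹) _ _ ∧ MapsLn (orthAut h⁻¹) _ _
    rw [map_inv]
    exact ⟨hh.1.symm, hh.2.symm⟩

theorem mem_stabB {h : orth (qPlus 4 F)} (hd : ∀ i, ∃ c : F, h.1 (bv i) = c • bv i) :
    h ∈ stabB F := by
  have key : ∀ {a b : I4}, b ≠ a.swap → b ≠ a →
      MapsLn (orthAut h) (Submodule.span F {bv a, bv b})
        (Submodule.span F {bv a, bv b}) := by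
    intro a b h1 h2
    have hm := (Sim.ofOrth h).mapsLn (isLn_bv (F := F) h1 h2)
    convert hm using 1
    · rfl
    obtain ⟨c, hc⟩ := hd a
    obtain ⟨d, hdb⟩ := hd b
    refine (ln_eq hm.2.1 ⟨_, _, isLn_bv h1 h2, rfl⟩ (Submodule.span_le.2 ?_)).symm
    rintro v (rfl | rfl)
    · show h.1 (bv a) ∈ _
      rw [hc]; exact Submodule.smul_mem _ _ IsLn.span_mem_left
    · show h.1 (bv b) ∈ _
      rw [hdb]; exact Submodule.smul_mem _ _ IsLn.span_mem_right
  refine ⟨?_, ?_⟩
  · rw [lnR_r0]; exact key (by decide) (by decide)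
  · rw [lnR_r2]; exact key (by decide) (by decide)

set_option maxHeartbeats 1000000 in
theorem orthCls_sw_comm (h : orth (qPlus 4 F)) :
    ∃ k ∈ stabB F, orthCls h = orthCls k ∨ orthCls h = orthCls sw * orthCls k := by
  let K : Subgroup (Cfsg.Out (PO (qPlus 4 F))) :=
    { carrier := {x | ∃ k ∈ stabB F, x = orthCls k ∨ x = orthCls sw * orthCls k}
      one_mem' := ⟨1, one_mem _, Or.inl (map_one _).symm⟩
      mul_mem' := by
        have hc := fun k : orth (qPlus 4 F) => (orthCls_comm setup4 sw k).eq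
        have hs : orthCls (sw (F := F)) * orthCls sw = 1 := by
          rw [← map_mul, show sw (F := F) * sw = 1 from rf_mul_self _, map_one]
        rintro x y ⟨k, hk, hx | hx⟩ ⟨l, hl, hy | hy⟩ <;> subst hx hy <;>
          refine ⟨k * l, mul_mem hk hl, ?_⟩ <;> rw [map_mul]
        · exact Or.inl rfl
        · exact Or.inr (by rw [← mul_assoc, ← hc k, mul_assoc])
        · exact Or.inr (mul_assoc _ _ _)
        · exact Or.inl (by
            rw [hc k, mul_assoc (orthCls k), ← mul_assoc (orthCls (sw (F := F))), hs, one_mul])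
      inv_mem' := by
        have hs : (orthCls (sw (F := F)))⁻¹ = orthCls sw := by rw [← map_inv, sw, rf_inv]
        rintro x ⟨k, hk, hx | hx⟩ <;> subst hx <;> refine ⟨k⁻¹, inv_mem hk, ?_⟩
        · exact Or.inl (map_inv _ _).symm
        · refine Or.inr ?_
          rw [mul_inv_rev, hs, ← map_inv]
          exact (orthCls_comm setup4 _ _).eq }
  refine orthCls_range_le (K := K) setup4 (fun a ha => ?_) ⟨h, rfl⟩
  set c := qPlus 4 F a with hc
  set w : I4 → F := bv (.inl 3) + c • bv (.inr 3) with hw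
  have hQw : qPlus 4 F w = c := by
    simp [hw, qPlus_apply, Cfsg.quadFormPlus, Fin.sum_univ_four]
  refine ⟨sw * rf (qPlus 4 F) w, mem_stabB fun i => ?_, Or.inr ?_⟩
  · refine ⟨if i = .inl 3 then -c else if i = .inr 3 then -c⁻¹ else 1, funext fun j => ?_⟩
    rw [coe_mul_apply, sw_apply, rf_apply, hQw, hw, polar_add_left, polar_smul_left, polar_bv,
      polar_bv]
    rcases i with i | i <;> rcases j with j | j <;> fin_cases i <;> fin_cases j <;>
      simp [swI, Pi.single_apply, ha]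
  · rw [map_mul, ← mul_assoc, ← map_mul, show sw (F := F) * sw = 1 from rf_mul_self _, map_one,
      one_mul]
    exact orthCls_rf_eq setup4 ha (t := 1) (by rw [hQw, one_mul, one_mul])

theorem tau_absorb {x : MulAut (PO (qPlus 4 F))} (h0 : MapsLn x (lnR r0) (lnR r0))
    (h2 : MapsLn x (lnR r2) (lnR r2)) : tau⁻¹ * x * tau ∈ simRange (qPlus 4 F) := by
  have m0 := (tau_base.1.trans h0).trans tau_base.1.symm
  have m1 := (tau_base.2.trans h2).trans tau_base.2.symm
  rw [← mul_assoc] at m0 m1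
  exact pres_mem m0 m1

theorem inn_absorb (g : PO (qPlus 4 F)) :
    tau⁻¹ * MulAut.conj g * tau ∈ simRange (qPlus 4 F) := by
  obtain ⟨k, hk⟩ := piO_surjective (tau⁻¹ g)
  refine ⟨Sim.ofOrth k.1, ?_⟩
  rw [Sim.ofOrth_aut, hk]
  refine MulEquiv.ext fun y => ?_
  simp [MulAut.mul_apply, MulAut.conj_apply, map_mul, map_inv]

theorem exists_decomp3 (α : MulAut (PO (qPlus 4 F))) :
    α ∈ simRange (qPlus 4 F) ∨ tau⁻¹ * α ∈ simRange (qPlus 4 F) ∨
      tau⁻¹ * (orthAut sw)⁻¹ * α ∈ simRange (qPlus 4 F) := by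
  obtain ⟨L, hL⟩ := exists_mapsLn setup4 α (L := lnR r0) ⟨_, _, isLn_root _, rfl⟩
  obtain ⟨M, hM⟩ := exists_mapsLn setup4 α (L := lnR r1) ⟨_, _, isLn_root _, rfl⟩
  have hA := isA_base (F := F)
  have hne0 : lnR (F := F) r0 ≠ lnR r1 := by
    intro e
    obtain ⟨a, z, z', hz, hz', hzz, e1, e2⟩ := hA
    have hz'm : z' ∈ Submodule.span F ({a, z} : Set (I4 → F)) := by
      rw [← e1, e, e2]; exact IsLn.span_mem_right
    have := hz.polar_mem IsLn.span_mem_right hz'm
    rw [hzz] at this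
    exact one_ne_zero this
  have ho0 : ¬ Orth (qPlus 4 F) (lnR r0) (lnR r1) := by
    obtain ⟨a, z, z', hz, hz', hzz, e1, e2⟩ := hA
    intro h
    have := h z (e1 ▸ IsLn.span_mem_right) z' (e2 ▸ IsLn.span_mem_right)
    rw [hzz] at this
    exact one_ne_zero this
  have hne : L ≠ M := fun e => hne0 ((hL.eq_iff setup4 hM).2 e)
  have hnS : ¬ Strong (qPlus 4 F) L M := fun h =>
    ho0 ((strong_iff setup4 hL.1 hM.1).1 ((hL.strong_iff' setup4 hM).2 h)).2.2
  by_cases hm : Meet L M
  · left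
    have ho : ¬ Orth (qPlus 4 F) L M := fun h =>
      hnS ((strong_iff setup4 hL.2.1 hM.2.1).2 ⟨hne, hm, h⟩)
    obtain ⟨b, w, w', hw, hw', hww, rfl, rfl⟩ := isA_of_meet hL.2.1 hM.2.1 hm ho
    obtain ⟨a, z, z', hz, hz', hzz, e1, e2⟩ := hA
    obtain ⟨k, ka, kz, kz'⟩ := exists_om_triple setup4 hz hz' hzz hw hw' hww
    have m0 := (Sim.ofOrth k.1).mapsLn hz
    have m1 := (Sim.ofOrth k.1).mapsLn hz'
    change MapsLn (orthAut k.1) _ (Submodule.span F ({k.1.1 a, k.1.1 z} : Set (I4 → F))) at m0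
    change MapsLn (orthAut k.1) _ (Submodule.span F ({k.1.1 a, k.1.1 z'} : Set (I4 → F))) at m1
    rw [ka, kz, ← e1] at m0
    rw [ka, kz', ← e2] at m1
    have := pres_mem (hL.trans m0.symm) (hM.trans m1.symm)
    have h2 := mul_mem (orthAut_mem k.1) this
    rwa [mul_inv_cancel_left] at h2
  · right
    have ho : Orth (qPlus 4 F) L M :=
      ((comm_iff setup4 hL.2.1 hM.2.1).1
        (hL.comm hM ((comm_iff setup4 hL.1 hM.1).2 (Or.inl hA.meet)))).resolve_left hm
    obtain ⟨h, m0, m2⟩ := exists_orth_pair hL.2.1 hM.2.1 ho hm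
    change MapsLn (orthAut h) _ _ at m0 m2
    have hβ : (orthAut h * tau)⁻¹ * α ∈ simRange (qPlus 4 F) :=
      pres_mem (hL.trans (tau_base.1.trans m0).symm) (hM.trans (tau_base.2.trans m2).symm)
    obtain ⟨k, hk, hcase⟩ := orthCls_sw_comm h
    have key : ∀ j : orth (qPlus 4 F), orthCls h = orthCls j * orthCls k →
        tau⁻¹ * (orthAut j)⁻¹ * α ∈ simRange (qPlus 4 F) := by
      intro j hj
      rw [← map_mul] at hj
      have h1 : ((orthAut (j * k))⁻¹ * orthAut h : MulAut (PO (qPlus 4 F))) ∈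
          Cfsg.Inn (PO (qPlus 4 F)) := QuotientGroup.eq.1 hj.symm
      obtain ⟨g, hg⟩ := h1
      have e : tau⁻¹ * (orthAut j)⁻¹ * α =
          (tau⁻¹ * orthAut k * tau) * (tau⁻¹ * MulAut.conj g * tau) * ((orthAut h * tau)⁻¹ * α) := by
        rw [hg, map_mul]
        group
      rw [e]
      exact mul_mem (mul_mem (tau_absorb hk.1 hk.2) (inn_absorb g)) hβ
    rcases hcase with e | e
    · left
      have := key 1 (by rw [map_one, one_mul]; exact e)
      rwa [map_one, inv_one, mul_one] at this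
    · exact Or.inr (key sw e)

/-- **The automorphisms of `PΩ⁺_8`.** -/
theorem exists_decomp (α : MulAut (PO (qPlus 4 F))) :
    ∃ i : Fin 3, (tau ^ (i : ℕ))⁻¹ * α ∈ simRange (qPlus 4 F) := by
  rcases exists_decomp3 α with h | h | h
  · exact ⟨0, by simpa using h⟩
  · exact ⟨1, by simpa using h⟩
  · rcases exists_decomp3 (tau (F := F) * tau) with h' | h' | h'
    · exact absurd h' tau_sq_notMem
    · exact absurd (by simpa using h') tau_notMem
    · refine ⟨2, ?_⟩
      have := mul_mem (inv_mem h') h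
      simpa [pow_two, mul_assoc] using this

end Cfsg.Agent.CG26.AutPO.D4
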