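import Cfsg.Agent.CG26.AutPO.D4Classes

/-!
`|Aut(PΩ⁺_8(q))|`.
-/

set_option autoImplicit false

namespace Cfsg.Agent.CG26.AutPO.D4

open QuadraticMap Cfsg.Lie Cfsg.Agent.UnitaryOrthogonal

universe u

variable {F : Type u} [Field F] [Fintype F]

theorem tau_pow_mem {k : ℕ} (h : (tau (F := F)) ^ k ∈ simRange (qPlus 4 F)) : k % 3 = 0 := by
  rw [← Nat.div_add_mod k 3, pow_add, pow_mul, tau_cube, one_pow, one_mul] at h
  have h3 := Nat.mod_lt k (show 3 > 0 by norm_num)
  interval_cases hk : k % 3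
  · rfl
  · exact absurd (by simpa using h) tau_notMem
  · exact absurd (by simpa [pow_two] using h) tau_sq_notMem

theorem decomp_unique {i j : Fin 3} {α : MulAut (PO (qPlus 4 F))}
    (hi : (tau ^ (i : ℕ))⁻¹ * α ∈ simRange (qPlus 4 F))
    (hj : (tau ^ (j : ℕ))⁻¹ * α ∈ simRange (qPlus 4 F)) : i = j := by
  have h := mul_mem hi (inv_mem hj)
  rw [mul_inv_rev, inv_inv, mul_assoc, mul_inv_cancel_left] at h
  have h3 : ((tau (F := F)) ^ (i : ℕ))⁻¹ = tau ^ (3 - (i : ℕ)) := by
    refine inv_eq_of_mul_eq_one_right ?_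
    rw [← pow_add, Nat.add_sub_cancel' i.isLt.le, tau_cube]
  rw [h3, ← pow_add] at h
  have := tau_pow_mem h
  have := i.isLt
  have := j.isLt
  exact Fin.ext (by omega)

theorem card_mulAut :
    Nat.card (MulAut (PO (qPlus 4 F))) = 3 * Nat.card (Set.range (Sim.aut (Q := qPlus 4 F))) := by
  choose ind hind using exists_decomp (F := F)
  let e : MulAut (PO (qPlus 4 F)) → Fin 3 × simRange (qPlus 4 F) := fun α => (ind α, ⟨_, hind α⟩)
  have he : Function.Bijective e := by
    constructor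
    · intro α β h
      simp only [e, Prod.ext_iff, Subtype.ext_iff] at h
      rw [h.1] at h
      exact mul_left_cancel h.2
    · rintro ⟨i, s⟩
      refine ⟨tau ^ (i : ℕ) * s.1, ?_⟩
      have h1 : ind (tau (F := F) ^ (i : ℕ) * s.1) = i := decomp_unique (hind _) (by
        rw [inv_mul_cancel_left]; exact s.2)
      simp only [e, h1, inv_mul_cancel_left]
  rw [Nat.card_congr (Equiv.ofBijective e he), Nat.card_prod, Nat.card_fin]
  rfl

/-- `|Aut(PΩ⁺_8(q))|`. -/
theorem card_aut_plus4 :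
    Nat.card (MulAut (Cfsg.POmega F (Cfsg.quadFormPlus 4 F))) =
      3 * (Nat.card (F ≃+* F) * (2 * Nat.gcd 4 (Nat.card F ^ 4 - 1) *
        Nat.card (Cfsg.POmega F (Cfsg.quadFormPlus 4 F)))) := by
  have h := card_range_aut (setup4 (F := F)) {μ : F | μ ≠ 0}
    (fun σ μ hμ => exists_sim_plus le_rfl σ hμ) (fun s => s.μ0)
  rw [card_orth_congr (qPlusIso 4 F), ← (pomega_plus 2 (by norm_num)).2, ncard_ne_zero] at h
  have hq : 0 < Nat.card F - 1 := by have := Finite.one_lt_card (α := F); omega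
  rw [card_mulAut_pomega (qPlus_apply 4) setup4, card_mulAut]
  congr 1
  refine Nat.eq_of_mul_eq_mul_right hq ?_
  rw [h]
  ring

end Cfsg.Agent.CG26.AutPO.D4
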