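import Cfsg.Agent.CG26.AutPO.Standard
import Cfsg.Prelude.Def_LieTypeDatum

/-!
`gammaPOmega` is the whole automorphism group.
-/

set_option autoImplicit false

namespace Cfsg.Agent.CG26.AutPO

open QuadraticMap Cfsg.Agent.UnitaryOrthogonal Matrix

universe u

variable {F : Type u} [Field F] {ι : Type} [Fintype ι] [DecidableEq ι] {f : (ι → F) → F}
  {Q : QuadraticForm F (ι → F)} (h : ∀ v, Q v = f v) (hS : Setup Q)

theorem map_commutator_isometryGroup (hS : Setup Q) :
    (Cfsg.Omega F f).map (isometryGroupEquiv Q h).toMonoidHom = eichGroup Q := by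
  haveI := hS.fin
  show (commutator (Cfsg.isometryGroup F f)).map _ = _
  rw [← OrthStab.commutator_eq hS.nd (le_trans (by norm_num) hS.dim), commutator_def, commutator_def,
    Subgroup.map_commutator, Subgroup.map_top_of_surjective _ (isometryGroupEquiv Q h).surjective]

/-- `Ω(f) ≅ Ω(Q)`. -/
noncomputable def omegaEquiv : Cfsg.Omega F f ≃* Om Q :=
  ((isometryGroupEquiv Q h).subgroupMap (Cfsg.Omega F f)).trans
    (MulEquiv.subgroupCongr (map_commutator_isometryGroup h hS))

theorem omegaEquiv_apply (x : Cfsg.Omega F f) (v : ι → F) :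
    (omegaEquiv h hS x).1.1 v =
      ((((x : Cfsg.isometryGroup F f) : GL ι F)) : Matrix ι ι F) *ᵥ v := rfl

/-- `PΩ(f) ≅ PΩ(Q)`. -/
noncomputable def pomegaEquiv : Cfsg.POmega F f ≃* PO Q :=
  QuotientGroup.congr _ _ (omegaEquiv h hS) (by
    refine le_antisymm ?_ fun x hx => ⟨(omegaEquiv h hS).symm x,
      Subgroup.mem_center_iff.2 fun y => ?_, (omegaEquiv h hS).apply_symm_apply x⟩
    · rintro _ ⟨x, hx, rfl⟩
      refine Subgroup.mem_center_iff.2 fun y => ?_
      obtain ⟨y, rfl⟩ := (omegaEquiv h hS).surjective y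
      simp only [MulEquiv.coe_toMonoidHom, MonoidHom.coe_coe, ← map_mul,
        Subgroup.mem_center_iff.1 hx y]
    · apply (omegaEquiv h hS).injective
      simp only [map_mul, MulEquiv.apply_symm_apply, Subgroup.mem_center_iff.1 hx])

theorem pomegaEquiv_mk (x : Cfsg.Omega F f) :
    pomegaEquiv h hS (QuotientGroup.mk x) = piO Q (omegaEquiv h hS x) := rfl

/-- The semilinear part of a semisimilitude, as a matrix. -/
theorem exists_matrix (s : Sim Q) :
    ∃ g : GL ι F, ∀ x : ι → F, s.g x = (g : Matrix ι ι F) *ᵥ fun i => s.σ (x i) := by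
  let L : (ι → F) ≃ₗ[F] (ι → F) :=
    { (AddEquiv.piCongrRight fun _ : ι => s.σ.symm.toAddEquiv).trans s.g with
      map_smul' := fun c x => by
        show s.g (fun i => s.σ.symm (c * x i)) = c • s.g fun i => s.σ.symm (x i)
        rw [show (fun i => s.σ.symm (c * x i)) = s.σ.symm c • fun i => s.σ.symm (x i) from
          funext fun i => by simp, s.map_smul', s.σ.apply_symm_apply] }
  refine ⟨Matrix.GeneralLinearGroup.toLin.symm
    ((LinearMap.GeneralLinearGroup.generalLinearEquiv F _).symm L), fun x => ?_⟩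
  rw [← Matrix.mulVecLin_apply, ← Matrix.GeneralLinearGroup.coe_toLin, MulEquiv.apply_symm_apply]
  show s.g x = s.g fun i => s.σ.symm (s.σ (x i))
  simp

include h hS in
/-- Every automorphism of `PΩ` is induced by a semisimilarity. -/
theorem gammaPOmega_eq_top (hB : Big Q) : Cfsg.gammaPOmega F f = ⊤ := by
  refine eq_top_iff.2 fun β _ => Subgroup.subset_closure ?_
  obtain ⟨s, hs⟩ := exists_sim_aut hS hB (((pomegaEquiv h hS).symm.trans β).trans (pomegaEquiv h hS))
  obtain ⟨g, hg⟩ := exists_matrix s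
  refine ⟨g, s.σ, ⟨Units.mk0 s.μ s.μ0, fun v => ?_⟩, fun x x' hxx => ?_⟩
  · rw [← hg, ← h, ← h, Units.val_mk0, s.form']
  · apply (pomegaEquiv h hS).injective
    have e := DFunLike.congr_fun hs (piO Q (omegaEquiv h hS x))
    rw [Sim.aut_piO, MulEquiv.trans_apply, MulEquiv.trans_apply, ← pomegaEquiv_mk h hS,
      MulEquiv.symm_apply_apply] at e
    rw [← e, pomegaEquiv_mk]
    refine congrArg _ (Subtype.ext (orth_ext fun v => ?_))
    obtain ⟨y, rfl⟩ := s.g.surjective v
    rw [omegaEquiv_apply, Sim.omAut_coe]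
    show s.g ((omegaEquiv h hS x).1.1 (s.g.symm (s.g y))) = _
    rw [s.g.symm_apply_apply, omegaEquiv_apply, hg, hg, hxx, ← Matrix.mulVec_mulVec,
      ← Matrix.mulVec_mulVec, Matrix.mulVec_mulVec _ (g⁻¹ : GL ι F).val, ← Units.val_mul,
      inv_mul_cancel, Units.val_one, Matrix.one_mulVec]
    congr 1
    funext i
    simp [Matrix.mulVec, dotProduct, map_sum]

end Cfsg.Agent.CG26.AutPO
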