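import Cfsg.Agent.CG26.AutPO.Standard
import Cfsg.Agent.CG26.AutPO.Gamma
import Cfsg.Agent.Lib.UnitaryOrthogonal.AdjointIsoD4
import Cfsg.Agent.ChevIsogeny.Endo
import Cfsg.Agent.Twisted.Inst
import Cfsg.Agent.Twisted.Groups.D4Inst

/-!
Triality as an automorphism of `PΩ⁺_8(q)`, given on the root elements.
-/

set_option autoImplicit false

namespace Cfsg.Agent.CG26.AutPO.D4

open QuadraticMap Cfsg.Lie Cfsg.Agent.UnitaryOrthogonal Cfsg.Agent.UnitaryOrthogonal.Adjoint
open ChevGroup ChevIsogeny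

universe u

variable {F : Type u} [Field F]

/-- A basis vector. -/
abbrev bv (i : I4) : I4 → F := Pi.single i 1

/-- The root element of `PΩ⁺_8`. -/
noncomputable def X (r : Fin chevD4.nroots) (t : F) : PO (qPlus 4 F) :=
  eb (qPlus 4 F) (bv (d4Pair r).1) ((-((d4Pair r).2.2 : F) * t) • bv (d4Pair r).2.1)

/-- `Ω⁺_8` acting on the adjoint lattice. -/
noncomputable def adj0 : Om (qPlus 4 F) →* GL chevD4.Idx F :=
  (adjHom.comp (plusLin (F := F)).symm.toMonoidHom).comp (eichGroup (qPlus 4 F)).subtype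

theorem adj0_eo (r : Fin chevD4.nroots) (t : F) :
    ((adj0 (eo (qPlus 4 F) (bv (d4Pair r).1) ((-((d4Pair r).2.2 : F) * t) • bv (d4Pair r).2.1)) :
      GL chevD4.Idx F) : Matrix chevD4.Idx chevD4.Idx F) = chevD4.xMat F r t :=
  coe_adjHom_d4Root r t

theorem ext_top :
    Subgroup.closure {g : PO (qPlus 4 F) | ∃ r t, g = X r t} = ⊤ := by
  refine eq_top_iff.2 fun g _ => ?_
  obtain ⟨g, rfl⟩ := piO_surjective g
  let S : Subgroup (Om (qPlus 4 F)) :=
    (Subgroup.closure {g : PO (qPlus 4 F) | ∃ r t, g = X r t}).comap (piO (qPlus 4 F))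
  have hle : (d4Gen F).map (plusLin (F := F)).toMonoidHom ≤
      S.map (eichGroup (qPlus 4 F)).subtype := by
    rw [d4Gen, MonoidHom.map_closure, Subgroup.closure_le]
    rintro _ ⟨_, ⟨r, t, rfl⟩, rfl⟩
    exact ⟨eo (qPlus 4 F) (bv (d4Pair r).1) ((-((d4Pair r).2.2 : F) * t) • bv (d4Pair r).2.1),
      Subgroup.subset_closure ⟨r, t, rfl⟩, (plusLin_d4Root r t).symm⟩
  obtain ⟨g', hg', e⟩ := hle (eichGroup_le_d4Gen g.2)
  rw [← show g' = g from Subtype.ext e]
  exact hg'

theorem ext_X {α β : MulAut (PO (qPlus 4 F))} (h : ∀ r t, α (X r t) = β (X r t)) : α = β := by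
  refine MulEquiv.ext fun g => ?_
  have hle : Subgroup.closure {g : PO (qPlus 4 F) | ∃ r t, g = X r t} ≤
      MonoidHom.eqLocus α.toMonoidHom β.toMonoidHom := by
    rw [Subgroup.closure_le]
    rintro _ ⟨r, t, rfl⟩
    exact h r t
  exact hle (by rw [ext_top]; trivial)

variable [Fintype F]

theorem setup4 : Setup (qPlus 4 F) := setup_plus le_rfl

theorem exists_model_equiv :
    ∃ e : PO (qPlus 4 F) ≃* ↥(chevD4.group F), ∀ r t,
      (((e (X r t) : GL chevD4.Idx F)) : Matrix chevD4.Idx chevD4.Idx F) = chevD4.xMat F r t := by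
  have hz : Subgroup.center (Om (qPlus 4 F)) ≤ (adj0 (F := F)).ker := by
    intro g hg
    obtain ⟨c, hc2, hc⟩ := center_scalar setup4 hg
    refine Units.ext ?_
    show d4Tables.adj (((((plusLin (F := F)).symm g.1).1 : GL I4 F)) : Matrix I4 I4 F) = 1
    have hm : ((((plusLin (F := F)).symm g.1).1 : GL I4 F) : Matrix I4 I4 F) = c • 1 := by
      refine Matrix.ext_of_mulVec_single fun l => ?_
      rw [← isometryGroupEquiv_apply (qPlus 4 F) (qPlus_apply 4), MulEquiv.apply_symm_apply, hc,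
        Matrix.smul_mulVec, Matrix.one_mulVec]
    rw [hm, d4Tables.adj_smul_one, hc2, one_smul]
  let Φ : PO (qPlus 4 F) →* GL chevD4.Idx F := QuotientGroup.lift _ adj0 hz
  have hX : ∀ r t, ((Φ (X r t) : GL chevD4.Idx F) : Matrix chevD4.Idx chevD4.Idx F) =
      chevD4.xMat F r t := adj0_eo
  haveI : IsSimpleGroup (PO (qPlus 4 F)) := by
    haveI := (pomega_plus (F := F) 2 (by norm_num)).1
    obtain ⟨e⟩ := nonempty_pomega_equiv (qPlus_apply (F := F) 4) setup4
    haveI : Nontrivial (PO (qPlus 4 F)) := e.symm.toEquiv.nontrivial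
    exact IsSimpleGroup.isSimpleGroup_of_surjective e.toMonoidHom e.surjective
  have hinj : Function.Injective Φ := by
    rw [← MonoidHom.ker_eq_bot_iff]
    rcases (inferInstance : Φ.ker.Normal).eq_bot_or_eq_top with h | h
    · exact h
    exfalso
    have h1 : ∀ r, chevD4.xMat F r 1 = 1 := fun r => by
      rw [← hX r 1, show Φ (X r 1) = 1 from h.symm.le (Subgroup.mem_top _), Units.val_one]
    obtain ⟨a, b, hab⟩ := d4_noncomm
    have h2 := congrFun (congrFun (show chevD4.xMat F (⟨18, by decide⟩ : Fin chevD4.nroots) 1 *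
        chevD4.xMat F ⟨5, by decide⟩ 1 = chevD4.xMat F ⟨5, by decide⟩ 1 * chevD4.xMat F ⟨18, by decide⟩ 1
        by rw [h1, h1]) a) b
    rw [xMat_one_eq, xMat_one_eq, ← Matrix.map_mul_intCast, ← Matrix.map_mul_intCast,
      Matrix.map_apply, Matrix.map_apply, ← sub_eq_zero, ← Int.cast_sub] at h2
    rcases hab with e | e <;> rw [e] at h2 <;> simp at h2
  have hrange : Φ.range = chevD4.group F := by
    rw [MonoidHom.range_eq_map, ← ext_top, MonoidHom.map_closure, ChevalleyDatum.group]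
    congr 1
    ext g
    constructor
    · rintro ⟨_, ⟨r, t, rfl⟩, rfl⟩
      exact ⟨r, t, hX r t⟩
    · rintro ⟨r, t, h⟩
      exact ⟨X r t, ⟨r, t, rfl⟩, Units.ext ((hX r t).trans h.symm)⟩
  exact ⟨(MonoidHom.ofInjective hinj).trans (MulEquiv.subgroupCongr hrange), hX⟩

/-- The permutation of the roots. -/
def rho (r : Fin chevD4.nroots) : Fin chevD4.nroots :=
  (([0, 1, 6, 2, 7, 10, 3, 8, 4, 9, 11, 5, 18, 12, 14, 19, 15, 20, 13, 16, 21, 17, 22, 23] :
    List (Fin 24)).getD r.val 0).cast (by decide)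

theorem rho_eq : ∀ r : Fin chevD4.nroots, ChevIsogeny.D4.iso.ρf r.val = (rho r).val := by
  decide +kernel

/-- **Triality.** -/
theorem exists_tau : ∃ τ : MulAut (PO (qPlus 4 F)), ∀ r t,
    τ (X r t) = X (rho r) ((ChevIsogeny.D4.iso.ef r.val : F) * t) := by
  obtain ⟨e, he⟩ := exists_model_equiv (F := F)
  let T : Model chevD4 := ChevGroup.TypeD4.model
  let K := relsOfCommGood ChevCore.commGoodD4 F
  have hlf : ∀ r, r < chevD4.nroots → ChevIsogeny.D4.iso.lf r = 1 := by
    have h : ((List.range chevD4.nroots).all fun r =>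
        decide (ChevIsogeny.D4.iso.lf r = 1)) = true := by decide +kernel
    simp only [List.all_eq_true, decide_eq_true_eq, List.mem_range] at h
    exact h
  have h : IsoHyp T K ChevIsogeny.D4.iso 1 :=
    ⟨Twisted.commFormula ChevCore.commGoodD4 F, ChevIsogeny.D4.base, ChevIsogeny.D4.pairing,
      ChevIsogeny.D4.simple, ChevIsogeny.D4.collect, by simp [ChevIsogeny.D4.iso],
      fun r hr a b => by simp [hlf r hr], fun r hr z => by simp [hlf r hr],
      ⟨ChevIsogeny.D4.eta, ChevIsogeny.D4.sign,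
        Twisted.eta_link ChevCore.commGoodD4 F ChevCore.chkLinkD4 Twisted.TypeD4.etaTab⟩⟩
  obtain ⟨α, hα⟩ := h.exists_hom ChevGroup.TypeD4.wit_ok ChevGroup.TypeD4.pos_span
    (h.uniqueForm ChevGroup.TypeD4.longest_ok ChevGroup.TypeD4.pos_span (by decide))
  let ix : Fin chevD4.nroots → Fin T.tab.n := fun r => ⟨r.val, T.n_eq.symm ▸ r.isLt⟩
  have hx : ∀ r t, e (X r t) = T.xG K (ix r) t := fun r t => by
    refine Model.mat_inj ((he r t).trans ?_)
    rw [T.mat_xG]
    simp [ChevalleyDatum.x, ix]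
  let γ : PO (qPlus 4 F) →* PO (qPlus 4 F) :=
    e.symm.toMonoidHom.comp (α.comp e.toMonoidHom)
  have hγ : ∀ r t, γ (X r t) = X (rho r) ((ChevIsogeny.D4.iso.ef r.val : F) * t) := fun r t => by
    show e.symm (α (e (X r t))) = _
    rw [e.symm_apply_eq, hx, hx]
    refine (hα _ t).trans ?_
    have hi : h.ρF (ix r) = ix (rho r) := Fin.ext (rho_eq r)
    rw [hi, IsoHyp.lam, hlf r.val r.isLt, one_mul, pow_one]
    rfl
  have hsurj : Function.Surjective γ := by
    rw [← MonoidHom.range_eq_top, eq_top_iff, ← ext_top, Subgroup.closure_le]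
    rintro _ ⟨r, t, rfl⟩
    have hr : ∀ r : Fin chevD4.nroots, ∃ s, rho s = r := by decide +kernel
    obtain ⟨s, rfl⟩ := hr r
    have hd : ∀ r : Fin chevD4.nroots,
        ChevIsogeny.D4.iso.ef r.val * ChevIsogeny.D4.iso.ef r.val = 1 := by decide +kernel
    refine ⟨X s ((ChevIsogeny.D4.iso.ef s.val : F) * t), ?_⟩
    rw [hγ, ← mul_assoc, ← Int.cast_mul, hd, Int.cast_one, one_mul]
  haveI : Finite (I4 → F) := inferInstance
  exact ⟨MulEquiv.ofBijective γ ⟨Finite.injective_iff_surjective.2 hsurj, hsurj⟩, hγ⟩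

end Cfsg.Agent.CG26.AutPO.D4
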