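import Cfsg.Agent.CG26.AutPO.Out

/-!
`Ω(Q)` is transitive on meeting non-orthogonal pairs of lines; an automorphism fixing one such pair
comes from a semisimilitude.
-/

set_option autoImplicit false

namespace Cfsg.Agent.CG26.AutPO

open QuadraticMap Cfsg.Agent.UnitaryOrthogonal

universe u v

variable {F : Type u} [Field F] {V : Type v} [AddCommGroup V] [Module F V] {Q : QuadraticForm F V}

/-- Two meeting non-orthogonal lines. -/
def IsA (Q : QuadraticForm F V) (L M : Submodule F V) : Prop :=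
  ∃ a z z' : V, IsLn Q a z ∧ IsLn Q a z' ∧ polar Q z z' = 1 ∧
    L = Submodule.span F {a, z} ∧ M = Submodule.span F {a, z'}

theorem isA_of_meet {L M : Submodule F V} (hL : Ln Q L) (hM : Ln Q M) (hm : Meet L M)
    (ho : ¬ Orth Q L M) : IsA Q L M := by
  obtain ⟨a, haL, haM, ha0⟩ := hm
  obtain ⟨z, hz, rfl⟩ := exists_pair_of_mem hL haL ha0
  obtain ⟨z', hz', rfl⟩ := exists_pair_of_mem hM haM ha0
  have hzz : polar Q z z' ≠ 0 := fun e => ho fun l hl m hm' => by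
    obtain ⟨p, q, rfl⟩ := mem_pair.1 hl
    obtain ⟨r, s, rfl⟩ := mem_pair.1 hm'
    simp [e, hz.uz, hz'.uz, polar_self_zero hz.qu, polar_comm Q z a]
  obtain ⟨hi, e⟩ := eq_span_of_mem (L := Submodule.span F ({a, z'} : Set V)) ⟨_, _, hz', rfl⟩
    (a := a) (b := (polar Q z z')⁻¹ • z') IsLn.span_mem_left
    (Submodule.smul_mem _ _ IsLn.span_mem_right) ha0 fun c e => hz'.ind (polar Q z z' * c) (by
      rw [← smul_smul, ← e, smul_inv_smul₀ hzz])
  exact ⟨a, z, _, hz, hi, by rw [polar_smul_right, smul_eq_mul, inv_mul_cancel₀ hzz], rfl, e⟩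

theorem IsA.meet {L M : Submodule F V} (h : IsA Q L M) : Meet L M := by
  obtain ⟨a, z, z', hz, hz', -, rfl, rfl⟩ := h
  exact ⟨a, IsLn.span_mem_left, IsLn.span_mem_left, hz.u0⟩

theorem lift_perp {w w' : V} {g : orth (Q.comp (OrthStab.perp₂ Q w w').subtype)}
    (hg : g ∈ eichGroup (Q.comp (OrthStab.perp₂ Q w w').subtype)) :
    ∃ g' ∈ eichGroup Q, g'.1 w = w ∧ g'.1 w' = w' ∧
      ∀ x : OrthStab.perp₂ Q w w', g'.1 (x : V) = (g.1 x : V) := by
  set W := OrthStab.perp₂ Q w w'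
  have hpol : ∀ x y : W, polar (Q.comp W.subtype) x y = polar Q (x : V) y := fun x y => rfl
  unfold eichGroup at hg
  induction hg using Subgroup.closure_induction with
  | mem y hy =>
    obtain ⟨u, z, hu, hz, rfl⟩ := hy
    have hu' : Q (u : V) = 0 := hu
    have hz' : polar Q (u : V) z = 0 := hz
    refine ⟨eich Q (u : V) z, eich_mem_eichGroup _ _, ?_, ?_, fun x => ?_⟩
    · rw [eich_apply hu' hz', polar_comm Q (u : V) w, polar_comm Q (z : V) w,
        show polar Q w (u : V) = 0 from u.2.1, show polar Q w (z : V) = 0 from z.2.1]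
      simp
    · rw [eich_apply hu' hz', polar_comm Q (u : V) w', polar_comm Q (z : V) w',
        show polar Q w' (u : V) = 0 from u.2.2, show polar Q w' (z : V) = 0 from z.2.2]
      simp
    · rw [eich_apply hu' hz', eich_apply hu hz]
      simp only [Submodule.coe_add, Submodule.coe_sub, Submodule.coe_smul, hpol]
      rfl
  | one => exact ⟨1, one_mem _, rfl, rfl, fun x => rfl⟩
  | mul x y _ _ hx hy =>
    obtain ⟨x', hx', a1, a2, a3⟩ := hx
    obtain ⟨y', hy', b1, b2, b3⟩ := hy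
    exact ⟨x' * y', mul_mem hx' hy', by rw [coe_mul_apply, b1, a1], by rw [coe_mul_apply, b2, a2],
      fun v => by rw [coe_mul_apply, coe_mul_apply, b3, a3]⟩
  | inv x _ hx =>
    obtain ⟨x', hx', a1, a2, a3⟩ := hx
    refine ⟨x'⁻¹, inv_mem hx', ?_, ?_, fun v => ?_⟩
    · conv_lhs => rw [← a1, ← coe_mul_apply, inv_mul_cancel, coe_one_apply]
    · conv_lhs => rw [← a2, ← coe_mul_apply, inv_mul_cancel, coe_one_apply]
    · have e := a3 (x⁻¹.1 v)
      rw [← coe_mul_apply x, mul_inv_cancel, coe_one_apply] at e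
      conv_lhs => rw [← e, ← coe_mul_apply, inv_mul_cancel, coe_one_apply]

theorem exists_om_triple (hS : Setup Q) {a z z' b w w' : V} (hz : IsLn Q a z) (hz' : IsLn Q a z')
    (hzz : polar Q z z' = 1) (hw : IsLn Q b w) (hw' : IsLn Q b w') (hww : polar Q w w' = 1) :
    ∃ g : Om Q, g.1.1 a = b ∧ g.1.1 z = w ∧ g.1.1 z' = w' := by
  haveI := hS.fin
  haveI := hS.fd
  obtain ⟨g₁, hg₁, e₁⟩ := OrthStab.exists_eich_map_of_form_eq hS.nd
    (le_trans (by norm_num) hS.dim) hz.z0 hw.z0 (by rw [hz.qz, hw.qz])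
  set y := g₁.1 z' with hy
  have hp : Pair Q w y := ⟨hw.qz, by rw [hy, map_form, hz'.qz], by rw [hy, ← e₁, map_polar, hzz]⟩
  have hp' : Pair Q w w' := ⟨hw.qz, hw'.qz, hww⟩
  set x := proj Q w y w' with hx
  have hxm := hp.proj_mem w'
  have hxw : polar Q w x = 0 := hxm.1
  have hxy : polar Q y x = 0 := hxm.2
  have hdec : w' = polar Q y w' • w + y + x := by
    simp only [hx, proj, hww, one_smul]
    abel
  have hQx : Q x = -polar Q y w' := by
    have e := hw'.qz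
    rw [hdec] at e
    simp [form_add, form_smul, hp.qe, hp.qf, hp.ef, hxw, hxy] at e
    linear_combination e
  have e₂ : (eich Q w x).1 y = w' := by
    rw [eich_apply hw.qz hxw, hp.ef, polar_comm Q x y, hxy, hQx]
    conv_rhs => rw [hdec]
    module
  have e₂w : (eich Q w x).1 w = w := by
    rw [eich_apply hw.qz hxw, polar_self_zero hw.qz, polar_comm Q x w, hxw]
    simp
  set g₂ := eich Q w x * g₁ with hg₂
  have f1 : g₂.1 z = w := by rw [hg₂, coe_mul_apply, e₁, e₂w]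
  have f2 : g₂.1 z' = w' := by rw [hg₂, coe_mul_apply, ← hy, e₂]
  set W := OrthStab.perp₂ Q w w' with hW
  have hc : g₂.1 a ∈ W := by
    refine OrthStab.mem_perp₂.2 ⟨?_, ?_⟩
    · rw [← f1, map_polar, polar_comm, hz.uz]
    · rw [← f2, map_polar, polar_comm, hz'.uz]
  have hb : b ∈ W := OrthStab.mem_perp₂.2 ⟨by rw [polar_comm]; exact hw.uz,
    by rw [polar_comm]; exact hw'.uz⟩
  have hd5 : 5 ≤ Module.finrank F W := by
    have := hS.finrank_perp w w'
    have := hS.dim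
    rw [hW]
    omega
  obtain ⟨g, hg, eg⟩ := OrthStab.exists_eich_map_of_form_eq
    (Q := Q.comp W.subtype) (OrthStab.polarND_perp₂ hS.nd hp'.qe hp'.qf hp'.ef) hd5
    (a := ⟨g₂.1 a, hc⟩) (d := ⟨b, hb⟩)
    (fun e => hz.u0 (g₂.1.map_eq_zero_iff.1 (congrArg Subtype.val e)))
    (fun e => hw.u0 (congrArg Subtype.val e))
    (show Q (g₂.1 a) = Q b by rw [map_form, hz.qu, hw.qu])
  obtain ⟨g₃, hg₃, c1, c2, c3⟩ := lift_perp hg
  refine ⟨⟨g₃ * g₂, mul_mem hg₃ (mul_mem (eich_mem_eichGroup _ _) hg₁)⟩, ?_, ?_, ?_⟩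
  · show (g₃ * g₂).1 a = b
    rw [coe_mul_apply]
    exact (c3 ⟨_, hc⟩).trans (congrArg Subtype.val eg)
  · show (g₃ * g₂).1 z = w
    rw [coe_mul_apply, f1, c1]
  · show (g₃ * g₂).1 z' = w'
    rw [coe_mul_apply, f2, c2]

theorem Sim.mapsLn (s : Sim Q) {u z : V} (hi : IsLn Q u z) :
    MapsLn s.aut (Submodule.span F ({u, z} : Set V))
      (Submodule.span F ({s.g u, s.g z} : Set V)) := by
  have hi' : IsLn Q (s.g u) (s.g z) := by
    refine ⟨by rw [s.form', hi.qu, map_zero, mul_zero], by rw [s.form', hi.qz, map_zero, mul_zero],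
      by rw [s.map_polar, hi.uz, map_zero, mul_zero], fun e => hi.u0 (s.g.map_eq_zero_iff.1 e),
      fun c e => hi.ind (s.σ.symm c) (s.g.injective ?_)⟩
    rw [s.map_smul', s.σ.apply_symm_apply, e]
  refine ⟨⟨_, _, hi, rfl⟩, ⟨_, _, hi', rfl⟩, Set.ext fun x => ⟨?_, fun hx => ?_⟩⟩
  · rintro ⟨y, hy, rfl⟩
    obtain ⟨c, rfl⟩ := (mem_TT hi).1 hy
    refine (mem_TT hi').2 ⟨s.μ⁻¹ * s.σ c, ?_⟩
    rw [s.aut_eb hi.qu (by simp [hi.uz]), s.map_smul', smul_smul]
  · obtain ⟨c, rfl⟩ := (mem_TT hi').1 hx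
    refine ⟨_, (mem_TT hi).2 ⟨s.σ.symm (s.μ * c), rfl⟩, ?_⟩
    rw [s.aut_eb hi.qu (by simp [hi.uz]), s.map_smul', s.σ.apply_symm_apply, smul_smul,
      inv_mul_cancel_left₀ s.μ0]

theorem MapsLn.trans {α β : MulAut (PO Q)} {L L' L'' : Submodule F V} (h : MapsLn α L L')
    (h' : MapsLn β L' L'') : MapsLn (β * α) L L'' := by
  refine ⟨h.1, h'.2.1, ?_⟩
  rw [← h'.2.2, ← h.2.2, Set.image_image]
  rfl

theorem meet_of_fix (hS : Setup Q) {α : MulAut (PO Q)} {L₀ M₀ : Submodule F V} (hA : IsA Q L₀ M₀)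
    (hL₀ : MapsLn α L₀ L₀) (hM₀ : MapsLn α M₀ M₀) {L L' M M' : Submodule F V} (h : MapsLn α L L')
    (g : MapsLn α M M') (hm : Meet L M) : Meet L' M' := by
  by_cases hne : L = M
  · subst hne
    rw [← h.unique hS g]
    obtain ⟨u, z, hi, e⟩ := h.2.1
    exact ⟨u, e ▸ IsLn.span_mem_left, e ▸ IsLn.span_mem_left, hi.u0⟩
  by_cases ho : Orth Q L M
  · exact ((strong_iff hS h.2.1 g.2.1).1 (h.strong hS g ((strong_iff hS h.1 g.1).2 ⟨hne, hm, ho⟩))).2.1
  obtain ⟨a₀, z₀, z₀', hz₀, hz₀', hzz₀, rfl, rfl⟩ := hA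
  obtain ⟨a, z, z', hz, hz', hzz, rfl, rfl⟩ := isA_of_meet h.1 g.1 hm ho
  obtain ⟨k, ka, kz, kz'⟩ := exists_om_triple hS hz₀ hz₀' hzz₀ hz hz' hzz
  obtain ⟨l, hl⟩ := piO_surjective (α (piO Q k))
  have hcomm : α * (Sim.ofOrth k.1).aut = (Sim.ofOrth l.1).aut * α := by
    refine MulEquiv.ext fun x => ?_
    rw [MulAut.mul_apply, MulAut.mul_apply, Sim.ofOrth_aut, Sim.ofOrth_aut, hl, MulAut.conj_apply,
      MulAut.conj_apply, map_mul, map_mul, map_inv]
  have key : ∀ {u w u' w' : V} {N : Submodule F V}, IsLn Q u w → k.1.1 u = u' → k.1.1 w = w' →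
      MapsLn α (Submodule.span F ({u, w} : Set V)) (Submodule.span F ({u, w} : Set V)) →
      MapsLn α (Submodule.span F ({u', w'} : Set V)) N →
      N = Submodule.span F ({l.1.1 u, l.1.1 w} : Set V) := by
    rintro u w u' w' N hi rfl rfl hfix hN
    have h2 : MapsLn (α * (Sim.ofOrth k.1).aut) (Submodule.span F ({u, w} : Set V))
        (Submodule.span F ({l.1.1 u, l.1.1 w} : Set V)) := by
      rw [hcomm]
      exact hfix.trans ((Sim.ofOrth l.1).mapsLn hi)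
    exact (((Sim.ofOrth k.1).mapsLn hi).trans hN).unique hS h2
  rw [key hz₀ ka kz hL₀ h, key hz₀' ka kz' hM₀ g]
  exact ⟨l.1.1 a₀, IsLn.span_mem_left, IsLn.span_mem_left,
    fun e => hz₀.u0 (l.1.1.map_eq_zero_iff.1 e)⟩

/-- An automorphism fixing a meeting non-orthogonal pair respects meeting. -/
theorem pres_of_fix (hS : Setup Q) {α : MulAut (PO Q)} {L₀ M₀ : Submodule F V} (hA : IsA Q L₀ M₀)
    (hL₀ : MapsLn α L₀ L₀) (hM₀ : MapsLn α M₀ M₀) : Pres α := fun _ _ _ _ h g =>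
  ⟨meet_of_fix hS hA hL₀ hM₀ h g, meet_of_fix hS hA hL₀.symm hM₀.symm h.symm g.symm⟩

theorem Sim.one_aut : (Sim.ofOrth (1 : orth Q)).aut = 1 := by
  refine MulEquiv.ext fun x => ?_
  obtain ⟨h, rfl⟩ := piO_surjective x
  rw [Sim.aut_piO, MulAut.one_apply]
  exact congrArg _ (Subtype.ext (orth_ext fun y => rfl))

theorem Sim.symm_aut (s : Sim Q) : s.symm.aut = s.aut⁻¹ := by
  refine eq_inv_of_mul_eq_one_left (MulEquiv.ext fun x => ?_)
  obtain ⟨h, rfl⟩ := piO_surjective x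
  rw [MulAut.mul_apply, Sim.aut_piO, Sim.aut_piO, MulAut.one_apply]
  refine congrArg _ (Subtype.ext ?_)
  rw [Sim.omAut_coe, Sim.omAut_coe]
  exact s.conj.symm_apply_apply _

variable (Q) in
/-- The automorphisms induced by semisimilitudes. -/
noncomputable def simRange : Subgroup (MulAut (PO Q)) where
  carrier := Set.range Sim.aut
  one_mem' := ⟨_, Sim.one_aut⟩
  mul_mem' := by
    rintro _ _ ⟨s, rfl⟩ ⟨t, rfl⟩
    exact ⟨s.comp t, Sim.comp_aut s t⟩
  inv_mem' := by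
    rintro _ ⟨s, rfl⟩
    exact ⟨s.symm, s.symm_aut⟩

theorem mem_simRange {α : MulAut (PO Q)} : α ∈ simRange Q ↔ ∃ s : Sim Q, s.aut = α := Iff.rfl

/-- A semisimilitude fixing nothing of the incidence cannot send a meeting pair to a disjoint one. -/
theorem notMem_simRange (hS : Setup Q) {α : MulAut (PO Q)} {L M L' M' : Submodule F V}
    (hA : IsA Q L M) (h : MapsLn α L L') (g : MapsLn α M M') (hd : ¬ Meet L' M') :
    α ∉ simRange Q := by
  rintro ⟨s, rfl⟩
  obtain ⟨a, z, z', hz, hz', -, rfl, rfl⟩ := hA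
  refine hd ?_
  rw [h.unique hS (s.mapsLn hz), g.unique hS (s.mapsLn hz')]
  exact ⟨s.g a, IsLn.span_mem_left, IsLn.span_mem_left, fun e => hz.u0 (s.g.map_eq_zero_iff.1 e)⟩

end Cfsg.Agent.CG26.AutPO
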