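import Cfsg.Agent.CG26.AutPO.D4Model
import Cfsg.Agent.CG26.AutPO.Transit

/-!
Monomial automorphisms of `PΩ⁺_8(q)` on the root elements.
-/

set_option autoImplicit false

namespace Cfsg.Agent.CG26.AutPO.D4

open QuadraticMap Cfsg.Lie Cfsg.Agent.UnitaryOrthogonal Cfsg.Agent.UnitaryOrthogonal.Adjoint

universe u

variable {F : Type u} [Field F]

theorem polar_bv (i : I4) (v : I4 → F) : polar (qPlus 4 F) (bv i) v = v i.swap :=
  polar_qPlus_single i v

theorem q_bv (i : I4) : qPlus 4 F (bv i) = 0 := qPlus_single i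

theorem bv_ne_zero (i : I4) : (bv i : I4 → F) ≠ 0 := fun e => by
  have := congrFun e i
  simp at this

theorem isLn_bv {a b : I4} (h1 : b ≠ a.swap) (h2 : b ≠ a) : IsLn (qPlus 4 F) (bv a) (bv b) := by
  refine ⟨q_bv a, q_bv b, ?_, bv_ne_zero a, fun c e => ?_⟩
  · rw [polar_bv, bv, Pi.single_apply, if_neg (fun e => h1 e.symm)]
  · have := congrFun e b
    simp [h2] at this

theorem isLn_root (r : Fin chevD4.nroots) :
    IsLn (qPlus 4 F) (bv (d4Pair r).1) (bv (d4Pair r).2.1) :=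
  isLn_bv (d4_pair_ne r).1 (d4_pair_ne r).2

/-- The line of a root. -/
def lnR (r : Fin chevD4.nroots) : Submodule F (I4 → F) :=
  Submodule.span F {bv (d4Pair r).1, bv (d4Pair r).2.1}

theorem sgn_sq (r : Fin chevD4.nroots) : ((d4Pair r).2.2 : F) * ((d4Pair r).2.2 : F) = 1 := by
  have h : ∀ r : Fin chevD4.nroots, (d4Pair r).2.2 * (d4Pair r).2.2 = 1 := by decide +kernel
  rw [← Int.cast_mul, h r, Int.cast_one]

theorem eb_swap {u z : I4 → F} (h : IsLn (qPlus 4 F) u z) (c : F) :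
    eb (qPlus 4 F) z (c • u) = eb (qPlus 4 F) u ((-c) • z) := by
  refine congrArg (piO _) (Subtype.ext ?_)
  have := eich_change h 0 1 c 0
  simp only [zero_smul, one_smul, zero_add, add_zero, zero_mul, one_mul, zero_sub] at this
  exact this

theorem eb_scale {u z : I4 → F} (h : IsLn (qPlus 4 F) u z) (k c : F) :
    eb (qPlus 4 F) (k • u) (c • z) = eb (qPlus 4 F) u ((k * c) • z) := by
  refine congrArg (piO _) (Subtype.ext ?_)
  have := eich_change h k 0 0 c
  simp only [zero_smul, zero_add, add_zero, zero_mul, sub_zero] at this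
  exact this

theorem tt_root (r : Fin chevD4.nroots) :
    TT (qPlus 4 F) (lnR r) = {x | ∃ t, x = X r t} := by
  ext x
  rw [lnR, mem_TT (isLn_root r)]
  constructor
  · rintro ⟨c, rfl⟩
    refine ⟨-((d4Pair r).2.2 : F) * c, ?_⟩
    rw [X, neg_mul, neg_mul, mul_neg, neg_neg, ← mul_assoc, sgn_sq, one_mul]
  · rintro ⟨t, rfl⟩
    exact ⟨_, rfl⟩

theorem mapsLn_of_X {α : MulAut (PO (qPlus 4 F))} {r r' : Fin chevD4.nroots} {c : F} (hc : c ≠ 0)
    (h : ∀ t, α (X r t) = X r' (c * t)) : MapsLn α (lnR r) (lnR r') := by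
  refine ⟨⟨_, _, isLn_root r, rfl⟩, ⟨_, _, isLn_root r', rfl⟩, ?_⟩
  rw [tt_root, tt_root]
  ext x
  constructor
  · rintro ⟨_, ⟨t, rfl⟩, rfl⟩
    exact ⟨_, h t⟩
  · rintro ⟨t, rfl⟩
    exact ⟨X r (c⁻¹ * t), ⟨_, rfl⟩, by rw [h, mul_inv_cancel_left₀ hc]⟩

variable [Fintype F]

/-- Diagonal semisimilitudes. -/
theorem exists_diag (k : I4 → F) (σ : F ≃+* F) {μ : F} (hμ : μ ≠ 0)
    (hk : ∀ i : Fin 4, k (.inl i) * k (.inr i) = μ) :
    ∃ s : Sim (qPlus 4 F), s.σ = σ ∧ s.μ = μ ∧ (∀ v i, s.g v i = k i * σ (v i)) ∧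
      ∀ i, s.g (bv i) = k i • bv i := by
  refine ⟨Sim.ofMap setup4 σ (fun v i => k i * σ (v i))
    (fun x y => funext fun i => by simp [mul_add])
    (fun c x => funext fun i => by simp; ring) μ hμ (fun x => ?_), rfl, rfl, fun v i => rfl,
    fun i => funext fun j => ?_⟩
  · simp only [qPlus_apply, Cfsg.quadFormPlus, map_sum, map_mul, Finset.mul_sum]
    refine Finset.sum_congr rfl fun i _ => ?_
    rw [← hk i]
    ring
  · show k j * σ ((bv i : I4 → F) j) = _
    by_cases e : j = i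
    · subst e; simp
    · simp [e]

omit [Fintype F] in
theorem diag_X {s : Sim (qPlus 4 F)} {k : I4 → F} (hg : ∀ i, s.g (bv i) = k i • bv i)
    (r : Fin chevD4.nroots) (t : F) :
    s.aut (X r t) = X r (s.μ⁻¹ * k (d4Pair r).1 * k (d4Pair r).2.1 * s.σ t) := by
  have hi := isLn_root (F := F) r
  rw [X, X, s.aut_eb hi.qu (by rw [polar_smul_right, hi.uz, smul_zero]), hg, s.map_smul', hg,
    smul_smul, smul_smul, eb_scale hi, map_mul, map_neg, map_intCast]
  congr 2
  ring

/-- The graph isometry exchanging the last hyperbolic pair. -/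
noncomputable def sw : orth (qPlus 4 F) := rf (qPlus 4 F) (bv (.inl 3) - bv (.inr 3))

/-- The transposition of the last hyperbolic pair. -/
def swI : I4 → I4
  | .inl i => if i = 3 then .inr 3 else .inl i
  | .inr i => if i = 3 then .inl 3 else .inr i

omit [Fintype F] in
theorem sw_q : qPlus 4 F (bv (.inl 3) - bv (.inr 3)) = -1 := by
  simp [qPlus_apply, Cfsg.quadFormPlus, Fin.sum_univ_four]

omit [Fintype F] in
theorem sw_apply (v : I4 → F) (i : I4) : (sw (F := F)).1 v i = v (swI i) := by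
  rw [sw, rf_apply, sw_q, polar_sub_left, polar_bv, polar_bv]
  rcases i with i | i <;> fin_cases i <;> simp [swI]

omit [Fintype F] in
theorem sw_bv (i : I4) : (sw (F := F)).1 (bv i) = bv (swI i) := by
  funext j
  rw [sw_apply, bv, bv, Pi.single_apply, Pi.single_apply]
  have h : ∀ x, swI (swI x) = x := by decide
  exact if_congr ⟨fun e => by rw [← e, h], fun e => by rw [e, h]⟩ rfl rfl

/-- The graph permutation of the roots. -/
def swR (r : Fin chevD4.nroots) : Fin chevD4.nroots :=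
  (([0, 1, 3, 2, 4, 5, 6, 8, 7, 9, 11, 10, 13, 12, 14, 16, 15, 17, 18, 19, 21, 20, 22, 23] :
    List (Fin 24)).getD r.val 0).cast (by decide)

theorem swR_spec : ∀ r : Fin chevD4.nroots,
    ((d4Pair (swR r)).1 = swI (d4Pair r).1 ∧ (d4Pair (swR r)).2.1 = swI (d4Pair r).2.1 ∧
      (d4Pair (swR r)).2.2 = (d4Pair r).2.2) ∨
    ((d4Pair (swR r)).1 = swI (d4Pair r).2.1 ∧ (d4Pair (swR r)).2.1 = swI (d4Pair r).1 ∧
      (d4Pair (swR r)).2.2 = -(d4Pair r).2.2) := by decide +kernel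

/-- The graph automorphism. -/
noncomputable def gsw : MulAut (PO (qPlus 4 F)) := (Sim.ofOrth (sw (F := F))).aut

omit [Fintype F] in
theorem gsw_X (r : Fin chevD4.nroots) (t : F) : gsw (X r t) = X (swR r) t := by
  have hi := isLn_root (F := F) r
  rw [gsw, X, Sim.aut_eb _ hi.qu (by rw [polar_smul_right, hi.uz, smul_zero])]
  show eb (qPlus 4 F) ((sw (F := F)).1 (bv (d4Pair r).1))
    ((1 : F)⁻¹ • (sw (F := F)).1 ((-((d4Pair r).2.2 : F) * t) • bv (d4Pair r).2.1)) = _
  rw [inv_one, one_smul, map_smul, sw_bv, sw_bv]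
  rcases swR_spec r with ⟨e1, e2, e3⟩ | ⟨e1, e2, e3⟩
  · rw [X, e1, e2, e3]
  · have hj := isLn_root (F := F) (swR r)
    rw [e1, e2] at hj
    rw [X, e1, e2, eb_swap hj, e3, Int.cast_neg]
    ring_nf

/-- Triality. -/
noncomputable def tau : MulAut (PO (qPlus 4 F)) := (exists_tau (F := F)).choose

/-- The signs of triality. -/
def eps (r : Fin chevD4.nroots) : ℤ := ChevIsogeny.D4.iso.ef r.val

theorem tau_X (r : Fin chevD4.nroots) (t : F) : tau (X r t) = X (rho r) ((eps r : F) * t) :=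
  (exists_tau (F := F)).choose_spec r t

omit [Fintype F] in
theorem eps_ne_zero (r : Fin chevD4.nroots) : (eps r : F) ≠ 0 := by
  have h : ∀ r, eps r = 1 ∨ eps r = -1 := by decide +kernel
  rcases h r with e | e <;> simp [e]

theorem tau_cube : (tau (F := F)) ^ 3 = 1 := by
  refine ext_X fun r t => ?_
  have h : ∀ r, rho (rho (rho r)) = r ∧ eps (rho (rho r)) * eps (rho r) * eps r = 1 := by
    decide +kernel
  simp only [pow_succ, pow_zero, one_mul, MulAut.mul_apply, tau_X, MulAut.one_apply]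
  rw [(h r).1, ← mul_assoc, ← mul_assoc, ← Int.cast_mul, ← Int.cast_mul, (h r).2, Int.cast_one,
    one_mul]

omit [Fintype F] in
theorem gsw_sq : gsw (F := F) * gsw = 1 := by
  refine ext_X fun r t => ?_
  have h : ∀ r, swR (swR r) = r := by decide +kernel
  rw [MulAut.mul_apply, gsw_X, gsw_X, h, MulAut.one_apply]

theorem tau_gsw : tau (F := F) * gsw * tau = gsw := by
  refine ext_X fun r t => ?_
  have h : ∀ r, rho (swR (rho r)) = swR r ∧ eps (swR (rho r)) * eps r = 1 := by decide +kernel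
  rw [MulAut.mul_apply, MulAut.mul_apply, tau_X, gsw_X, gsw_X, tau_X, (h r).1, ← mul_assoc,
    ← Int.cast_mul, (h r).2, Int.cast_one, one_mul]

end Cfsg.Agent.CG26.AutPO.D4
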