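import Cfsg.Agent.CG26.AutPO.Sylow

/-!
The incidence of lines and points is read off the root subgroups.
-/

set_option autoImplicit false

namespace Cfsg.Agent.CG26.AutPO

open QuadraticMap Cfsg.Agent.UnitaryOrthogonal

universe u v

variable {F : Type u} [Field F] {V : Type v} [AddCommGroup V] [Module F V] {Q : QuadraticForm F V}

theorem eq_span_of_mem {L : Submodule F V} (hL : Ln Q L) {a b : V} (ha : a ∈ L) (hb : b ∈ L)
    (ha0 : a ≠ 0) (hab : ∀ c : F, b ≠ c • a) :
    IsLn Q a b ∧ L = Submodule.span F ({a, b} : Set V) := by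
  obtain ⟨u, z, h, rfl⟩ := hL
  obtain ⟨p, q, ea⟩ := mem_pair.1 ha
  obtain ⟨r, s, eb'⟩ := mem_pair.1 hb
  refine ⟨⟨h.form_mem ha, h.form_mem hb, h.polar_mem ha hb, ha0, hab⟩,
    le_antisymm ?_ (Submodule.span_le.2 ?_)⟩
  · have hD : p * s - q * r ≠ 0 := by
      intro h0
      by_cases hp : p = 0
      · have hq : q ≠ 0 := fun e => ha0 (by rw [← ea, hp, e]; simp)
        have hr : r = 0 := by
          rw [hp, zero_mul, zero_sub, neg_eq_zero] at h0
          exact (mul_eq_zero.1 h0).resolve_left hq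
        refine hab (s * q⁻¹) ?_
        rw [← eb', ← ea, hp, hr]
        simp [smul_smul, hq]
      · refine hab (r * p⁻¹) ?_
        rw [← eb', ← ea, smul_add, smul_smul, smul_smul, inv_mul_cancel_right₀ hp,
          show r * p⁻¹ * q = s by field_simp; linear_combination -h0]
    have hi := mul_inv_cancel₀ hD
    generalize (p * s - q * r)⁻¹ = i at hi
    refine Submodule.span_le.2 ?_
    rintro v (rfl | rfl)
    · refine mem_pair.2 ⟨s * i, -(q * i), ?_⟩
      rw [← ea, ← eb']
      match_scalars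
      · linear_combination hi
      · ring
    · refine mem_pair.2 ⟨-(r * i), p * i, ?_⟩
      rw [← ea, ← eb']
      match_scalars
      · ring
      · linear_combination hi
  · rintro v (rfl | rfl)
    · exact ha
    · exact hb

theorem exists_pair_of_mem {L : Submodule F V} (hL : Ln Q L) {a : V} (ha : a ∈ L) (ha0 : a ≠ 0) :
    ∃ b, IsLn Q a b ∧ L = Submodule.span F ({a, b} : Set V) := by
  have hL' := hL
  obtain ⟨u, z, h, rfl⟩ := hL'
  by_cases hu : ∀ c : F, u ≠ c • a
  · exact ⟨u, eq_span_of_mem hL ha IsLn.span_mem_left ha0 hu⟩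
  · push Not at hu
    obtain ⟨c, hc⟩ := hu
    refine ⟨z, eq_span_of_mem hL ha IsLn.span_mem_right ha0 fun d e => ?_⟩
    have hc0 : c ≠ 0 := fun e0 => h.u0 (by rw [hc, e0, zero_smul])
    exact h.ind (d * c⁻¹) (by rw [hc, smul_smul, inv_mul_cancel_right₀ hc0, e])

theorem ln_eq {L M : Submodule F V} (hL : Ln Q L) (hM : Ln Q M) (h : L ≤ M) : L = M := by
  obtain ⟨u, z, hi, rfl⟩ := hL
  exact (eq_span_of_mem hM (h IsLn.span_mem_left) (h IsLn.span_mem_right) hi.u0 hi.ind).2.symm

theorem TT_inj (hS : Setup Q) {L M : Submodule F V} (hL : Ln Q L) (hM : Ln Q M)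
    (h : TT Q L = TT Q M) : L = M := by
  obtain ⟨u, z, hi, rfl⟩ := hL
  obtain ⟨c, d, hj, rfl⟩ := hM
  obtain ⟨t, ht⟩ := (mem_TT hj).1 (h ▸ (mem_TT hi).2 ⟨1, rfl⟩)
  rw [one_smul] at ht
  have hz : polar Q c (t • d) = 0 := by simp [hj.uz]
  have ht0 : t ≠ 0 := fun e => eb_ne_one hS hi.qu hi.uz hi.u0 hi.ind (by
    rw [ht, e, zero_smul, eb, show eo Q c 0 = 1 from Subtype.ext (eich_zero c), map_one])
  have hind : ∀ s : F, t • d ≠ s • c := fun s e => hj.ind (t⁻¹ * s) (by
    rw [← smul_smul, ← e, inv_smul_smul₀ ht0])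
  have e := congrArg Subtype.val (piO_inj hS (eo_isU hi.qu hi.uz) (eo_isU hj.qu hz) ht)
  rw [span_eq_of_eich_eq hS hi.qu hi.uz hi.u0 hi.ind hj.qu hz hj.u0 hind e]
  refine ln_eq ⟨c, t • d, ⟨hj.qu, by rw [form_smul, hj.qz, mul_zero], hz, hj.u0, hind⟩, rfl⟩
    ⟨c, d, hj, rfl⟩ (Submodule.span_le.2 ?_)
  rintro v (rfl | rfl)
  · exact IsLn.span_mem_left
  · exact Submodule.smul_mem _ _ IsLn.span_mem_right

/-- Two lines have a common point. -/
def Meet (L M : Submodule F V) : Prop := ∃ a ∈ L, a ∈ M ∧ a ≠ 0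

/-- Two subspaces are orthogonal. -/
def Orth (Q : QuadraticForm F V) (L M : Submodule F V) : Prop :=
  ∀ l ∈ L, ∀ m ∈ M, polar Q l m = 0

/-- The root subgroups commute. -/
def Comm (Q : QuadraticForm F V) (L M : Submodule F V) : Prop :=
  ∀ x ∈ TT Q L, ∀ y ∈ TT Q M, Commute x y

theorem comm_iff (hS : Setup Q) {L M : Submodule F V} (hL : Ln Q L) (hM : Ln Q M) :
    Comm Q L M ↔ Meet L M ∨ Orth Q L M := by
  constructor
  · intro h
    obtain ⟨u, z, hi, rfl⟩ := hL
    obtain ⟨c, d, hj, rfl⟩ := hM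
    by_contra hno
    push Not at hno
    obtain ⟨hm, ho⟩ := hno
    obtain ⟨-, hsp⟩ := span_conj_eq hS hj.qu hj.uz hj.u0 hj.ind (g := eo Q u z)
      (h _ ⟨u, IsLn.span_mem_left, z, IsLn.span_mem_right, rfl⟩ _
        ⟨c, IsLn.span_mem_left, d, IsLn.span_mem_right, rfl⟩)
    have hz : ∀ m : V, (eo Q u z).1.1 m ∈ Submodule.span F ({c, d} : Set V) →
        m ∈ Submodule.span F ({c, d} : Set V) → polar Q u m = 0 ∧ polar Q z m = 0 := by
      intro m h1 h2
      rw [eo_coe, eich_apply hi.qu hi.uz, hi.qz] at h1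
      have hmem : polar Q u m • z + (-polar Q z m) • u ∈ Submodule.span F ({c, d} : Set V) := by
        have := Submodule.sub_mem _ h1 h2
        convert this using 1
        module
      by_contra hne
      refine hm ⟨_, mem_pair.2 ⟨-polar Q z m, polar Q u m, add_comm _ _⟩, hmem, fun e => hne ?_⟩
      obtain ⟨e1, e2⟩ := hi.coeff ((add_comm _ _).trans e)
      exact ⟨e2, neg_eq_zero.1 e1⟩
    obtain ⟨h1, h2⟩ := hz c (hsp ▸ IsLn.span_mem_left) IsLn.span_mem_left
    obtain ⟨h3, h4⟩ := hz d (hsp ▸ IsLn.span_mem_right) IsLn.span_mem_right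
    refine ho fun l hl m hm' => ?_
    obtain ⟨p, q, rfl⟩ := mem_pair.1 hl
    obtain ⟨r, s, rfl⟩ := mem_pair.1 hm'
    simp [h1, h2, h3, h4]
  · rintro (⟨a, haL, haM, ha0⟩ | ho)
    · obtain ⟨b, hb, rfl⟩ := exists_pair_of_mem hL haL ha0
      obtain ⟨b', hb', rfl⟩ := exists_pair_of_mem hM haM ha0
      intro x hx y hy
      obtain ⟨s, rfl⟩ := (mem_TT hb).1 hx
      obtain ⟨t, rfl⟩ := (mem_TT hb').1 hy
      show _ * _ = _ * _
      rw [eb, eb, ← map_mul, ← map_mul]
      refine congrArg _ (Subtype.ext ?_)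
      rw [Subgroup.coe_mul, Subgroup.coe_mul, eo_coe, eo_coe,
        eich_mul hb.qu (by simp [hb.uz]) (by simp [hb'.uz]),
        eich_mul hb.qu (by simp [hb'.uz]) (by simp [hb.uz]), add_comm]
    · rintro _ ⟨u, hu, z, hz, rfl⟩ _ ⟨c, hc, d, hd, rfl⟩
      obtain ⟨p, q, hi, hLs⟩ := hL
      subst hLs
      have hfix : ∀ m ∈ M, (eo Q u z).1.1 m = m := fun m hm => by
        rw [eo_coe, eich_apply (hi.form_mem hu) (hi.polar_mem hu hz), ho u hu m hm, ho z hz m hm]
        simp
      have e := conj_eb (eo Q u z) c d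
      rw [hfix c hc, hfix d hd] at e
      exact mul_inv_eq_iff_eq_mul.1 e

/-- Collinearity in the line geometry. -/
def Strong (Q : QuadraticForm F V) (L M : Submodule F V) : Prop :=
  L ≠ M ∧ Comm Q L M ∧ ∃ N, Ln Q N ∧ N ≠ L ∧ N ≠ M ∧
    ∃ a ∈ TT Q L, ∃ b ∈ TT Q M, a * b ∈ TT Q N ∧ a * b ≠ 1

theorem strong_iff (hS : Setup Q) {L M : Submodule F V} (hL : Ln Q L) (hM : Ln Q M) :
    Strong Q L M ↔ L ≠ M ∧ Meet L M ∧ Orth Q L M := by
  constructor
  · rintro ⟨hne, hc, N, hN, hNL, hNM, x, hx, y, hy, hxy, hxy1⟩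
    refine ⟨hne, ?_⟩
    by_cases hm : Meet L M
    · refine ⟨hm, ?_⟩
      obtain ⟨a, haL, haM, ha0⟩ := hm
      obtain ⟨b, hb, rfl⟩ := exists_pair_of_mem hL haL ha0
      obtain ⟨b', hb', rfl⟩ := exists_pair_of_mem hM haM ha0
      obtain ⟨s, rfl⟩ := (mem_TT hb).1 hx
      obtain ⟨t, rfl⟩ := (mem_TT hb').1 hy
      have hb1 : polar Q a (s • b) = 0 := by simp [hb.uz]
      have hb2 : polar Q a (t • b') = 0 := by simp [hb'.uz]
      have hw : polar Q a (s • b + t • b') = 0 := by simp [hb.uz, hb'.uz]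
      have hprod : eb Q a (s • b) * eb Q a (t • b') = eb Q a (s • b + t • b') := by
        rw [eb, eb, ← map_mul]
        exact congrArg _ (Subtype.ext (eich_mul hb.qu hb1 hb2))
      rw [hprod] at hxy hxy1
      obtain ⟨n₁, n₂, hn, rfl⟩ := hN
      obtain ⟨e, he⟩ := (mem_TT hn).1 hxy
      have hne' : polar Q n₁ (e • n₂) = 0 := by simp [hn.uz]
      have he' := congrArg Subtype.val (piO_inj hS (eo_isU hb.qu hw) (eo_isU hn.qu hne') he)
      have he0 : e ≠ 0 := fun e0 => hxy1 (by
        rw [he, e0, zero_smul, eb, show eo Q n₁ 0 = 1 from Subtype.ext (eich_zero n₁), map_one])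
      have hind : ∀ c : F, s • b + t • b' ≠ c • a := by
        intro c hc'
        by_cases ht : t = 0
        · rw [ht, zero_smul, add_zero] at hc'
          by_cases hs : s = 0
          · exact hxy1 (by rw [hs, ht]; simp [eb, show eo Q a 0 = 1 from Subtype.ext (eich_zero a)])
          · exact hb.ind (s⁻¹ * c) (by rw [← smul_smul, ← hc', inv_smul_smul₀ hs])
        · refine hne (ln_eq hM hL (Submodule.span_le.2 ?_)).symm
          rintro v (rfl | rfl)
          · exact IsLn.span_mem_left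
          · refine mem_pair.2 ⟨t⁻¹ * c, -(t⁻¹ * s), ?_⟩
            have := congrArg (t⁻¹ • ·) hc'
            simp only [smul_add, smul_smul, inv_mul_cancel₀ ht, one_smul] at this
            rw [← eq_sub_iff_add_eq'] at this
            rw [this, neg_smul]
            abel
      have hsp := span_eq_of_eich_eq hS hb.qu hw hb.u0 hind hn.qu hne' hn.u0
        (fun c e1 => hn.ind (e⁻¹ * c) (by rw [← smul_smul, ← e1, inv_smul_smul₀ he0])) he'
      have hsub : Submodule.span F ({n₁, e • n₂} : Set V) ≤ Submodule.span F ({n₁, n₂} : Set V) := by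
        refine Submodule.span_le.2 ?_
        rintro v (rfl | rfl)
        · exact IsLn.span_mem_left
        · exact Submodule.smul_mem _ _ IsLn.span_mem_right
      have haN : a ∈ Submodule.span F ({n₁, n₂} : Set V) := hsub (hsp ▸ IsLn.span_mem_left)
      have hwN : s • b + t • b' ∈ Submodule.span F ({n₁, n₂} : Set V) :=
        hsub (hsp ▸ IsLn.span_mem_right)
      obtain ⟨-, hNeq⟩ := eq_span_of_mem (L := Submodule.span F ({n₁, n₂} : Set V))
        ⟨n₁, n₂, hn, rfl⟩ haN hwN ha0 hind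
      have hs : s ≠ 0 := fun e0 => hNM (by
        refine ln_eq ⟨n₁, n₂, hn, rfl⟩ hM (hNeq ▸ Submodule.span_le.2 ?_)
        rintro v (rfl | rfl)
        · exact IsLn.span_mem_left
        · rw [e0, zero_smul, zero_add]; exact Submodule.smul_mem _ _ IsLn.span_mem_right)
      have ht : t ≠ 0 := fun e0 => hNL (by
        refine ln_eq ⟨n₁, n₂, hn, rfl⟩ hL (hNeq ▸ Submodule.span_le.2 ?_)
        rintro v (rfl | rfl)
        · exact IsLn.span_mem_left
        · rw [e0, zero_smul, add_zero]; exact Submodule.smul_mem _ _ IsLn.span_mem_right)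
      have hQw := hn.form_mem hwN
      simp [form_add, form_smul, hb.qz, hb'.qz, hs, ht] at hQw
      intro l hl m hm'
      obtain ⟨p, q, rfl⟩ := mem_pair.1 hl
      obtain ⟨r, r', rfl⟩ := mem_pair.1 hm'
      simp [hQw, hb.uz, hb'.uz, polar_self_zero hb.qu, polar_comm Q b a]
    · exfalso
      have ho := ((comm_iff hS hL hM).1 hc).resolve_left hm
      obtain ⟨u, z, hi, rfl⟩ := hL
      obtain ⟨c, d, hj, rfl⟩ := hM
      obtain ⟨s, rfl⟩ := (mem_TT hi).1 hx
      obtain ⟨t, rfl⟩ := (mem_TT hj).1 hy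
      obtain ⟨n₁, n₂, hn, rfl⟩ := hN
      obtain ⟨e, he⟩ := (mem_TT hn).1 hxy
      have h1 : polar Q u (s • z) = 0 := by simp [hi.uz]
      have h2 : polar Q c (t • d) = 0 := by simp [hj.uz]
      have h3 : polar Q n₁ (e • n₂) = 0 := by simp [hn.uz]
      have hcom : Commute (eo Q u (s • z)) (eo Q c (t • d)) :=
        mul_inv_eq_iff_eq_mul.1 (conj_eq_of_comm hS (eo_isU hj.qu h2) (hc _ hx _ hy))
      have hU : IsU (eo Q u (s • z) * eo Q c (t • d)) := by
        obtain ⟨k, hk⟩ := eo_isU hi.qu h1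
        obtain ⟨l, hl⟩ := eo_isU hj.qu h2
        refine ⟨k + l, ?_⟩
        rw [hcom.mul_pow, pow_add, pow_mul, hk, one_pow, one_mul, mul_comm, pow_mul, hl, one_pow]
      have he' := congrArg Subtype.val (piO_inj hS hU (eo_isU hn.qu h3) (by rw [map_mul]; exact he))
      have hperp : ∀ w, polar Q n₁ w = 0 → polar Q n₂ w = 0 →
          (s • (polar Q u w • z - polar Q z w • u) = 0 ∧ t • (polar Q c w • d - polar Q d w • c) = 0) := by
        intro w hw1 hw2
        have e1 : (eich Q n₁ (e • n₂)).1 w = w := by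
          rw [eich_apply hn.qu h3, hw1, polar_smul_left, hw2]
          simp
        rw [← eo_coe (Q := Q) n₁ (e • n₂), ← he', Subgroup.coe_mul, eo_coe, eo_coe, coe_mul_apply, eich_apply hj.qu h2,
          eich_apply hi.qu h1] at e1
        simp only [form_smul, hi.qz, hj.qz, mul_zero, zero_mul, zero_smul, sub_zero,
          polar_smul_left, polar_add_right, polar_sub_right, polar_smul_right,
          ho u IsLn.span_mem_left c IsLn.span_mem_left, ho u IsLn.span_mem_left d IsLn.span_mem_right,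
          ho z IsLn.span_mem_right c IsLn.span_mem_left, ho z IsLn.span_mem_right d IsLn.span_mem_right,
          smul_eq_mul, add_zero] at e1
        have hsum : s • (polar Q u w • z - polar Q z w • u) +
            t • (polar Q c w • d - polar Q d w • c) = 0 := by
          linear_combination (norm := module) e1
        have hLm : s • (polar Q u w • z - polar Q z w • u) ∈ Submodule.span F ({u, z} : Set V) :=
          Submodule.smul_mem _ _ (Submodule.sub_mem _ (Submodule.smul_mem _ _ IsLn.span_mem_right)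
            (Submodule.smul_mem _ _ IsLn.span_mem_left))
        have hMm : s • (polar Q u w • z - polar Q z w • u) ∈ Submodule.span F ({c, d} : Set V) := by
          rw [eq_neg_of_add_eq_zero_left hsum]
          exact Submodule.neg_mem _ (Submodule.smul_mem _ _ (Submodule.sub_mem _
            (Submodule.smul_mem _ _ IsLn.span_mem_right) (Submodule.smul_mem _ _ IsLn.span_mem_left)))
        have h0 : s • (polar Q u w • z - polar Q z w • u) = 0 :=
          by_contra fun hne0 => hm ⟨_, hLm, hMm, hne0⟩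
        exact ⟨h0, by rw [h0, zero_add] at hsum; exact hsum⟩
      have hle : ∀ {u z : V} {s : F}, IsLn Q u z → s ≠ 0 →
          (∀ w, polar Q n₁ w = 0 → polar Q n₂ w = 0 → s • (polar Q u w • z - polar Q z w • u) = 0) →
          Submodule.span F ({u, z} : Set V) = Submodule.span F ({n₁, n₂} : Set V) := by
        intro u z s hi hs hp
        obtain ⟨f, g, g1, g2, g3, g4⟩ := hn.exists_duals hS
        have hw : ∀ w, polar Q n₁ w = 0 → polar Q n₂ w = 0 → polar Q u w = 0 ∧ polar Q z w = 0 := by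
          intro w a b
          have h0 := (smul_eq_zero.1 (hp w a b)).resolve_left hs
          obtain ⟨x1, x2⟩ := hi.coeff (a := -polar Q z w) (b := polar Q u w)
            (by rw [neg_smul]; linear_combination (norm := module) h0)
          exact ⟨x2, neg_eq_zero.1 x1⟩
        refine ln_eq ⟨u, z, hi, rfl⟩ ⟨n₁, n₂, hn, rfl⟩ (Submodule.span_le.2 ?_)
        rintro v (rfl | rfl)
        · exact mem_pair.2 ⟨_, _, (mem_of_perp_perp hS g1 g2 g3 g4 fun w a b => (hw w a b).1).symm⟩
        · exact mem_pair.2 ⟨_, _, (mem_of_perp_perp hS g1 g2 g3 g4 fun w a b => (hw w a b).2).symm⟩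
      by_cases hs : s = 0
      · by_cases ht : t = 0
        · exact hxy1 (by simp [hs, ht, eb, show ∀ v : V, eo Q v 0 = 1 from
            fun v => Subtype.ext (eich_zero v)])
        · exact hNM (hle hj ht fun w a b => (hperp w a b).2).symm
      · exact hNL (hle hi hs fun w a b => (hperp w a b).1).symm
  · rintro ⟨hne, hm, ho⟩
    refine ⟨hne, (comm_iff hS hL hM).2 (Or.inl hm), ?_⟩
    obtain ⟨a, haL, haM, ha0⟩ := hm
    obtain ⟨b, hb, rfl⟩ := exists_pair_of_mem hL haL ha0
    obtain ⟨b', hb', rfl⟩ := exists_pair_of_mem hM haM ha0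
    have hbb : polar Q b b' = 0 := ho b IsLn.span_mem_right b' IsLn.span_mem_right
    have hind : ∀ c : F, b + b' ≠ c • a := by
      intro c hc
      refine hne (ln_eq hM hL (Submodule.span_le.2 ?_)).symm
      rintro v (rfl | rfl)
      · exact IsLn.span_mem_left
      · exact mem_pair.2 ⟨c, -1, by rw [← hc]; module⟩
    have hq : Q (b + b') = 0 := by simp [form_add, hb.qz, hb'.qz, hbb]
    have hN : IsLn Q a (b + b') := ⟨hb.qu, hq, by simp [hb.uz, hb'.uz], ha0, hind⟩
    refine ⟨_, ⟨a, b + b', hN, rfl⟩, fun e => ?_, fun e => ?_, eb Q a b,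
      ⟨a, IsLn.span_mem_left, b, IsLn.span_mem_right, rfl⟩, eb Q a b',
      ⟨a, IsLn.span_mem_left, b', IsLn.span_mem_right, rfl⟩, ?_⟩
    · refine hne (ln_eq hM hL (Submodule.span_le.2 ?_)).symm
      rintro v (rfl | rfl)
      · exact IsLn.span_mem_left
      · have := Submodule.sub_mem _ (e ▸ IsLn.span_mem_right :
          b + v ∈ Submodule.span F ({a, b} : Set V)) IsLn.span_mem_right
        simpa using this
    · refine hne (ln_eq hL hM (Submodule.span_le.2 ?_))
      rintro v (rfl | rfl)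
      · exact IsLn.span_mem_left
      · have := Submodule.sub_mem _ (e ▸ IsLn.span_mem_right :
          v + b' ∈ Submodule.span F ({a, b'} : Set V)) IsLn.span_mem_right
        simpa using this
    · have hprod : eb Q a b * eb Q a b' = eb Q a (b + b') := by
        rw [eb, eb, ← map_mul]
        exact congrArg _ (Subtype.ext (eich_mul hb.qu hb.uz hb'.uz))
      rw [hprod]
      exact ⟨⟨a, IsLn.span_mem_left, b + b', IsLn.span_mem_right, rfl⟩,
        eb_ne_one hS hb.qu hN.uz ha0 hind⟩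

end Cfsg.Agent.CG26.AutPO
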