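import Cfsg.Agent.CG26.AutPO.Geometry

/-!
Meeting lines are distinguished from disjoint orthogonal ones by counting (this is where triality is
excluded), and automorphisms induce maps of singular points.
-/

set_option autoImplicit false

namespace Cfsg.Agent.CG26.AutPO

open QuadraticMap Cfsg.Agent.UnitaryOrthogonal

universe u v

variable {F : Type u} [Field F] {V : Type v} [AddCommGroup V] [Module F V] {Q : QuadraticForm F V}

/-- No two disjoint orthogonal lines (Witt index three). -/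
def NoOD (Q : QuadraticForm F V) : Prop :=
  ∀ L M, Ln Q L → Ln Q M → Orth Q L M → Meet L M

/-- The hypothesis excluding triality. -/
def Big (Q : QuadraticForm F V) : Prop := NoOD Q ∨ 9 ≤ Module.finrank F V

/-- Common strong neighbours. -/
def CN (Q : QuadraticForm F V) (L M : Submodule F V) : Set (Submodule F V) :=
  {N | Ln Q N ∧ Strong Q L N ∧ Strong Q M N}

/-- Meeting, expressed through root subgroups. -/
def GMeet (Q : QuadraticForm F V) (L M : Submodule F V) : Prop :=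
  Comm Q L M ∧ (Strong Q L M ∨ NoOD Q ∨ (Nat.card F + 1) ^ 2 < (CN Q L M).ncard)

theorem cn_le_of_disjoint (hS : Setup Q) {L M : Submodule F V} (hL : Ln Q L) (hM : Ln Q M)
    (hm : ¬ Meet L M) : (CN Q L M).ncard ≤ (Nat.card F + 1) ^ 2 := by
  classical
  haveI := hS.fin
  cases nonempty_fintype F
  obtain ⟨u, z, hi, rfl⟩ := hL
  obtain ⟨c, d, hj, rfl⟩ := hM
  let pt : V → V → Option F → V := fun u z o => o.elim u fun t => t • u + z
  have hpt : ∀ {u z x : V}, x ∈ Submodule.span F ({u, z} : Set V) → x ≠ 0 →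
      ∃ o, ∃ k : F, k ≠ 0 ∧ pt u z o = k • x := by
    intro u z x hx hx0
    obtain ⟨p, q, rfl⟩ := mem_pair.1 hx
    by_cases hq : q = 0
    · have hp : p ≠ 0 := fun e => hx0 (by simp [e, hq])
      exact ⟨none, p⁻¹, inv_ne_zero hp, by simp [pt, hq, smul_smul, inv_mul_cancel₀ hp]⟩
    · refine ⟨some (q⁻¹ * p), q⁻¹, inv_ne_zero hq, ?_⟩
      show (q⁻¹ * p) • u + z = _
      rw [smul_add, smul_smul, smul_smul, inv_mul_cancel₀ hq, one_smul]
  have hsub : CN Q (Submodule.span F {u, z}) (Submodule.span F {c, d}) ⊆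
      Set.range fun o : Option F × Option F =>
        Submodule.span F ({pt u z o.1, pt c d o.2} : Set V) := by
    rintro N ⟨hN, h1, h2⟩
    obtain ⟨-, ⟨a, haL, haN, ha0⟩, -⟩ := (strong_iff hS ⟨u, z, hi, rfl⟩ hN).1 h1
    obtain ⟨-, ⟨b, hbM, hbN, hb0⟩, -⟩ := (strong_iff hS ⟨c, d, hj, rfl⟩ hN).1 h2
    obtain ⟨o₁, k, hk, e1⟩ := hpt haL ha0
    obtain ⟨o₂, l, hl, e2⟩ := hpt hbM hb0
    refine ⟨(o₁, o₂), ?_⟩
    show Submodule.span F ({pt u z o₁, pt c d o₂} : Set V) = N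
    rw [e1, e2]
    refine ((eq_span_of_mem hN (N.smul_mem k haN) (N.smul_mem l hbN) (smul_ne_zero hk ha0) ?_).2).symm
    intro t e
    refine hm ⟨b, ?_, hbM, hb0⟩
    have : b = l⁻¹ • (t • (k • a)) := by rw [← e, inv_smul_smul₀ hl]
    rw [this]
    exact Submodule.smul_mem _ _ (Submodule.smul_mem _ _ (Submodule.smul_mem _ _ haL))
  refine (Set.ncard_le_ncard hsub (Set.finite_range _)).trans ?_
  rw [Set.ncard_eq_toFinset_card', Set.toFinset_range]
  refine Finset.card_image_le.trans ?_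
  simp [Nat.card_eq_fintype_card, pow_two]

theorem exists_pair_in (hS : Setup Q) (K : Submodule F V)
    (hK : ∀ v, ∃ k ∈ K, ∀ x ∈ K, polar Q x k = polar Q x v) {x : V} (hx : x ∈ K) (hQx : Q x = 0)
    (hx0 : x ≠ 0) : ∃ y ∈ K, Q y = 0 ∧ polar Q x y = 1 := by
  obtain ⟨v, -, hv⟩ := exists_pair hS.nd.nonsing hQx hx0
  obtain ⟨k, hk, hkv⟩ := hK v
  refine ⟨k + (-Q k) • x, K.add_mem hk (K.smul_mem _ hx), ?_, ?_⟩
  · rw [form_add, form_smul, hQx, polar_smul_right, polar_comm Q k x, hkv x hx, hv, smul_eq_mul]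
    ring
  · rw [polar_add_right, polar_smul_right, polar_self_zero hQx, hkv x hx, hv, smul_zero, add_zero]

theorem perp_proj {K : Submodule F V} (hK : ∀ v, ∃ k ∈ K, ∀ x ∈ K, polar Q x k = polar Q x v)
    {a b : V} (haK : a ∈ K) (hbK : b ∈ K) (ha : Q a = 0) (hb : Q b = 0) (hab : polar Q a b = 1) :
    ∀ v, ∃ k ∈ K ⊓ OrthStab.perp₂ Q a b, ∀ x ∈ K ⊓ OrthStab.perp₂ Q a b,
      polar Q x k = polar Q x v := by
  intro v
  obtain ⟨k, hk, hkv⟩ := hK v
  refine ⟨k - polar Q b k • a - polar Q a k • b, ⟨K.sub_mem (K.sub_mem hk (K.smul_mem _ haK))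
    (K.smul_mem _ hbK), ?_, ?_⟩, ?_⟩
  · show polar Q a _ = 0
    simp [polar_sub_right, polar_self_zero ha, hab]
  · show polar Q b _ = 0
    simp [polar_sub_right, polar_self_zero hb, polar_comm Q b a, hab]
  · rintro x ⟨hxK, hxa, hxb⟩
    have h1 : polar Q x a = 0 := by rw [polar_comm]; exact hxa
    have h2 : polar Q x b = 0 := by rw [polar_comm]; exact hxb
    simp [polar_sub_right, h1, h2, hkv x hxK]

/-- Representatives of the projective line. -/
def hom2 : Option F → F × F := fun o => o.elim (1, 0) fun t => (t, 1)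

theorem hom2_inj {c : F} (hc : c ≠ 0) {s t s' t' : Option F}
    (e1 : c * ((hom2 s').1 * (hom2 t').1) = (hom2 s).1 * (hom2 t).1)
    (e2 : c * ((hom2 s').2 * (hom2 t').2) = (hom2 s).2 * (hom2 t).2)
    (e3 : c * ((hom2 s').1 * (hom2 t').2) = (hom2 s).1 * (hom2 t).2)
    (e4 : c * -((hom2 s').2 * (hom2 t').1) = -((hom2 s).2 * (hom2 t).1)) : (s, t) = (s', t') := by
  rcases s with _ | i <;> rcases t with _ | j <;> rcases s' with _ | i' <;> rcases t' with _ | j' <;>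
    simp [hom2, hc] at e1 e2 e3 e4 ⊢
  all_goals first
    | (subst_vars; simp_all; done)
    | exact ⟨by simp_all, by simp_all⟩

theorem cn_gt_of_meet (hS : Setup Q) (h9 : 9 ≤ Module.finrank F V) {L M : Submodule F V}
    (hL : Ln Q L) (hM : Ln Q M) (hm : Meet L M) (ho : ¬ Orth Q L M) :
    (Nat.card F + 1) ^ 2 < (CN Q L M).ncard := by
  classical
  haveI := hS.fin
  haveI := hS.fd
  haveI := hS.finiteV
  cases nonempty_fintype F
  obtain ⟨a, haL, haM, ha0⟩ := hm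
  obtain ⟨z, hz, rfl⟩ := exists_pair_of_mem hL haL ha0
  obtain ⟨z', hz', rfl⟩ := exists_pair_of_mem hM haM ha0
  have hzz : polar Q z z' ≠ 0 := fun e => ho fun l hl m hm' => by
    obtain ⟨p, q, rfl⟩ := mem_pair.1 hl
    obtain ⟨r, s, rfl⟩ := mem_pair.1 hm'
    simp [e, hz.uz, hz'.uz, polar_self_zero hz.qu, polar_comm Q z a]
  set z₁ := (polar Q z z')⁻¹ • z' with hz₁
  have hQz₁ : Q z₁ = 0 := by rw [hz₁, form_smul, hz'.qz, mul_zero]
  have haz₁ : polar Q a z₁ = 0 := by rw [hz₁, polar_smul_right, hz'.uz, smul_zero]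
  have hzz₁ : polar Q z z₁ = 1 := by rw [hz₁, polar_smul_right, smul_eq_mul, inv_mul_cancel₀ hzz]
  have h0 : ∀ v, ∃ k ∈ (⊤ : Submodule F V), ∀ x ∈ (⊤ : Submodule F V), polar Q x k = polar Q x v :=
    fun v => ⟨v, trivial, fun _ _ => rfl⟩
  have hK1 := perp_proj h0 trivial trivial hz.qz hQz₁ hzz₁
  set K1 := (⊤ : Submodule F V) ⊓ OrthStab.perp₂ Q z z₁ with hK1def
  have haK1 : a ∈ K1 := ⟨trivial, by show polar Q z a = 0; rw [polar_comm]; exact hz.uz,
    by show polar Q z₁ a = 0; rw [polar_comm]; exact haz₁⟩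
  obtain ⟨f, hfK, hQf, haf⟩ := exists_pair_in hS K1 hK1 haK1 hz.qu ha0
  have hK2 := perp_proj hK1 haK1 hfK hz.qu hQf haf
  set K2 := K1 ⊓ OrthStab.perp₂ Q a f with hK2def
  have step : ∀ (K : Submodule F V) (a b : V), Module.finrank F K ≤
      Module.finrank F (K ⊓ OrthStab.perp₂ Q a b : Submodule F V) + 2 := by
    intro K a b
    have h1 := Submodule.finrank_sup_add_finrank_inf_eq K (OrthStab.perp₂ Q a b)
    have h2 := Submodule.finrank_le (K ⊔ OrthStab.perp₂ Q a b)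
    have h3 := hS.finrank_perp a b
    omega
  have d1 : Module.finrank F V ≤ Module.finrank F K1 + 2 := by
    have := step ⊤ z z₁; rw [finrank_top] at this; exact this
  have d2 : Module.finrank F K1 ≤ Module.finrank F K2 + 2 := step K1 a f
  obtain ⟨x₁, hx₁, hx₁0, hQx₁⟩ := OrthStab.exists_singular_mem (Q := Q) K2 (by omega)
  obtain ⟨y₁, hy₁, hQy₁, hxy₁⟩ := exists_pair_in hS K2 hK2 hx₁ hQx₁ hx₁0
  have hK3 := perp_proj hK2 hx₁ hy₁ hQx₁ hQy₁ hxy₁
  set K3 := K2 ⊓ OrthStab.perp₂ Q x₁ y₁ with hK3def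
  have d3 : Module.finrank F K2 ≤ Module.finrank F K3 + 2 := step K2 x₁ y₁
  obtain ⟨x₂, hx₂, hx₂0, hQx₂⟩ := OrthStab.exists_singular_mem (Q := Q) K3 (by omega)
  obtain ⟨y₂, hy₂, hQy₂, hxy₂⟩ := exists_pair_in hS K3 hK3 hx₂ hQx₂ hx₂0
  have hK4 := perp_proj hK3 hx₂ hy₂ hQx₂ hQy₂ hxy₂
  set K4 := K3 ⊓ OrthStab.perp₂ Q x₂ y₂ with hK4def
  have d4 : Module.finrank F K3 ≤ Module.finrank F K4 + 2 := step K3 x₂ y₂
  obtain ⟨w, hw, hw0⟩ := K4.exists_mem_ne_zero_of_ne_bot (fun e => by rw [e, finrank_bot] at d4; omega)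
  obtain ⟨w', hww'⟩ : ∃ w', polar Q w w' ≠ 0 := by
    by_contra hc
    push Not at hc
    exact hw0 (hS.nd w hc)
  obtain ⟨k, hk, hkw⟩ := hK4 w'
  have hwk : polar Q w k ≠ 0 := by rw [hkw w hw]; exact hww'
  -- the orthogonality relations
  have in2 : ∀ x ∈ K3, x ∈ K2 := fun x hx => hx.1
  have in1 : ∀ x ∈ K2, polar Q a x = 0 ∧ polar Q f x = 0 ∧ polar Q z x = 0 ∧ polar Q z₁ x = 0 :=
    fun x hx => ⟨hx.2.1, hx.2.2, hx.1.2.1, hx.1.2.2⟩
  have o1 : ∀ x ∈ K3, polar Q x₁ x = 0 ∧ polar Q y₁ x = 0 := fun x hx => ⟨hx.2.1, hx.2.2⟩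
  have o2 : ∀ x ∈ K4, polar Q x₂ x = 0 ∧ polar Q y₂ x = 0 := fun x hx => ⟨hx.2.1, hx.2.2⟩
  obtain ⟨q₁, q₂⟩ := o1 _ hx₂
  obtain ⟨q₃, q₄⟩ := o1 _ hy₂
  obtain ⟨q₅, q₆⟩ := o1 _ hw.1
  obtain ⟨q₇, q₈⟩ := o2 _ hw
  obtain ⟨q₉, q₁₀⟩ := o1 _ hk.1
  obtain ⟨q₁₁, q₁₂⟩ := o2 _ hk
  let hom : Option F → F × F := hom2
  let e0 : V := x₁ + (-Q w) • y₁ + w
  let vec : Option (Option F × Option F) → V := fun o => o.elim e0 fun p =>
    ((hom p.1).1 * (hom p.2).1) • x₁ + ((hom p.1).2 * (hom p.2).2) • y₁ +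
      (((hom p.1).1 * (hom p.2).2) • x₂ + (-((hom p.1).2 * (hom p.2).1)) • y₂)
  have hvecK : ∀ o, vec o ∈ K2 := fun o => by
    rcases o with _ | p
    · exact K2.add_mem (K2.add_mem hx₁ (K2.smul_mem _ hy₁)) hw.1.1
    · exact K2.add_mem (K2.add_mem (K2.smul_mem _ hx₁) (K2.smul_mem _ hy₁))
        (K2.add_mem (K2.smul_mem _ (in2 _ hx₂)) (K2.smul_mem _ (in2 _ hy₂)))
  have hvecQ : ∀ o, Q (vec o) = 0 := fun o => by
    rcases o with _ | p
    · show Q (x₁ + (-Q w) • y₁ + w) = 0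
      simp [form_add, hQx₁, hQy₁, hxy₁, q₅, q₆, form_smul]
    · show Q (_ + _ + (_ + _)) = 0
      simp [form_add, form_smul, hQx₁, hQy₁, hQx₂, hQy₂, hxy₁, hxy₂, q₁, q₂, q₃, q₄]
      ring
  -- coordinates
  have hc : ∀ o, (polar Q y₁ (vec o), polar Q x₁ (vec o), polar Q y₂ (vec o), polar Q x₂ (vec o),
      polar Q k (vec o)) = o.elim ((1 : F), -Q w, (0 : F), (0 : F), polar Q w k) fun p =>
        ((hom p.1).1 * (hom p.2).1, (hom p.1).2 * (hom p.2).2, (hom p.1).1 * (hom p.2).2,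
          -((hom p.1).2 * (hom p.2).1), (0 : F)) := fun o => by
    rcases o with _ | p
    · show (polar Q y₁ (x₁ + (-Q w) • y₁ + w), polar Q x₁ (x₁ + (-Q w) • y₁ + w),
        polar Q y₂ (x₁ + (-Q w) • y₁ + w), polar Q x₂ (x₁ + (-Q w) • y₁ + w),
        polar Q k (x₁ + (-Q w) • y₁ + w)) = _
      simp [polar_self_zero hQx₁, polar_self_zero hQy₁, hxy₁, polar_comm Q y₁ x₁,
        polar_comm Q y₂ x₁, polar_comm Q y₂ y₁, polar_comm Q x₂ x₁, polar_comm Q x₂ y₁,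
        polar_comm Q k x₁, polar_comm Q k y₁, polar_comm Q k w, q₁, q₂, q₃, q₄, q₅, q₆, q₇, q₈, q₉, q₁₀]
    · simp [vec, polar_self_zero hQx₁, polar_self_zero hQy₁, polar_self_zero hQx₂,
        polar_self_zero hQy₂, hxy₁, hxy₂, polar_comm Q y₁ x₁, polar_comm Q y₂ x₂,
        polar_comm Q y₂ x₁, polar_comm Q y₂ y₁, polar_comm Q x₂ x₁, polar_comm Q x₂ y₁,
        polar_comm Q k x₁, polar_comm Q k y₁, polar_comm Q k x₂, polar_comm Q k y₂,
        q₁, q₂, q₃, q₄, q₉, q₁₀, q₁₁, q₁₂]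
  have hvec0 : ∀ o, vec o ≠ 0 := fun o e => by
    have h := hc o
    rw [e] at h
    simp only [polar_zero_right, Prod.ext_iff] at h
    rcases o with _ | ⟨s, t⟩
    · exact one_ne_zero h.1.symm
    · rcases s with _ | s <;> rcases t with _ | t <;> simp [hom, hom2] at h
  have hain : ∀ o, IsLn Q a (vec o) := fun o => ⟨hz.qu, hvecQ o, (in1 _ (hvecK o)).1, ha0,
    fun t e => hvec0 o (by
      have := congrArg (polar Q f) e
      rw [(in1 _ (hvecK o)).2.1, polar_smul_right, polar_comm Q f a, haf, smul_eq_mul, mul_one] at this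
      rw [e, ← this, zero_smul])⟩
  let line : Option (Option F × Option F) → Submodule F V := fun o =>
    Submodule.span F ({a, vec o} : Set V)
  have hinj : Function.Injective line := by
    intro o o' e
    obtain ⟨s, t, hst⟩ := mem_pair.1
      (show vec o ∈ line o' from e ▸ (IsLn.span_mem_right : vec o ∈ line o))
    have hs : s = 0 := by
      have := congrArg (polar Q f) hst
      simpa [(in1 _ (hvecK o)).2.1, (in1 _ (hvecK o')).2.1, polar_comm Q f a, haf] using this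
    have ht0 : t ≠ 0 := fun e0 => hvec0 o (by rw [← hst, hs, e0]; simp)
    rw [hs, zero_smul, zero_add] at hst
    have h := hc o
    have h' := hc o'
    rw [← hst] at h
    simp only [polar_smul_right, smul_eq_mul, Prod.ext_iff] at h h'
    obtain ⟨a1, a2, a3, a4, a5⟩ := h
    obtain ⟨b1, b2, b3, b4, b5⟩ := h'
    rw [b1] at a1; rw [b2] at a2; rw [b3] at a3; rw [b4] at a4; rw [b5] at a5
    rcases o with _ | ⟨o₁, o₂⟩ <;> rcases o' with _ | ⟨p₁, p₂⟩
    · rfl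
    · simp at a5; exact absurd a5.symm hwk
    · simp at a5; exact absurd a5 (not_or.2 ⟨ht0, hwk⟩)
    · exact congrArg some (hom2_inj ht0 a1 a2 a3 a4)
  have hsub : Set.range line ⊆ CN Q (Submodule.span F {a, z}) (Submodule.span F {a, z'}) := by
    rintro _ ⟨o, rfl⟩
    obtain ⟨ia, if', iz, iz₁⟩ := in1 _ (hvecK o)
    have iz' : polar Q z' (vec o) = 0 := by
      have := iz₁
      rw [hz₁, polar_smul_left, smul_eq_mul] at this
      exact (mul_eq_zero.1 this).resolve_left (inv_ne_zero hzz)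
    have hN : Ln Q (line o) := ⟨a, vec o, hain o, rfl⟩
    have gen : ∀ y, IsLn Q a y → polar Q y (vec o) = 0 → vec o ∉ Submodule.span F ({a, y} : Set V) →
        Strong Q (Submodule.span F ({a, y} : Set V)) (line o) := by
      intro y hy hyo hnot
      refine (strong_iff hS ⟨a, y, hy, rfl⟩ hN).2 ⟨fun e => hnot (e ▸ IsLn.span_mem_right),
        ⟨a, IsLn.span_mem_left, IsLn.span_mem_left, ha0⟩, fun l hl m hm' => ?_⟩
      obtain ⟨p, q, rfl⟩ := mem_pair.1 hl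
      obtain ⟨r, s, rfl⟩ := mem_pair.1 hm'
      simp [ia, hyo, hy.uz, polar_self_zero hy.qu, polar_comm Q y a]
    have hnot : ∀ y : V, polar Q f y = 0 → ∀ y' : V, polar Q y' a = 0 → polar Q y' y ≠ 0 →
        polar Q y' (vec o) = 0 → vec o ∉ Submodule.span F ({a, y} : Set V) := by
      intro y hfy y' h1 h2 h3 hmem
      obtain ⟨p, q, e⟩ := mem_pair.1 hmem
      have hq : q = 0 := by
        have := congrArg (polar Q y') e
        simpa [h1, h3, h2] using this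
      have hp : p = 0 := by
        have := congrArg (polar Q f) e
        simpa [if', hfy, polar_comm Q f a, haf] using this
      exact hvec0 o (by rw [← e, hp, hq]; simp)
    have hfz : polar Q f z = 0 := by rw [polar_comm]; exact hfK.2.1
    have hfz' : polar Q f z' = 0 := by
      have := (show polar Q z₁ f = 0 from hfK.2.2)
      rw [hz₁, polar_smul_left, smul_eq_mul] at this
      rw [polar_comm]
      exact (mul_eq_zero.1 this).resolve_left (inv_ne_zero hzz)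
    refine ⟨hN, gen z hz iz (hnot z hfz z' ?_ ?_ iz'), gen z' hz' iz' (hnot z' hfz' z ?_ hzz iz)⟩
    · rw [polar_comm]; exact hz'.uz
    · rw [polar_comm]; exact hzz
    · rw [polar_comm]; exact hz.uz
  have h1 := Set.ncard_le_ncard hsub (Set.toFinite _)
  rw [Set.ncard_range_of_injective hinj] at h1
  refine lt_of_lt_of_le ?_ h1
  simp [Nat.card_eq_fintype_card, pow_two]

theorem gmeet_iff (hS : Setup Q) (hB : Big Q) {L M : Submodule F V} (hL : Ln Q L) (hM : Ln Q M)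
    (hne : L ≠ M) : GMeet Q L M ↔ Meet L M := by
  constructor
  · rintro ⟨hc, h⟩
    rcases (comm_iff hS hL hM).1 hc with hm | ho
    · exact hm
    by_contra hm
    rcases h with h | h | h
    · exact hm ((strong_iff hS hL hM).1 h).2.1
    · exact hm (h L M hL hM ho)
    · exact absurd (cn_le_of_disjoint hS hL hM hm) (not_le.2 h)
  · intro hm
    refine ⟨(comm_iff hS hL hM).2 (Or.inl hm), ?_⟩
    by_cases ho : Orth Q L M
    · exact Or.inl ((strong_iff hS hL hM).2 ⟨hne, hm, ho⟩)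
    · exact Or.inr (hB.imp_right fun h9 => cn_gt_of_meet hS h9 hL hM hm ho)

/-- The automorphism maps the root subgroup of `L` to that of `L'`. -/
def MapsLn (α : MulAut (PO Q)) (L L' : Submodule F V) : Prop :=
  Ln Q L ∧ Ln Q L' ∧ α '' TT Q L = TT Q L'

theorem MapsLn.unique (hS : Setup Q) {α : MulAut (PO Q)} {L L' L'' : Submodule F V}
    (h : MapsLn α L L') (h' : MapsLn α L L'') : L' = L'' :=
  TT_inj hS h.2.1 h'.2.1 (h.2.2.symm.trans h'.2.2)

theorem MapsLn.symm {α : MulAut (PO Q)} {L L' : Submodule F V} (h : MapsLn α L L') :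
    MapsLn α⁻¹ L' L := by
  refine ⟨h.2.1, h.1, ?_⟩
  rw [← h.2.2, Set.image_image]
  simp

theorem exists_mapsLn (hS : Setup Q) (α : MulAut (PO Q)) {L : Submodule F V} (hL : Ln Q L) :
    ∃ L', MapsLn α L L' := by
  obtain ⟨L', h, e⟩ := map_TT hS α hL
  exact ⟨L', hL, h, e⟩

theorem MapsLn.eq_iff (hS : Setup Q) {α : MulAut (PO Q)} {L L' M M' : Submodule F V}
    (h : MapsLn α L L') (g : MapsLn α M M') : L = M ↔ L' = M' := by
  constructor
  · rintro rfl; exact h.unique hS g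
  · rintro rfl; exact h.symm.unique hS g.symm

theorem MapsLn.comm {α : MulAut (PO Q)} {L L' M M' : Submodule F V}
    (h : MapsLn α L L') (g : MapsLn α M M') (hc : Comm Q L M) : Comm Q L' M' := by
  intro x hx y hy
  rw [← h.2.2] at hx
  rw [← g.2.2] at hy
  obtain ⟨a, ha, rfl⟩ := hx
  obtain ⟨b, hb, rfl⟩ := hy
  exact (hc a ha b hb).map α

theorem MapsLn.strong (hS : Setup Q) {α : MulAut (PO Q)} {L L' M M' : Submodule F V}
    (h : MapsLn α L L') (g : MapsLn α M M') (hs : Strong Q L M) : Strong Q L' M' := by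
  obtain ⟨hne, hc, N, hN, hNL, hNM, a, ha, b, hb, hab, hab1⟩ := hs
  obtain ⟨N', k⟩ := exists_mapsLn hS α hN
  refine ⟨fun e => hne ((h.eq_iff hS g).2 e), h.comm g hc, N', k.2.1,
    fun e => hNL ((k.eq_iff hS h).2 e), fun e => hNM ((k.eq_iff hS g).2 e),
    α a, h.2.2 ▸ ⟨a, ha, rfl⟩, α b, g.2.2 ▸ ⟨b, hb, rfl⟩, ?_, ?_⟩
  · rw [← map_mul, ← k.2.2]; exact ⟨a * b, hab, rfl⟩
  · rwa [← map_mul, ne_eq, MulEquiv.map_eq_one_iff]

theorem MapsLn.strong_iff' (hS : Setup Q) {α : MulAut (PO Q)} {L L' M M' : Submodule F V}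
    (h : MapsLn α L L') (g : MapsLn α M M') : Strong Q L M ↔ Strong Q L' M' :=
  ⟨h.strong hS g, h.symm.strong hS g.symm⟩

theorem MapsLn.cn_le (hS : Setup Q) {α : MulAut (PO Q)} {L L' M M' : Submodule F V}
    (h : MapsLn α L L') (g : MapsLn α M M') : (CN Q L M).ncard ≤ (CN Q L' M').ncard := by
  classical
  haveI := hS.finiteV
  choose! φ hφ using fun (N : Submodule F V) (hN : Ln Q N) => exists_mapsLn hS α hN
  refine Set.ncard_le_ncard_of_injOn φ (fun N hN => ⟨(hφ N hN.1).2.1, h.strong hS (hφ N hN.1) hN.2.1,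
    g.strong hS (hφ N hN.1) hN.2.2⟩) (fun N hN N' hN' e => ((hφ N hN.1).eq_iff hS (hφ N' hN'.1)).2 e)
    (Set.toFinite _)

theorem MapsLn.meet (hS : Setup Q) (hB : Big Q) {α : MulAut (PO Q)} {L L' M M' : Submodule F V}
    (h : MapsLn α L L') (g : MapsLn α M M') (hm : Meet L M) : Meet L' M' := by
  by_cases hne : L = M
  · subst hne
    rw [← h.unique hS g]
    obtain ⟨u, z, hi, e⟩ := h.2.1
    exact ⟨u, e ▸ IsLn.span_mem_left, e ▸ IsLn.span_mem_left, hi.u0⟩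
  obtain ⟨hc, h'⟩ := (gmeet_iff hS hB h.1 g.1 hne).2 hm
  refine (gmeet_iff hS hB h.2.1 g.2.1 (fun e => hne ((h.eq_iff hS g).2 e))).1
    ⟨h.comm g hc, h'.imp (h.strong hS g) (Or.imp_right fun hlt => lt_of_lt_of_le hlt (h.cn_le hS g))⟩

/-- The automorphism respects meeting. -/
def Pres (α : MulAut (PO Q)) : Prop :=
  ∀ ⦃L L' M M' : Submodule F V⦄, MapsLn α L L' → MapsLn α M M' → (Meet L M ↔ Meet L' M')

theorem pres_of_big (hS : Setup Q) (hB : Big Q) (α : MulAut (PO Q)) : Pres α :=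
  fun _ _ _ _ h g => ⟨h.meet hS hB g, h.symm.meet hS hB g.symm⟩

/-- Lines through the common point of two meeting non-orthogonal lines. -/
theorem mem_iff_meet {L M N : Submodule F V} {a : V} (hL : Ln Q L) (hM : Ln Q M) (hN : Ln Q N)
    (haL : a ∈ L) (haM : a ∈ M) (ha0 : a ≠ 0) (ho : ¬ Orth Q L M) :
    a ∈ N ↔ Meet L N ∧ Meet M N := by
  refine ⟨fun h => ⟨⟨a, haL, h, ha0⟩, ⟨a, haM, h, ha0⟩⟩, ?_⟩
  rintro ⟨⟨b, hbL, hbN, hb0⟩, c, hcM, hcN, hc0⟩
  by_contra haN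
  obtain ⟨z, hz, rfl⟩ := exists_pair_of_mem hL haL ha0
  obtain ⟨z', hz', rfl⟩ := exists_pair_of_mem hM haM ha0
  obtain ⟨u, w, hu, rfl⟩ := hN
  obtain ⟨p, q, rfl⟩ := mem_pair.1 hbL
  obtain ⟨r, s, rfl⟩ := mem_pair.1 hcM
  have key : ∀ {p q : F} {z : V}, p • a + q • z ∈ Submodule.span F ({u, w} : Set V) →
      p • a + q • z ≠ 0 → q ≠ 0 := by
    intro p q z hm hn e
    rw [e, zero_smul, add_zero] at hm hn
    have := Submodule.smul_mem _ p⁻¹ hm
    rw [inv_smul_smul₀ (fun e0 => hn (by rw [e0, zero_smul]))] at this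
    exact haN this
  have h0 := hu.polar_mem hbN hcN
  simp [hz.uz, hz'.uz, polar_self_zero hz.qu, polar_comm Q z a, key hbN hb0, key hcN hc0] at h0
  refine ho fun l hl m hm => ?_
  obtain ⟨p', q', rfl⟩ := mem_pair.1 hl
  obtain ⟨r', s', rfl⟩ := mem_pair.1 hm
  simp [h0, hz.uz, hz'.uz, polar_self_zero hz.qu, polar_comm Q z a]

/-- The automorphism maps the lines at `a` to the lines at `a'`. -/
def MapsPt (α : MulAut (PO Q)) (a a' : V) : Prop :=
  Q a = 0 ∧ a ≠ 0 ∧ Q a' = 0 ∧ a' ≠ 0 ∧ ∀ L L', MapsLn α L L' → (a ∈ L ↔ a' ∈ L')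

theorem MapsPt.symm {α : MulAut (PO Q)} {a a' : V} (h : MapsPt α a a') : MapsPt α⁻¹ a' a :=
  ⟨h.2.2.1, h.2.2.2.1, h.1, h.2.1, fun L L' g => (h.2.2.2.2 L' L (by simpa using g.symm)).symm⟩

theorem exists_mapsPt_of (hS : Setup Q) {α : MulAut (PO Q)} (hP : Pres α) {a : V} (ha : Q a = 0)
    (ha0 : a ≠ 0) : ∃ a', MapsPt α a a' := by
  haveI := hS.fd
  obtain ⟨c, hc, hac, -, hcs⟩ := hS.exists_orth a a
  have hc' : ∀ t : F, c ≠ t • a := fun t e => hcs (mem_pair.2 ⟨t, 0, by simp [e]⟩)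
  have hL : IsLn Q a c := ⟨ha, hc, hac, ha0, hc'⟩
  obtain ⟨x, hx1, hx2⟩ := exists_polar_eq_pair hS.nd ha ha0 hc' 0 1
  have hM : IsLn Q a (x + (-Q x) • c) := by
    refine ⟨ha, ?_, by simp [hx1, hac], ha0, fun t e => one_ne_zero (α := F) ?_⟩
    · simp [form_add, form_smul, hc, polar_comm Q x c, hx2]
    · have := congrArg (polar Q c) e
      simpa [hx2, polar_self_zero hc, polar_comm Q c a, hac] using this
  set L := Submodule.span F ({a, c} : Set V)
  set M := Submodule.span F ({a, x + (-Q x) • c} : Set V)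
  have hLl : Ln Q L := ⟨_, _, hL, rfl⟩
  have hMl : Ln Q M := ⟨_, _, hM, rfl⟩
  have ho : ¬ Orth Q L M := fun h => one_ne_zero (α := F) (by
    have := h c IsLn.span_mem_right _ IsLn.span_mem_right
    simpa [hx2, polar_self_zero hc] using this)
  have hne : L ≠ M := fun e => ho (by
    intro l hl m hm
    exact hL.polar_mem hl (show m ∈ L by rw [e]; exact hm))
  obtain ⟨L', gL⟩ := exists_mapsLn hS α hLl
  obtain ⟨M', gM⟩ := exists_mapsLn hS α hMl
  have hne' : L' ≠ M' := fun e => hne ((gL.eq_iff hS gM).2 e)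
  have hm' : Meet L' M' := (hP gL gM).1 ⟨a, IsLn.span_mem_left, IsLn.span_mem_left, ha0⟩
  have ho' : ¬ Orth Q L' M' := fun h => ho
    ((strong_iff hS hLl hMl).1 ((gL.strong_iff' hS gM).2
      ((strong_iff hS gL.2.1 gM.2.1).2 ⟨hne', hm', h⟩))).2.2
  obtain ⟨a', haL', haM', ha0'⟩ := hm'
  refine ⟨a', ha, ha0, ?_, ha0', fun N N' g => ?_⟩
  · obtain ⟨u, z, hi, e⟩ := gL.2.1
    exact hi.form_mem (e ▸ haL')
  · rw [mem_iff_meet hLl hMl g.1 IsLn.span_mem_left IsLn.span_mem_left ha0 ho,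
      mem_iff_meet gL.2.1 gM.2.1 g.2.1 haL' haM' ha0' ho']
    exact and_congr (hP gL g) (hP gM g)

theorem exists_mapsPt (hS : Setup Q) (hB : Big Q) (α : MulAut (PO Q)) {a : V} (ha : Q a = 0)
    (ha0 : a ≠ 0) : ∃ a', MapsPt α a a' :=
  exists_mapsPt_of hS (pres_of_big hS hB α) ha ha0

theorem MapsPt.unique (hS : Setup Q) {α : MulAut (PO Q)} {a a' a'' : V} (h : MapsPt α a a')
    (h' : MapsPt α a a'') : ∃ t : F, a'' = t • a' := by
  obtain ⟨c, d, hc, hd, hcd⟩ := exists_line_through hS h.2.2.1 h.2.2.2.1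
  obtain ⟨L, gL⟩ := exists_mapsLn hS α⁻¹ (L := Submodule.span F ({a', c} : Set V)) ⟨_, _, hc, rfl⟩
  obtain ⟨M, gM⟩ := exists_mapsLn hS α⁻¹ (L := Submodule.span F ({a', d} : Set V)) ⟨_, _, hd, rfl⟩
  have gL' := gL.symm
  have gM' := gM.symm
  rw [inv_inv] at gL' gM'
  exact hcd _ ((h'.2.2.2.2 _ _ gL').1 ((h.2.2.2.2 _ _ gL').2 IsLn.span_mem_left))
    ((h'.2.2.2.2 _ _ gM').1 ((h.2.2.2.2 _ _ gM').2 IsLn.span_mem_left))

theorem MapsPt.orth (hS : Setup Q) {α : MulAut (PO Q)} {a a' b b' : V} (ha : MapsPt α a a')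
    (hb : MapsPt α b b') (hab : polar Q a b = 0) (hind : ∀ t : F, b ≠ t • a) :
    polar Q a' b' = 0 := by
  obtain ⟨L', g⟩ := exists_mapsLn hS α
    (L := Submodule.span F ({a, b} : Set V)) ⟨a, b, ⟨ha.1, hb.1, hab, ha.2.1, hind⟩, rfl⟩
  have h1 := (ha.2.2.2.2 _ _ g).1 IsLn.span_mem_left
  have h2 := (hb.2.2.2.2 _ _ g).1 IsLn.span_mem_right
  obtain ⟨u, z, hi, e⟩ := g.2.1
  exact hi.polar_mem (e ▸ h1) (e ▸ h2)

theorem MapsPt.nonorth (hS : Setup Q) {α : MulAut (PO Q)} {a a' b b' : V} (ha : MapsPt α a a')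
    (hb : MapsPt α b b') (hab : polar Q a b ≠ 0) : polar Q a' b' ≠ 0 := by
  intro h0
  by_cases hp : ∀ t : F, b' ≠ t • a'
  · refine hab (MapsPt.orth hS ha.symm hb.symm h0 hp)
  · push Not at hp
    obtain ⟨t, ht⟩ := hp
    have hb' : MapsPt α⁻¹ a' b := by
      obtain ⟨h1, h2, h3, h4, h5⟩ := hb.symm
      refine ⟨ha.2.2.1, ha.2.2.2.1, h3, h4, fun L L' g => ?_⟩
      rw [← h5 L L' g, ht]
      have ht0 : t ≠ 0 := fun e => h2 (by rw [ht, e, zero_smul])
      exact ⟨fun h => L.smul_mem t h, fun h => by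
        have := L.smul_mem t⁻¹ h
        rwa [inv_smul_smul₀ ht0] at this⟩
    obtain ⟨s, hs⟩ := ha.symm.unique hS hb'
    exact hab (by rw [hs, polar_smul_right, polar_self_zero ha.1, smul_zero])

end Cfsg.Agent.CG26.AutPO
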