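import Cfsg.Agent.CG26.AutPO.Geometry

/-!
Semisimilitudes and the automorphisms of `PΩ` they induce.
-/

set_option autoImplicit false

namespace Cfsg.Agent.CG26.AutPO

open QuadraticMap Cfsg.Agent.UnitaryOrthogonal

universe u v

variable {F : Type u} [Field F] {V : Type v} [AddCommGroup V] [Module F V] {Q : QuadraticForm F V}

/-- A semisimilitude of `Q`. -/
structure Sim (Q : QuadraticForm F V) where
  /-- the field automorphism -/
  σ : F ≃+* F
  /-- the map -/
  g : V ≃+ V
  map_smul' : ∀ (c : F) (x : V), g (c • x) = σ c • g x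
  /-- the multiplier -/
  μ : F
  μ0 : μ ≠ 0
  form' : ∀ x, Q (g x) = μ * σ (Q x)

namespace Sim

theorem map_polar (s : Sim Q) (x y : V) :
    polar Q (s.g x) (s.g y) = s.μ * s.σ (polar Q x y) := by
  simp only [polar, ← map_add s.g, s.form', map_sub s.σ, mul_sub]

theorem symm_smul (s : Sim Q) (c : F) (x : V) : s.g.symm (c • x) = s.σ.symm c • s.g.symm x := by
  apply s.g.injective
  rw [s.g.apply_symm_apply, s.map_smul', s.σ.apply_symm_apply, s.g.apply_symm_apply]

/-- The inverse. -/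
def symm (s : Sim Q) : Sim Q where
  σ := s.σ.symm
  g := s.g.symm
  map_smul' := s.symm_smul
  μ := s.σ.symm s.μ⁻¹
  μ0 := (map_ne_zero s.σ.symm).2 (inv_ne_zero s.μ0)
  form' x := by
    apply s.σ.injective
    rw [map_mul, s.σ.apply_symm_apply, s.σ.apply_symm_apply, eq_inv_mul_iff_mul_eq₀ s.μ0,
      ← s.form', s.g.apply_symm_apply]

/-- Conjugation of an isometry. -/
def conjFun (s : Sim Q) (h : orth Q) : orth Q :=
  ⟨{ toFun := fun x => s.g (h.1 (s.g.symm x))
     invFun := fun x => s.g (h.1.symm (s.g.symm x))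
     map_add' := fun x y => by simp
     map_smul' := fun c x => by simp [s.symm_smul, s.map_smul']
     left_inv := fun x => by simp
     right_inv := fun x => by simp }, fun x => by
    show Q (s.g (h.1 (s.g.symm x))) = Q x
    rw [s.form', map_form, ← s.form', s.g.apply_symm_apply]⟩

theorem conjFun_apply (s : Sim Q) (h : orth Q) (x : V) :
    (s.conjFun h).1 x = s.g (h.1 (s.g.symm x)) := rfl

/-- Conjugation as an automorphism of the orthogonal group. -/
def conj (s : Sim Q) : orth Q ≃* orth Q where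
  toFun := s.conjFun
  invFun := s.symm.conjFun
  left_inv h := orth_ext fun x => by
    rw [conjFun_apply, conjFun_apply]
    show s.g.symm (s.g (h.1 (s.g.symm (s.g x)))) = _
    simp
  right_inv h := orth_ext fun x => by
    rw [conjFun_apply, conjFun_apply]
    show s.g (s.g.symm (h.1 (s.g (s.g.symm x)))) = _
    simp
  map_mul' h k := orth_ext fun x => by
    rw [coe_mul_apply, conjFun_apply, conjFun_apply, conjFun_apply, coe_mul_apply,
      s.g.symm_apply_apply]

theorem conj_eich (s : Sim Q) {u z : V} (hu : Q u = 0) (huz : polar Q u z = 0) :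
    s.conj (eich Q u z) = eich Q (s.g u) (s.μ⁻¹ • s.g z) := by
  refine orth_ext fun x => ?_
  obtain ⟨x, rfl⟩ := s.g.surjective x
  have h1 : Q (s.g u) = 0 := by rw [s.form', hu, map_zero, mul_zero]
  have h2 : polar Q (s.g u) (s.μ⁻¹ • s.g z) = 0 := by
    rw [polar_smul_right, s.map_polar, huz, map_zero, mul_zero, smul_zero]
  show s.g ((eich Q u z).1 (s.g.symm (s.g x))) = _
  rw [s.g.symm_apply_apply, eich_apply hu huz, eich_apply h1 h2, map_sub, map_sub, map_add,
    s.map_smul', s.map_smul', s.map_smul', form_smul, s.form', polar_smul_left, s.map_polar,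
    s.map_polar, map_mul, smul_eq_mul, smul_smul]
  have e : ∀ y : F, s.μ⁻¹ * (s.μ * y) = y := fun y => inv_mul_cancel_left₀ s.μ0 y
  have e2 : s.μ * s.σ (polar Q u x) * s.μ⁻¹ = s.σ (polar Q u x) := by
    rw [mul_comm, e]
  have e3 : s.μ⁻¹ * s.μ⁻¹ * (s.μ * s.σ (Q z)) * (s.μ * s.σ (polar Q u x)) =
      s.σ (Q z) * s.σ (polar Q u x) := by
    rw [mul_assoc s.μ⁻¹, e]
    calc s.μ⁻¹ * s.σ (Q z) * (s.μ * s.σ (polar Q u x))
        = s.σ (Q z) * (s.μ⁻¹ * (s.μ * s.σ (polar Q u x))) := by ring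
      _ = _ := by rw [e]
  rw [e, e2, e3]

theorem conj_mem (s : Sim Q) {h : orth Q} (hh : h ∈ eichGroup Q) : s.conj h ∈ eichGroup Q := by
  unfold eichGroup at hh
  induction hh using Subgroup.closure_induction with
  | mem x hx =>
    obtain ⟨u, z, hu, hz, rfl⟩ := hx
    rw [s.conj_eich hu hz]
    exact eich_mem_eichGroup _ _
  | one => simp
  | mul x y _ _ hx hy => rw [map_mul]; exact mul_mem hx hy
  | inv x _ hx => rw [map_inv]; exact inv_mem hx

theorem map_eichGroup (s : Sim Q) : (eichGroup Q).map s.conj.toMonoidHom = eichGroup Q := by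
  refine le_antisymm ?_ fun h hh => ?_
  · rintro _ ⟨h, hh, rfl⟩
    exact s.conj_mem hh
  · exact ⟨s.symm.conj h, s.symm.conj_mem hh, s.conj.apply_symm_apply h⟩

/-- The automorphism of `Ω`. -/
noncomputable def omAut (s : Sim Q) : MulAut (Om Q) :=
  (s.conj.subgroupMap (eichGroup Q)).trans (MulEquiv.subgroupCongr s.map_eichGroup)

theorem omAut_coe (s : Sim Q) (h : Om Q) : (s.omAut h).1 = s.conj h.1 := rfl

/-- The induced automorphism of `PΩ`. -/
noncomputable def aut (s : Sim Q) : MulAut (PO Q) :=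
  QuotientGroup.congr _ _ s.omAut (by
    refine le_antisymm ?_ fun x hx => ⟨s.omAut.symm x, Subgroup.mem_center_iff.2 fun y => ?_,
      s.omAut.apply_symm_apply x⟩
    · rintro _ ⟨x, hx, rfl⟩
      refine Subgroup.mem_center_iff.2 fun y => ?_
      obtain ⟨y, rfl⟩ := s.omAut.surjective y
      simp only [MulEquiv.coe_toMonoidHom, MonoidHom.coe_coe, ← map_mul, Subgroup.mem_center_iff.1 hx y]
    · apply s.omAut.injective
      simp only [map_mul, MulEquiv.apply_symm_apply, Subgroup.mem_center_iff.1 hx])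

theorem aut_piO (s : Sim Q) (h : Om Q) : s.aut (piO Q h) = piO Q (s.omAut h) := rfl

theorem aut_eb (s : Sim Q) {u z : V} (hu : Q u = 0) (huz : polar Q u z = 0) :
    s.aut (eb Q u z) = eb Q (s.g u) (s.μ⁻¹ • s.g z) := by
  rw [eb, aut_piO]
  exact congrArg _ (Subtype.ext (s.conj_eich hu huz))

/-- Two semisimilitudes induce the same automorphism only when proportional. -/
theorem unique (hS : Setup Q) (s t : Sim Q) (h : s.aut = t.aut) :
    s.σ = t.σ ∧ ∃ c : F, c ≠ 0 ∧ ∀ x, s.g x = c • t.g x := by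
  let k : V →ₛₗ[(s.σ.trans t.σ.symm : F ≃+* F).toRingHom] V :=
    { toFun := fun x => t.g.symm (s.g x)
      map_add' := fun x y => by simp
      map_smul' := fun c x => by simp [s.map_smul', t.symm_smul] }
  have hk : Function.Injective k := t.g.symm.injective.comp s.g.injective
  have hl : ∀ u z, IsLn Q u z → k u ∈ Submodule.span F ({u, z} : Set V) := by
    intro u z hi
    have e : eb Q (s.g u) (s.μ⁻¹ • s.g z) = eb Q (t.g u) (t.μ⁻¹ • t.g z) := by
      rw [← s.aut_eb hi.qu hi.uz, ← t.aut_eb hi.qu hi.uz, h]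
    have facts : ∀ r : Sim Q, Q (r.g u) = 0 ∧ polar Q (r.g u) (r.μ⁻¹ • r.g z) = 0 ∧ r.g u ≠ 0 ∧
        ∀ c : F, r.μ⁻¹ • r.g z ≠ c • r.g u := fun r => by
      refine ⟨by rw [r.form', hi.qu, map_zero, mul_zero],
        by rw [polar_smul_right, r.map_polar, hi.uz, map_zero, mul_zero, smul_zero],
        fun e => hi.u0 (r.g.map_eq_zero_iff.1 e), fun c e => hi.ind (r.σ.symm (r.μ * c)) ?_⟩
      apply r.g.injective
      rw [r.map_smul', r.σ.apply_symm_apply, mul_smul, ← e, smul_inv_smul₀ r.μ0]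
    obtain ⟨a1, a2, a3, a4⟩ := facts s
    obtain ⟨b1, b2, b3, b4⟩ := facts t
    have e' := span_eq_of_eich_eq hS a1 a2 a3 a4 b1 b2 b3 b4
      (congrArg Subtype.val (piO_inj hS (eo_isU a1 a2) (eo_isU b1 b2) e))
    obtain ⟨p, q, hpq⟩ := mem_pair.1 (show s.g u ∈ Submodule.span F ({t.g u, t.μ⁻¹ • t.g z} : Set V)
      from e' ▸ IsLn.span_mem_left)
    refine mem_pair.2 ⟨t.σ.symm p, t.σ.symm (q * t.μ⁻¹), ?_⟩
    show _ = t.g.symm (s.g u)
    rw [← hpq]
    simp [map_add, t.symm_smul, smul_smul]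
  obtain ⟨hσ, c, hc, hcx⟩ := scalar_of_fix_points hS k hk fun a ha => by
    by_cases ha0 : a = 0
    · exact ⟨0, by rw [ha0, map_zero, zero_smul]⟩
    · exact fix_points_of_conj hS hl a ha ha0
  refine ⟨RingEquiv.ext fun x => ?_, t.σ c, (map_ne_zero t.σ).2 hc, fun x => ?_⟩
  · have := RingHom.congr_fun hσ x
    exact (t.σ.symm_apply_eq).1 this
  · have := congrArg t.g (hcx x)
    rw [t.map_smul'] at this
    rw [← this]
    exact (t.g.apply_symm_apply _).symm

end Sim

end Cfsg.Agent.CG26.AutPO
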