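import Cfsg.Agent.CG26.AutPO.Incidence
import Cfsg.Agent.CG26.AutPO.Sim
import Cfsg.Agent.Lib.UnitaryOrthogonal.HypGenerate

/-!
Every automorphism of `PΩ(Q)` is induced by a semisimilitude (`dim ≥ 7`, no triality).
-/

set_option autoImplicit false

namespace Cfsg.Agent.CG26.AutPO

open QuadraticMap Cfsg.Agent.UnitaryOrthogonal

universe u v

variable {F : Type u} [Field F] {V : Type v} [AddCommGroup V] [Module F V] {Q : QuadraticForm F V}

/-- The radical of a point, as a set. -/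
def UU (Q : QuadraticForm F V) (a : V) : Set (PO Q) := {x | ∃ w, polar Q a w = 0 ∧ x = eb Q a w}

theorem eb_mul {a w w' : V} (ha : Q a = 0) (hw : polar Q a w = 0) (hw' : polar Q a w' = 0) :
    eb Q a w * eb Q a w' = eb Q a (w + w') := by
  rw [eb, eb, ← map_mul]
  exact congrArg _ (Subtype.ext (eich_mul ha hw hw'))

theorem eb_zero (a : V) : eb Q a 0 = 1 := by
  rw [eb, show eo Q a 0 = 1 from Subtype.ext (eich_zero a), map_one]

theorem eb_inv {a w : V} (ha : Q a = 0) (hw : polar Q a w = 0) : (eb Q a w)⁻¹ = eb Q a (-w) :=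
  inv_eq_of_mul_eq_one_right (by rw [eb_mul ha hw (by simp [hw]), add_neg_cancel, eb_zero])

/-- Projection to the complement of a hyperbolic pair. -/
def proj (Q : QuadraticForm F V) (e f : V) (x : V) : V := x - polar Q f x • e - polar Q e x • f

/-- A hyperbolic pair. -/
structure Pair (Q : QuadraticForm F V) (e f : V) : Prop where
  qe : Q e = 0
  qf : Q f = 0
  ef : polar Q e f = 1

theorem Pair.fe {e f : V} (h : Pair Q e f) : polar Q f e = 1 := by rw [polar_comm]; exact h.ef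

theorem Pair.e0 {e f : V} (h : Pair Q e f) : e ≠ 0 := fun z => by
  have := h.ef; rw [z] at this; simp at this

theorem Pair.symm {e f : V} (h : Pair Q e f) : Pair Q f e := ⟨h.qf, h.qe, h.fe⟩

theorem Pair.proj_mem {e f : V} (h : Pair Q e f) (x : V) :
    proj Q e f x ∈ OrthStab.perp₂ Q e f := by
  refine OrthStab.mem_perp₂.2 ⟨?_, ?_⟩ <;>
    simp [proj, polar_sub_right, polar_self_zero h.qe, polar_self_zero h.qf, h.ef, h.fe]

theorem Pair.eb_inj (hS : Setup Q) {e f w w' : V} (h : Pair Q e f)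
    (hw : w ∈ OrthStab.perp₂ Q e f) (hw' : w' ∈ OrthStab.perp₂ Q e f)
    (he : eb Q e w = eb Q e w') : w = w' := by
  obtain ⟨c, hc⟩ := eich_eq_iff hS h.qe hw.1 hw'.1 h.e0
    (congrArg Subtype.val (piO_inj hS (eo_isU h.qe hw.1) (eo_isU h.qe hw'.1) he))
  have hc0 : c = 0 := by
    have := congrArg (polar Q f) hc
    rw [polar_sub_right, show polar Q f w = 0 from hw.2, show polar Q f w' = 0 from hw'.2,
      polar_smul_right, h.fe] at this
    simpa using this.symm
  rw [hc0, zero_smul, sub_eq_zero] at hc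
  exact hc

theorem Pair.isLn {e f a : V} (h : Pair Q e f) (ha : a ∈ OrthStab.perp₂ Q e f) (hQa : Q a = 0)
    (ha0 : a ≠ 0) : IsLn Q e a :=
  ⟨h.qe, hQa, ha.1, h.e0, fun c e' => ha0 (by
    have := congrArg (polar Q f) e'
    rw [show polar Q f a = 0 from ha.2, polar_smul_right, h.fe] at this
    rw [e', show c = 0 by simpa using this.symm, zero_smul])⟩

theorem exists_pair_in_perp (hS : Setup Q) {a : V} (ha : Q a = 0) (ha0 : a ≠ 0) :
    ∃ c x, polar Q a c = 0 ∧ polar Q a x = 0 ∧ Pair Q c x := by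
  obtain ⟨c, hc, hac, -, hcs⟩ := hS.exists_orth a a
  have hc' : ∀ t : F, c ≠ t • a := fun t e => hcs (mem_pair.2 ⟨t, 0, by simp [e]⟩)
  obtain ⟨x, hx1, hx2⟩ := exists_polar_eq_pair hS.nd ha ha0 hc' 0 1
  refine ⟨c, x + (-Q x) • c, hac, by simp [hx1, hac], ⟨hc, ?_, ?_⟩⟩
  · simp [form_add, form_smul, hc, polar_comm Q x c, hx2]
  · simp [hx2, polar_self_zero hc]

theorem MapsPt.image_le (hS : Setup Q) {α : MulAut (PO Q)} {a a' : V} (h : MapsPt α a a') {w : V}
    (hw : polar Q a w = 0) : α (eb Q a w) ∈ UU Q a' := by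
  obtain ⟨c, x, hc, hx, hp⟩ := exists_pair_in_perp hS h.1 h.2.1
  have hm := mem_closure_singular (K := LinearMap.ker (polarBilin Q a)) (v := w)
    (show c ∈ LinearMap.ker (polarBilin Q a) from hc) (show x ∈ LinearMap.ker (polarBilin Q a) from hx)
    hp.qe hp.qf hp.ef (show w ∈ LinearMap.ker (polarBilin Q a) from hw)
  suffices polar Q a w = 0 ∧ α (eb Q a w) ∈ UU Q a' from this.2
  clear hw
  induction hm using AddSubgroup.closure_induction with
  | mem y hy =>
    refine ⟨hy.1, ?_⟩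
    have hay : polar Q a y = 0 := hy.1
    by_cases hind : ∀ t : F, y ≠ t • a
    · obtain ⟨L', g⟩ := exists_mapsLn hS α (L := Submodule.span F ({a, y} : Set V))
        ⟨a, y, ⟨h.1, hy.2, hay, h.2.1, hind⟩, rfl⟩
      obtain ⟨b, hb, rfl⟩ := exists_pair_of_mem g.2.1
        ((h.2.2.2.2 _ _ g).1 IsLn.span_mem_left) h.2.2.2.1
      have hmem : α (eb Q a y) ∈ α '' TT Q (Submodule.span F ({a, y} : Set V)) :=
        ⟨_, ⟨a, IsLn.span_mem_left, y, IsLn.span_mem_right, rfl⟩, rfl⟩
      rw [g.2.2] at hmem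
      obtain ⟨t, ht⟩ := (mem_TT hb).1 hmem
      exact ⟨t • b, by simp [hb.uz], ht⟩
    · push Not at hind
      obtain ⟨t, rfl⟩ := hind
      refine ⟨0, by simp, ?_⟩
      rw [eb_zero, show eb Q a (t • a) = eb Q a 0 from congrArg (piO Q) (Subtype.ext (by
        have := eich_add_smul (Q := Q) h.1 (z := 0) (by simp) t
        simpa using this)), eb_zero, map_one]
  | zero => exact ⟨by simp, 0, by simp, by rw [eb_zero, map_one, eb_zero]⟩
  | add y z _ _ hy hz =>
    obtain ⟨hy1, y', hy', ey⟩ := hy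
    obtain ⟨hz1, z', hz', ez⟩ := hz
    refine ⟨by simp [hy1, hz1], y' + z', by simp [hy', hz'], ?_⟩
    rw [← eb_mul h.1 hy1 hz1, map_mul, ey, ez, eb_mul h.2.2.1 hy' hz']
  | neg y _ hy =>
    obtain ⟨hy1, y', hy', ey⟩ := hy
    refine ⟨by simp [hy1], -y', by simp [hy'], ?_⟩
    rw [← eb_inv h.1 hy1, map_inv, ey, eb_inv h.2.2.1 hy']

theorem const_on_singular (hS : Setup Q) {e f : V} {X : Type*} (φ : V → X)
    (h : ∀ a c, a ∈ OrthStab.perp₂ Q e f → c ∈ OrthStab.perp₂ Q e f → IsLn Q a c → φ a = φ c) :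
    ∀ a b, a ∈ OrthStab.perp₂ Q e f → b ∈ OrthStab.perp₂ Q e f → Q a = 0 → Q b = 0 → a ≠ 0 →
      b ≠ 0 → φ a = φ b := by
  haveI := hS.fd
  haveI := hS.fin
  intro a b ha hb hQa hQb ha0 hb0
  have hdim := hS.dim
  have hW := hS.finrank_perp e f
  by_cases hab : polar Q a b = 0
  · by_cases hp : ∀ t : F, b ≠ t • a
    · exact h a b ha hb ⟨hQa, hQb, hab, ha0, hp⟩
    · push Not at hp
      obtain ⟨t, rfl⟩ := hp
      have ht : t ≠ 0 := fun e => hb0 (by rw [e, zero_smul])
      have hk : Module.finrank F V ≤ Module.finrank F (LinearMap.ker (polarBilin Q a)) + 1 := by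
        have h1 := LinearMap.finrank_range_add_finrank_ker (polarBilin Q a)
        have h2 := Submodule.finrank_le (LinearMap.range (polarBilin Q a))
        rw [Module.finrank_self] at h2
        omega
      have h1 := Submodule.finrank_sup_add_finrank_inf_eq (OrthStab.perp₂ Q e f)
        (LinearMap.ker (polarBilin Q a))
      have h2 := Submodule.finrank_le (OrthStab.perp₂ Q e f ⊔ LinearMap.ker (polarBilin Q a))
      have h3 : Module.finrank F (Submodule.span F ({a} : Set V)) = 1 := finrank_span_singleton ha0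
      obtain ⟨c, ⟨hcW, hca⟩, hcs, hQc⟩ := hS.exists_singular_off
        (OrthStab.perp₂ Q e f ⊓ LinearMap.ker (polarBilin Q a)) (Submodule.span F ({a} : Set V))
        (by rw [h3]; omega)
      have hca' : polar Q a c = 0 := hca
      have hind : ∀ s : F, c ≠ s • a := fun s e => hcs (Submodule.mem_span_singleton.2 ⟨s, e.symm⟩)
      rw [h a c ha hcW ⟨hQa, hQc, hca', ha0, hind⟩,
        h (t • a) c hb hcW ⟨hQb, hQc, by simp [hca'], hb0, fun s e => hind (s * t) (by rw [e, smul_smul])⟩]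
  · have h1 := Submodule.finrank_sup_add_finrank_inf_eq (OrthStab.perp₂ Q e f) (OrthStab.perp₂ Q a b)
    have h2 := Submodule.finrank_le (OrthStab.perp₂ Q e f ⊔ OrthStab.perp₂ Q a b)
    have h3 := hS.finrank_perp a b
    obtain ⟨c, ⟨hcW, hca, hcb⟩, hc0, hQc⟩ := OrthStab.exists_singular_mem (Q := Q)
      (OrthStab.perp₂ Q e f ⊓ OrthStab.perp₂ Q a b) (by omega)
    have hca' : polar Q a c = 0 := hca
    have hcb' : polar Q b c = 0 := hcb
    have hia : ∀ s : F, c ≠ s • a := fun s e => hc0 (by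
      rw [e, polar_smul_right, polar_comm, smul_eq_mul] at hcb'
      rw [e, (mul_eq_zero.1 hcb').resolve_right hab, zero_smul])
    have hib : ∀ s : F, c ≠ s • b := fun s e => hc0 (by
      rw [e, polar_smul_right, smul_eq_mul] at hca'
      rw [e, (mul_eq_zero.1 hca').resolve_right hab, zero_smul])
    rw [h a c ha hcW ⟨hQa, hQc, hca', ha0, hia⟩, h b c hb hcW ⟨hQb, hQc, hcb', hb0, hib⟩]

/-- The data extracted from the action on the radical of a point. -/
theorem exists_sim (hS : Setup Q) {α : MulAut (PO Q)} (hP : Pres α) {e f : V} (hp : Pair Q e f) :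
    ∃ s : Sim Q, (∀ w, w ∈ OrthStab.perp₂ Q e f → α (eb Q e w) = s.aut (eb Q e w)) ∧
      MapsPt α f (s.g f) := by
  haveI := hS.fin
  haveI := hS.fd
  haveI := hS.finiteV
  obtain ⟨e', he'⟩ := exists_mapsPt_of hS hP hp.qe hp.e0
  obtain ⟨f', hf'⟩ := exists_mapsPt_of hS hP hp.qf hp.symm.e0
  have hne : polar Q e' f' ≠ 0 := he'.nonorth hS hf' (by rw [hp.ef]; exact one_ne_zero)
  set f'' := (polar Q e' f')⁻¹ • f' with hf''def
  have hk : (polar Q e' f')⁻¹ ≠ 0 := inv_ne_zero hne
  have hf'' : MapsPt α f f'' := by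
    obtain ⟨h1, h2, h3, h4, h5⟩ := hf'
    refine ⟨h1, h2, by rw [hf''def, form_smul, h3, mul_zero], smul_ne_zero hk h4, fun L L' g => ?_⟩
    rw [h5 L L' g]
    exact ⟨fun h => L'.smul_mem _ h, fun h => by
      have := L'.smul_mem (polar Q e' f') h
      rwa [hf''def, smul_inv_smul₀ hne] at this⟩
  have hp' : Pair Q e' f'' := ⟨he'.2.2.1, hf''.2.2.1,
    by rw [hf''def, polar_smul_right, smul_eq_mul, inv_mul_cancel₀ hne]⟩
  set W := OrthStab.perp₂ Q e f with hW
  set W' := OrthStab.perp₂ Q e' f'' with hW'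
  have hex : ∀ w : W, ∃ w', w' ∈ W' ∧ α (eb Q e (w : V)) = eb Q e' w' := by
    intro w
    obtain ⟨x, hx, ex⟩ := he'.image_le hS (w := w) w.2.1
    refine ⟨proj Q e' f'' x, hp'.proj_mem x, ex.trans (congrArg (piO Q) (Subtype.ext ?_))⟩
    have := eich_add_smul (Q := Q) hp'.qe (z := proj Q e' f'' x) (hp'.proj_mem x).1 (polar Q f'' x)
    show eich Q e' x = eich Q e' (proj Q e' f'' x)
    rw [← this]
    congr 1
    simp [proj, hx]
  choose θ hθW hθ using hex
  have hθadd : ∀ w w' : W, θ (w + w') = θ w + θ w' := fun w w' => by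
    refine hp'.eb_inj hS (hθW _) (W'.add_mem (hθW w) (hθW w')) ?_
    rw [← hθ, Submodule.coe_add, ← eb_mul hp.qe w.2.1 w'.2.1, map_mul, hθ, hθ,
      eb_mul hp'.qe (hθW w).1 (hθW w').1]
  have hθ0 : θ 0 = 0 := by have := hθadd 0 0; rw [add_zero] at this; exact left_eq_add.1 this
  have hθinj : ∀ w w' : W, θ w = θ w' → w = w' := fun w w' h =>
    Subtype.ext (hp.eb_inj hS w.2 w'.2 (α.injective (by rw [hθ, hθ, h])))
  have hθne : ∀ w : W, (w : V) ≠ 0 → θ w ≠ 0 := fun w hw h =>
    hw (congrArg Subtype.val (hθinj w 0 (h.trans hθ0.symm)))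
  -- the image of the line through `e` and a singular vector
  have hline : ∀ w : W, Q (w : V) = 0 → (w : V) ≠ 0 → ∃ g : MapsLn α
      (Submodule.span F ({e, (w : V)} : Set V)) (Submodule.span F ({e', θ w} : Set V)),
      Q (θ w) = 0 ∧ ∀ t : F, ∃ k : F, θ (t • w) = k • θ w := by
    intro w hQw hw0
    obtain ⟨L', g⟩ := exists_mapsLn hS α (L := Submodule.span F ({e, (w : V)} : Set V))
      ⟨_, _, hp.isLn w.2 hQw hw0, rfl⟩
    obtain ⟨b, hb, hL'⟩ := exists_pair_of_mem g.2.1 ((he'.2.2.2.2 _ _ g).1 IsLn.span_mem_left) he'.2.2.2.1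
    set b' := proj Q e' f'' b with hb'
    have hbe : b' = b - polar Q f'' b • e' := by simp [hb', proj, hb.uz]
    have hQb' : Q b' = 0 := by
      rw [hbe]
      exact hb.form_mem (mem_pair.2 ⟨-polar Q f'' b, 1, by module⟩)
    have key : ∀ t : F, ∃ k : F, θ (t • w) = k • b' := by
      intro t
      have hmem : α (eb Q e (t • (w : V))) ∈ α '' TT Q (Submodule.span F ({e, (w : V)} : Set V)) :=
        ⟨_, ⟨e, IsLn.span_mem_left, _, Submodule.smul_mem _ t IsLn.span_mem_right, rfl⟩, rfl⟩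
      rw [g.2.2, hL'] at hmem
      obtain ⟨k, hk'⟩ := (mem_TT hb).1 hmem
      refine ⟨k, hp'.eb_inj hS (hθW _) (W'.smul_mem k (hp'.proj_mem b)) ?_⟩
      rw [← hθ]
      refine hk'.trans (congrArg (piO Q) (Subtype.ext ?_))
      show eich Q e' (k • b) = eich Q e' (k • b')
      rw [← eich_add_smul (Q := Q) hp'.qe (z := k • b') (by simp [hbe, hb.uz, polar_self_zero hp'.qe])
        (k * polar Q f'' b)]
      congr 1
      rw [hbe]; module
    obtain ⟨k₁, hk₁⟩ := key 1
    rw [one_smul] at hk₁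
    have hk0 : k₁ ≠ 0 := fun e0 => hθne w hw0 (by rw [hk₁, e0, zero_smul])
    have hL'' : L' = Submodule.span F ({e', θ w} : Set V) := by
      refine (eq_span_of_mem g.2.1 ((he'.2.2.2.2 _ _ g).1 IsLn.span_mem_left) ?_ he'.2.2.2.1 ?_).2
      · rw [hL', hk₁, hbe]
        exact mem_pair.2 ⟨-(k₁ * polar Q f'' b), k₁, by module⟩
      · intro c hc
        refine hθne w hw0 ?_
        have h2 := congrArg (polar Q f'') hc
        rw [show polar Q f'' (θ w) = 0 from (hθW w).2, polar_smul_right, hp'.fe] at h2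
        rw [hc, show c = 0 by simpa using h2.symm, zero_smul]
    refine ⟨hL'' ▸ g, by rw [hk₁, form_smul, hQb', mul_zero], fun t => ?_⟩
    obtain ⟨k, hk'⟩ := key t
    exact ⟨k * k₁⁻¹, by rw [hk', hk₁, smul_smul, inv_mul_cancel_right₀ hk0]⟩
  have hQθ : ∀ w : W, Q (w : V) = 0 → Q (θ w) = 0 := fun w hw => by
    by_cases hw0 : (w : V) = 0
    · rw [show w = 0 from Subtype.ext hw0, hθ0, QuadraticMap.map_zero]
    · exact (hline w hw hw0).2.1
  have horth : ∀ a c : W, IsLn Q (a : V) (c : V) → polar Q (θ a) (θ c) = 0 ∧ ∀ t : F, θ c ≠ t • θ a := by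
    intro a c hi
    obtain ⟨g1, -⟩ := hline a hi.qu hi.u0
    obtain ⟨g2, -⟩ := hline c hi.qz hi.z0
    have hs : Strong Q (Submodule.span F ({e, (a : V)} : Set V))
        (Submodule.span F ({e, (c : V)} : Set V)) := by
      refine (strong_iff hS g1.1 g2.1).2 ⟨fun h => ?_, ⟨e, IsLn.span_mem_left, IsLn.span_mem_left, hp.e0⟩, ?_⟩
      · obtain ⟨p, q, hpq⟩ := mem_pair.1 (show (c : V) ∈ Submodule.span F ({e, (a : V)} : Set V) from
          h ▸ IsLn.span_mem_right)
        have := congrArg (polar Q f) hpq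
        simp [hp.fe, show polar Q f (a : V) = 0 from a.2.2, show polar Q f (c : V) = 0 from c.2.2] at this
        exact hi.ind q (by rw [← hpq, this, zero_smul, zero_add])
      · intro l hl m hm
        obtain ⟨p, q, rfl⟩ := mem_pair.1 hl
        obtain ⟨r, s, rfl⟩ := mem_pair.1 hm
        simp [polar_self_zero hp.qe, show polar Q e (a : V) = 0 from a.2.1,
          show polar Q e (c : V) = 0 from c.2.1, polar_comm Q (a : V) e, hi.uz]
    obtain ⟨hne', -, ho⟩ := (strong_iff hS g1.2.1 g2.2.1).1 (g1.strong hS g2 hs)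
    refine ⟨ho _ IsLn.span_mem_right _ IsLn.span_mem_right, fun t ht => hne' ?_⟩
    refine (ln_eq g2.2.1 g1.2.1 (Submodule.span_le.2 ?_)).symm
    rintro v (rfl | rfl)
    · exact IsLn.span_mem_left
    · exact ht ▸ Submodule.smul_mem _ t IsLn.span_mem_right
  -- the field automorphism
  classical
  let σf : V → F → F := fun a t =>
    if h : a ∈ W ∧ Q a = 0 ∧ a ≠ 0 then ((hline ⟨a, h.1⟩ h.2.1 h.2.2).2.2 t).choose else 0
  have hσf : ∀ (a : W), Q (a : V) = 0 → (a : V) ≠ 0 → ∀ t, θ (t • a) = σf a t • θ a := by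
    intro a hQa ha0 t
    simp only [σf, dif_pos (show (a : V) ∈ W ∧ Q (a : V) = 0 ∧ (a : V) ≠ 0 from ⟨a.2, hQa, ha0⟩)]
    exact ((hline ⟨a, a.2⟩ hQa ha0).2.2 t).choose_spec
  have hσc : ∀ a b, a ∈ W → b ∈ W → Q a = 0 → Q b = 0 → a ≠ 0 → b ≠ 0 → σf a = σf b := by
    refine const_on_singular hS σf fun a c ha hc hi => funext fun t => ?_
    have hi2 := (horth ⟨a, ha⟩ ⟨c, hc⟩ hi).2
    have hQac : Q (a + c) = 0 := by simp [form_add, hi.qu, hi.qz, hi.uz]
    have hac0 : a + c ≠ 0 := fun e => hi.ind (-1) (by rw [neg_one_smul]; exact eq_neg_of_add_eq_zero_right e)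
    have h1 := hσf (⟨a, ha⟩ + ⟨c, hc⟩) hQac hac0 t
    rw [smul_add, hθadd, hθadd, hσf ⟨a, ha⟩ hi.qu hi.u0 t, hσf ⟨c, hc⟩ hi.qz hi.z0 t, smul_add] at h1
    simp only at h1
    set m := σf ((⟨a, ha⟩ + ⟨c, hc⟩ : W) : V) t
    have h2 : (σf c t - m) • θ ⟨c, hc⟩ = (m - σf a t) • θ ⟨a, ha⟩ := by
      linear_combination (norm := module) h1
    have e2 : σf c t = m := by
      by_contra hne2
      refine hi2 ((σf c t - m)⁻¹ * (m - σf a t)) ?_
      rw [← smul_smul, ← h2, inv_smul_smul₀ (sub_ne_zero.2 hne2)]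
    rw [e2, sub_self, zero_smul, eq_comm, smul_eq_zero] at h2
    rw [e2, ← sub_eq_zero.1 (h2.resolve_right (hθne _ hi.u0))]
  -- a hyperbolic pair of `W`
  have hdim := hS.dim
  have hdW := hS.finrank_perp e f
  obtain ⟨a, haW, ha0, hQa⟩ := OrthStab.exists_singular_mem (Q := Q) W (by rw [hW]; omega)
  have htop : ∀ v, ∃ k ∈ (⊤ : Submodule F V), ∀ x ∈ (⊤ : Submodule F V), polar Q x k = polar Q x v :=
    fun v => ⟨v, trivial, fun _ _ => rfl⟩
  have hprojW := perp_proj htop trivial trivial hp.qe hp.qf hp.ef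
  rw [top_inf_eq] at hprojW
  obtain ⟨b, hbW, hQb, hab⟩ := exists_pair_in hS W hprojW haW hQa ha0
  have hb0 : b ≠ 0 := fun e => by simp [e] at hab
  set A : W := ⟨a, haW⟩
  set Bv : W := ⟨b, hbW⟩
  set σ₀ := σf a with hσ₀
  have hσa : ∀ w : W, Q (w : V) = 0 → ∀ t, θ (t • w) = σ₀ t • θ w := by
    intro w hQw t
    by_cases hw0 : (w : V) = 0
    · rw [show w = 0 from Subtype.ext hw0, smul_zero, hθ0, smul_zero]
    · rw [hσf w hQw hw0, hσ₀, hσc (w : V) a w.2 haW hQw hQa hw0 ha0]
  have hθA : θ A ≠ 0 := hθne A ha0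
  have σone : σ₀ 1 = 1 := by
    have := hσa A hQa 1
    rw [one_smul] at this
    exact smul_left_injective F hθA (this.symm.trans (one_smul F _).symm)
  have σadd : ∀ s t, σ₀ (s + t) = σ₀ s + σ₀ t := fun s t => by
    have := hσa A hQa (s + t)
    rw [add_smul, hθadd, hσa A hQa, hσa A hQa, ← add_smul] at this
    exact (smul_left_injective F hθA this).symm
  have σmul : ∀ s t, σ₀ (s * t) = σ₀ s * σ₀ t := fun s t => by
    have := hσa A hQa (s * t)
    rw [mul_smul, hσa (t • A) (by simp [A, form_smul, hQa]), hσa A hQa, smul_smul] at this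
    exact (smul_left_injective F hθA this).symm
  let σh : F →+* F :=
    { toFun := σ₀
      map_one' := σone
      map_mul' := σmul
      map_zero' := by have := σadd 0 0; rw [add_zero] at this; exact left_eq_add.1 this
      map_add' := σadd }
  let σ : F ≃+* F := RingEquiv.ofBijective σh (Finite.injective_iff_bijective.1 σh.injective)
  have hσapp : ∀ t, σ t = σ₀ t := fun _ => rfl
  have hsemi : ∀ (w : W) (t : F), θ (t • w) = σ t • θ w := by
    intro w t
    have hm := mem_closure_singular (Q := Q) haW hbW hQa hQb hab (v := (w : V)) w.2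
    suffices ∀ x : V, x ∈ AddSubgroup.closure {x : V | x ∈ W ∧ Q x = 0} →
        ∃ hx : x ∈ W, θ (t • ⟨x, hx⟩) = σ t • θ ⟨x, hx⟩ from (this _ hm).2
    intro x hx
    induction hx using AddSubgroup.closure_induction with
    | mem y hy => exact ⟨hy.1, hσa ⟨y, hy.1⟩ hy.2 t⟩
    | zero => exact ⟨W.zero_mem, by
        rw [show (⟨0, W.zero_mem⟩ : W) = 0 from rfl, smul_zero, hθ0, smul_zero]⟩
    | add y z _ _ hy hz =>
      obtain ⟨hy1, hy2⟩ := hy
      obtain ⟨hz1, hz2⟩ := hz
      refine ⟨W.add_mem hy1 hz1, ?_⟩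
      rw [show (⟨y + z, W.add_mem hy1 hz1⟩ : W) = ⟨y, hy1⟩ + ⟨z, hz1⟩ from rfl, smul_add, hθadd,
        hθadd, hy2, hz2, smul_add]
    | neg y _ hy =>
      obtain ⟨hy1, hy2⟩ := hy
      refine ⟨W.neg_mem hy1, ?_⟩
      have hn : ∀ u : W, θ (-u) = -θ u := fun u => eq_neg_of_add_eq_zero_left (by
        rw [← hθadd, neg_add_cancel, hθ0])
      rw [show (⟨-y, W.neg_mem hy1⟩ : W) = -⟨y, hy1⟩ from rfl, smul_neg, hn, hn, hy2, smul_neg]
  set μ := polar Q (θ A) (θ Bv) with hμdef
  have hμ : μ ≠ 0 := by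
    intro hμ0
    obtain ⟨g1, -⟩ := hline A hQa ha0
    obtain ⟨g2, -⟩ := hline Bv hQb hb0
    have hne' : Submodule.span F ({e, (A : V)} : Set V) ≠ Submodule.span F ({e, (Bv : V)} : Set V) := by
      intro h
      obtain ⟨p, q, hpq⟩ := mem_pair.1 (show b ∈ Submodule.span F ({e, a} : Set V) from
        h ▸ IsLn.span_mem_right)
      rw [← hpq, polar_add_right, polar_smul_right, polar_smul_right, polar_self_zero hQa,
        polar_comm Q a e, show polar Q e a = 0 from haW.1] at hab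
      simp at hab
    have hs' : Strong Q (Submodule.span F ({e', θ A} : Set V)) (Submodule.span F ({e', θ Bv} : Set V)) := by
      refine (strong_iff hS g1.2.1 g2.2.1).2 ⟨fun h => hne' ((g1.eq_iff hS g2).2 h),
        ⟨e', IsLn.span_mem_left, IsLn.span_mem_left, hp'.e0⟩, fun l hl m hm => ?_⟩
      obtain ⟨p, q, rfl⟩ := mem_pair.1 hl
      obtain ⟨r, s, rfl⟩ := mem_pair.1 hm
      simp [polar_self_zero hp'.qe, show polar Q e' (θ A) = 0 from (hθW A).1,
        show polar Q e' (θ Bv) = 0 from (hθW Bv).1, polar_comm Q (θ A) e', ← hμdef, hμ0]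
    have := ((strong_iff hS g1.1 g2.1).1 ((g1.strong_iff' hS g2).2 hs')).2.2 a IsLn.span_mem_right
      b IsLn.span_mem_right
    rw [hab] at this
    exact one_ne_zero this
  -- the multiplier
  have hQθ' : ∀ w : W, Q (θ w) = μ * σ (Q (w : V)) := by
    have hK := perp_proj hprojW haW hbW hQa hQb hab
    set X := W ⊓ OrthStab.perp₂ Q a b with hX
    have hperp : ∀ w : W, (w : V) ∈ X → polar Q (θ w) (θ A) = 0 ∧ polar Q (θ w) (θ Bv) = 0 := by
      have h1 := Submodule.finrank_sup_add_finrank_inf_eq W (OrthStab.perp₂ Q a b)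
      have h2 := Submodule.finrank_le (W ⊔ OrthStab.perp₂ Q a b)
      have h3 := hS.finrank_perp a b
      obtain ⟨c, hcX, hc0, hQc⟩ := OrthStab.exists_singular_mem (Q := Q) X (by rw [hX]; rw [hW] at *; omega)
      obtain ⟨d, hdX, hQd, hcd⟩ := exists_pair_in hS X hK hcX hQc hc0
      intro w hw
      have hm := mem_closure_singular (Q := Q) hcX hdX hQc hQd hcd (v := (w : V)) hw
      suffices ∀ x : V, x ∈ AddSubgroup.closure {x : V | x ∈ X ∧ Q x = 0} →
          ∃ hx : x ∈ W, polar Q (θ ⟨x, hx⟩) (θ A) = 0 ∧ polar Q (θ ⟨x, hx⟩) (θ Bv) = 0 from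
        (this _ hm).2
      intro x hx
      induction hx using AddSubgroup.closure_induction with
      | mem y hy =>
        refine ⟨hy.1.1, ?_⟩
        by_cases hy0 : y = 0
        · subst hy0
          rw [show (⟨0, _⟩ : W) = 0 from rfl, hθ0]
          simp
        have hya : polar Q y a = 0 := by rw [polar_comm]; exact hy.1.2.1
        have hyb : polar Q y b = 0 := by rw [polar_comm]; exact hy.1.2.2
        refine ⟨(horth ⟨y, hy.1.1⟩ A ⟨hy.2, hQa, hya, hy0, fun t et => ?_⟩).1,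
          (horth ⟨y, hy.1.1⟩ Bv ⟨hy.2, hQb, hyb, hy0, fun t et => ?_⟩).1⟩
        · have : polar Q a b = 0 := by
            rw [show a = t • y from et, polar_smul_left, hyb, smul_zero]
          rw [hab] at this; exact one_ne_zero this
        · have : polar Q a b = 0 := by
            rw [show b = t • y from et, polar_smul_right, polar_comm, hya, smul_zero]
          rw [hab] at this; exact one_ne_zero this
      | zero => exact ⟨W.zero_mem, by rw [show (⟨0, W.zero_mem⟩ : W) = 0 from rfl, hθ0]; simp⟩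
      | add y z _ _ hy hz =>
        obtain ⟨hy1, hy2, hy3⟩ := hy
        obtain ⟨hz1, hz2, hz3⟩ := hz
        refine ⟨W.add_mem hy1 hz1, ?_⟩
        rw [show (⟨y + z, W.add_mem hy1 hz1⟩ : W) = ⟨y, hy1⟩ + ⟨z, hz1⟩ from rfl, hθadd]
        simp [hy2, hy3, hz2, hz3]
      | neg y _ hy =>
        obtain ⟨hy1, hy2, hy3⟩ := hy
        refine ⟨W.neg_mem hy1, ?_⟩
        have hn : θ (-⟨y, hy1⟩ : W) = -θ ⟨y, hy1⟩ := eq_neg_of_add_eq_zero_left (by
          rw [← hθadd, neg_add_cancel, hθ0])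
        rw [show (⟨-y, W.neg_mem hy1⟩ : W) = -⟨y, hy1⟩ from rfl, hn]
        simp [hy2, hy3]
    intro w
    set x : W := w - polar Q b (w : V) • A - polar Q a (w : V) • Bv with hx
    have hxX : (x : V) ∈ X := by
      refine ⟨x.2, ?_, ?_⟩
      · show polar Q a _ = 0
        simp [hx, A, Bv, polar_sub_right, polar_self_zero hQa, hab]
      · show polar Q b _ = 0
        simp [hx, A, Bv, polar_sub_right, polar_self_zero hQb, polar_comm Q b a, hab]
    have hsing : Q ((x + A + (-Q (x : V)) • Bv : W) : V) = 0 := by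
      have h1 : polar Q (x : V) a = 0 := by rw [polar_comm]; exact hxX.2.1
      have h2 : polar Q (x : V) b = 0 := by rw [polar_comm]; exact hxX.2.2
      simp [A, Bv, form_add, form_smul, hQa, hQb, hab, h1, h2]
    have h0 := hQθ _ hsing
    obtain ⟨hxa, hxb⟩ := hperp x hxX
    rw [hθadd, hθadd, hsemi] at h0
    simp [form_add, form_smul, hQθ A hQa, hQθ Bv hQb, hxa, hxb, ← hμdef] at h0
    have hw : w = x + polar Q b (w : V) • A + polar Q a (w : V) • Bv := by rw [hx]; abel
    rw [hw, hθadd, hθadd, hsemi, hsemi]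
    have h1 : polar Q (x : V) a = 0 := by rw [polar_comm]; exact hxX.2.1
    have h2 : polar Q (x : V) b = 0 := by rw [polar_comm]; exact hxX.2.2
    simp [A, Bv, form_add, form_smul, hQa, hQb, hab, h1, h2]
    simp [A, Bv] at hxa hxb hμdef
    simp [form_add, form_smul, hQθ ⟨a, haW⟩ hQa, hQθ ⟨b, hbW⟩ hQb, hxa, hxb, ← hμdef]
    linear_combination h0
  -- the semisimilitude
  let gf : V → V := fun x =>
    σ (polar Q f x) • μ • e' + σ (polar Q e x) • f'' + θ ⟨proj Q e f x, hp.proj_mem x⟩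
  have gf_add : ∀ x y, gf (x + y) = gf x + gf y := by
    intro x y
    show _ = _ + _
    simp only [gf]
    rw [show (⟨proj Q e f (x + y), hp.proj_mem (x + y)⟩ : W) =
      ⟨proj Q e f x, hp.proj_mem x⟩ + ⟨proj Q e f y, hp.proj_mem y⟩ from Subtype.ext (by
        simp [proj, polar_add_right]; module), hθadd, polar_add_right, polar_add_right, map_add, map_add]
    module
  have gf_smul : ∀ (c : F) x, gf (c • x) = σ c • gf x := by
    intro c x
    simp only [gf]
    rw [show (⟨proj Q e f (c • x), hp.proj_mem (c • x)⟩ : W) = c • ⟨proj Q e f x, hp.proj_mem x⟩ from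
      Subtype.ext (by simp [proj, polar_smul_right]; module), hsemi]
    simp only [polar_smul_right, smul_eq_mul, map_mul]
    module
  have gf_form : ∀ x, Q (gf x) = μ * σ (Q x) := by
    intro x
    have hx : x = polar Q f x • e + polar Q e x • f + proj Q e f x := by simp [proj]
    have hQx : Q x = polar Q f x * polar Q e x + Q (proj Q e f x) := by
      conv_lhs => rw [hx]
      obtain ⟨p1, p2⟩ := hp.proj_mem x
      replace p1 : polar Q e (proj Q e f x) = 0 := p1
      replace p2 : polar Q f (proj Q e f x) = 0 := p2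
      simp [form_add, form_smul, hp.qe, hp.qf, hp.ef, p1, p2]
      ring
    obtain ⟨p1, p2⟩ := hθW ⟨proj Q e f x, hp.proj_mem x⟩
    replace p1 : polar Q e' (θ ⟨proj Q e f x, hp.proj_mem x⟩) = 0 := p1
    replace p2 : polar Q f'' (θ ⟨proj Q e f x, hp.proj_mem x⟩) = 0 := p2
    rw [hQx, map_add σ, map_mul σ]
    simp [gf, form_add, form_smul, hp'.qe, hp'.qf, hp'.ef, p1, p2, hQθ']
    ring
  have gf_pol : ∀ x y, polar Q (gf x) (gf y) = μ * σ (polar Q x y) := fun x y => by
    simp only [polar, ← gf_add, gf_form, map_sub, mul_sub]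
  have gf_inj : Function.Injective gf := by
    intro x y hxy
    refine sub_eq_zero.1 (hS.nd _ fun z => σ.injective ?_)
    rw [map_zero, polar_sub_left, map_sub, sub_eq_zero]
    exact mul_left_cancel₀ hμ (by rw [← gf_pol, ← gf_pol, hxy])
  let gE : V ≃+ V := AddEquiv.mk (Equiv.ofBijective gf (Finite.injective_iff_bijective.1 gf_inj)) gf_add
  let s : Sim Q :=
    { σ := σ
      g := gE
      map_smul' := gf_smul
      μ := μ
      μ0 := hμ
      form' := gf_form }
  have hge : s.g e = μ • e' := by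
    show gf e = _
    simp only [gf, hp.fe, polar_self_zero hp.qe, map_one, map_zero, one_smul, zero_smul, add_zero]
    rw [show (⟨proj Q e f e, hp.proj_mem e⟩ : W) = 0 from Subtype.ext (by
      simp [proj, hp.fe, polar_self_zero hp.qe]), hθ0, add_zero]
  have hgf : s.g f = f'' := by
    show gf f = _
    simp only [gf, hp.ef, polar_self_zero hp.qf, map_one, map_zero, one_smul, zero_smul, zero_add]
    rw [show (⟨proj Q e f f, hp.proj_mem f⟩ : W) = 0 from Subtype.ext (by
      simp [proj, hp.ef, polar_self_zero hp.qf]), hθ0, add_zero]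
  refine ⟨s, fun w hw => ?_, hgf ▸ hf''⟩
  have hgw : s.g w = θ ⟨w, hw⟩ := by
    show gf w = _
    simp only [gf, show polar Q e w = 0 from hw.1, show polar Q f w = 0 from hw.2, map_zero, zero_smul,
      zero_add]
    congr 2
    simp [proj, show polar Q e w = 0 from hw.1, show polar Q f w = 0 from hw.2]
  rw [s.aut_eb hp.qe hw.1, hge, hgw, hθ ⟨w, hw⟩]
  refine congrArg (piO Q) (Subtype.ext ?_)
  show eich Q e' _ = eich Q (μ • e') (μ⁻¹ • θ ⟨w, hw⟩)
  rw [eich_smul_left hp'.qe (by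
      rw [polar_smul_right, show polar Q e' (θ ⟨w, hw⟩) = 0 from (hθW _).1, smul_zero]),
    smul_inv_smul₀ hμ]

theorem om_mul_apply (g h : Om Q) (x : V) : (g * h).1.1 x = g.1.1 (h.1.1 x) := rfl

theorem braid {e f a b : V} (hp : Pair Q e f) (hab : Pair Q a b)
    (ha : a ∈ OrthStab.perp₂ Q e f) (hb : b ∈ OrthStab.perp₂ Q e f) :
    eo Q e a * eo Q f b * eo Q e a = eo Q f b * eo Q e a * eo Q f b := by
  refine Subtype.ext (orth_ext fun x => ?_)
  have h1 : polar Q e a = 0 := ha.1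
  have h2 : polar Q f a = 0 := ha.2
  have h3 : polar Q e b = 0 := hb.1
  have h4 : polar Q f b = 0 := hb.2
  simp only [om_mul_apply, eo_coe, eich_apply hp.qe h1, eich_apply hp.qf h4,
    hab.qe, hab.qf, zero_mul, zero_smul, sub_zero]
  simp only [polar_add_right, polar_sub_right, polar_smul_right, smul_eq_mul, h1, h2, h3, h4,
    polar_comm Q a e, polar_comm Q a f, polar_comm Q b e, polar_comm Q b f, polar_comm Q b a,
    polar_self_zero hp.qe, polar_self_zero hp.qf, polar_self_zero hab.qe, polar_self_zero hab.qf,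
    hp.ef, hp.fe, hab.ef, polar_comm Q f e]
  module

/-- The split of a hyperbolic pair. -/
def splitIso {e f : V} (h : Pair Q e f) :
    Q.IsometryEquiv (hyp (Q.comp (OrthStab.perp₂ Q e f).subtype)) where
  toFun x := ((polar Q f x, polar Q e x), ⟨proj Q e f x, h.proj_mem x⟩)
  invFun v := v.1.1 • e + v.1.2 • f + (v.2 : V)
  map_add' x y := by
    refine Prod.ext (Prod.ext (by simp [polar_add_right]) (by simp [polar_add_right])) (Subtype.ext ?_)
    simp [proj]; module
  map_smul' c x := by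
    refine Prod.ext (Prod.ext (by simp [polar_smul_right]) (by simp [polar_smul_right])) (Subtype.ext ?_)
    simp [proj]; module
  left_inv x := by simp [proj]
  right_inv v := by
    have h1 : polar Q e (v.2 : V) = 0 := v.2.2.1
    have h2 : polar Q f (v.2 : V) = 0 := v.2.2.2
    refine Prod.ext (Prod.ext ?_ ?_) (Subtype.ext ?_)
    · simp [h2, h.fe, polar_self_zero h.qf]
    · simp [h1, h.ef, polar_self_zero h.qe]
    · simp [proj, h1, h2, h.ef, h.fe, polar_self_zero h.qe, polar_self_zero h.qf]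
      abel
  map_app' x := by
    show polar Q f x * polar Q e x + Q (proj Q e f x) = Q x
    obtain ⟨p1, p2⟩ := h.proj_mem x
    replace p1 : polar Q e (proj Q e f x) = 0 := p1
    replace p2 : polar Q f (proj Q e f x) = 0 := p2
    conv_rhs => rw [show x = polar Q f x • e + polar Q e x • f + proj Q e f x by simp [proj]]
    simp [form_add, form_smul, h.qe, h.qf, h.ef, p1, p2]
    ring

theorem gen_of_radicals (hS : Setup Q) {e f : V} (h : Pair Q e f) {H : Subgroup (orth Q)}
    (he : ∀ w ∈ OrthStab.perp₂ Q e f, eich Q e w ∈ H)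
    (hf : ∀ w ∈ OrthStab.perp₂ Q e f, eich Q f w ∈ H) : eichGroup Q ≤ H := by
  haveI := hS.fd
  haveI := hS.fin
  let ι := splitIso h
  have hN : PolarND (Q.comp (OrthStab.perp₂ Q e f).subtype) :=
    OrthStab.polarND_perp₂ hS.nd h.qe h.qf h.ef
  have hsurj : ∀ c : F, ∃ z, (Q.comp (OrthStab.perp₂ Q e f).subtype) z = c := by
    intro c
    obtain ⟨a, haW, ha0, hQa⟩ := OrthStab.exists_singular_mem (Q := Q) (OrthStab.perp₂ Q e f)
      (by have := hS.finrank_perp e f; have := hS.dim; omega)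
    obtain ⟨x, -, hx⟩ := exists_form_eq_of_singular hN (u := ⟨a, haW⟩) hQa
      (fun e0 => ha0 (congrArg Subtype.val e0)) c
    exact ⟨x, hx⟩
  have key : eichGroup (hyp (Q.comp (OrthStab.perp₂ Q e f).subtype)) ≤ H.map (orthCongr ι).toMonoidHom := by
    refine eichGroup_hyp_le hN.nonsing hsurj (fun z => ⟨eich Q e z, he z z.2, ?_⟩)
      (fun z => ⟨eich Q f z, hf z z.2, ?_⟩)
    all_goals
      have h1 : polar Q e (z : V) = 0 := z.2.1
      have h2 : polar Q f (z : V) = 0 := z.2.2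
      rw [MulEquiv.coe_toMonoidHom, orthCongr_eich]
      congr 1
    · exact Prod.ext (Prod.ext h.fe (polar_self_zero h.qe)) (Subtype.ext (by
        show proj Q e f e = 0
        simp [proj, h.fe, polar_self_zero h.qe]))
    · exact Prod.ext (Prod.ext h2 h1) (Subtype.ext (by
        show proj Q e f z = z
        simp [proj, h1, h2]))
    · exact Prod.ext (Prod.ext (polar_self_zero h.qf) h.ef) (Subtype.ext (by
        show proj Q e f f = 0
        simp [proj, h.ef, polar_self_zero h.qf]))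
    · exact Prod.ext (Prod.ext h2 h1) (Subtype.ext (by
        show proj Q e f z = z
        simp [proj, h1, h2]))
  intro g hg
  obtain ⟨g', hg', e'⟩ := key (mem_eichGroup_congr ι hg)
  exact (orthCongr ι).injective e' ▸ hg'

/-- **Every automorphism of `PΩ(Q)` comes from a semisimilitude.** -/
theorem exists_sim_aut_of (hS : Setup Q) {α : MulAut (PO Q)} (hP : Pres α) :
    ∃ s : Sim Q, s.aut = α := by
  haveI := hS.fin
  haveI := hS.fd
  obtain ⟨e, -, he0, hQe⟩ := OrthStab.exists_singular_mem (Q := Q) ⊤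
    (by rw [finrank_top]; have := hS.dim; omega)
  obtain ⟨f, hQf, hef⟩ := exists_pair hS.nd.nonsing hQe he0
  have hp : Pair Q e f := ⟨hQe, hQf, hef⟩
  obtain ⟨s, hs, hsf⟩ := exists_sim hS hP hp
  refine ⟨s, ?_⟩
  set γ : MulAut (PO Q) := s.aut⁻¹ * α with hγ
  have hγe : ∀ w ∈ OrthStab.perp₂ Q e f, γ (eb Q e w) = eb Q e w := fun w hw => by
    rw [hγ, MulAut.mul_apply, hs w hw, MulAut.inv_apply_self]
  set W := OrthStab.perp₂ Q e f with hW
  have hex : ∀ w : W, ∃ w', w' ∈ W ∧ γ (eb Q f (w : V)) = eb Q f w' := by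
    intro w
    obtain ⟨x, hx, ex⟩ := hsf.image_le hS (w := w) w.2.2
    obtain ⟨y, hy⟩ := s.g.surjective (s.μ • x)
    have hfy : polar Q f y = 0 := by
      have := s.map_polar f y
      rw [hy, polar_smul_right, hx, smul_zero, eq_comm, mul_eq_zero] at this
      exact (map_eq_zero_iff _ s.σ.injective).1 (this.resolve_left s.μ0)
    have hmem : proj Q e f y ∈ W := hp.proj_mem y
    refine ⟨proj Q e f y, hmem, ?_⟩
    have e1 : s.aut (eb Q f y) = eb Q (s.g f) x := by
      rw [s.aut_eb hp.qf hfy, hy, inv_smul_smul₀ s.μ0]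
    rw [hγ, MulAut.mul_apply, ex, ← e1, MulAut.inv_apply_self]
    refine congrArg (piO Q) (Subtype.ext ?_)
    show eich Q f y = eich Q f (proj Q e f y)
    rw [← eich_add_smul (Q := Q) hp.qf (z := proj Q e f y) hmem.2 (polar Q e y)]
    congr 1
    simp [proj, hfy]
  choose θ hθW hθ using hex
  have hθadd : ∀ w w' : W, θ (w + w') = θ w + θ w' := fun w w' => by
    refine hp.symm.eb_inj hS ⟨(hθW _).2, (hθW _).1⟩
      ⟨(W.add_mem (hθW w) (hθW w')).2, (W.add_mem (hθW w) (hθW w')).1⟩ ?_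
    rw [← hθ, Submodule.coe_add, ← eb_mul hp.qf w.2.2 w'.2.2, map_mul, hθ, hθ,
      eb_mul hp.qf (hθW w).2 (hθW w').2]
  have hsc : ∀ w : W, Q (w : V) = 0 → (w : V) ≠ 0 → ∃ k : F, θ w = k • (w : V) := by
    intro w hQw hw0
    have hi := hp.isLn w.2 hQw hw0
    have hi' := hp.symm.isLn ⟨w.2.2, w.2.1⟩ hQw hw0
    have hc : Commute (eb Q e (w : V)) (eb Q f (w : V)) :=
      (comm_iff hS ⟨_, _, hi, rfl⟩ ⟨_, _, hi', rfl⟩).2
        (Or.inl ⟨(w : V), IsLn.span_mem_right, IsLn.span_mem_right, hw0⟩)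
        _ ⟨e, IsLn.span_mem_left, _, IsLn.span_mem_right, rfl⟩
        _ ⟨f, IsLn.span_mem_left, _, IsLn.span_mem_right, rfl⟩
    have hc' := hc.map γ
    rw [hγe _ w.2, hθ] at hc'
    obtain ⟨-, hsp⟩ := span_conj_eq hS hi.qu hi.uz hi.u0 hi.ind (g := eo Q f (θ w)) hc'.symm
    obtain ⟨p, q, hpq⟩ := mem_pair.1
      (show (eo Q f (θ w)).1.1 e ∈ Submodule.span F ({e, (w : V)} : Set V) from
        hsp ▸ IsLn.span_mem_left)
    have h1 : polar Q e (θ w) = 0 := (hθW w).1
    have h2 : polar Q f (θ w) = 0 := (hθW w).2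
    rw [eo_coe, eich_apply hp.qf h2, hp.fe, polar_comm Q (θ w) e, h1] at hpq
    have hp1 : p = 1 := by
      have := congrArg (polar Q f) hpq
      simpa [polar_self_zero hp.qf, hp.fe, show polar Q f (w : V) = 0 from w.2.2, h2] using this
    have hQ0 : Q (θ w) = 0 := by
      have := congrArg (polar Q e) hpq
      simpa [polar_self_zero hp.qe, hp.ef, show polar Q e (w : V) = 0 from w.2.1, h1] using this
    refine ⟨q, ?_⟩
    rw [hp1, hQ0] at hpq
    linear_combination (norm := module) (-1 : F) • hpq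
  classical
  let kf : V → F := fun a =>
    if h : a ∈ W ∧ Q a = 0 ∧ a ≠ 0 then (hsc ⟨a, h.1⟩ h.2.1 h.2.2).choose else 0
  have hkf : ∀ (a : W), Q (a : V) = 0 → (a : V) ≠ 0 → θ a = kf a • (a : V) := by
    intro a hQa ha0
    simp only [kf, dif_pos (show (a : V) ∈ W ∧ Q (a : V) = 0 ∧ (a : V) ≠ 0 from ⟨a.2, hQa, ha0⟩)]
    exact (hsc ⟨a, a.2⟩ hQa ha0).choose_spec
  have hkc := const_on_singular hS (e := e) (f := f) kf fun a c ha hc hi => by
    have hQac : Q (a + c) = 0 := by simp [form_add, hi.qu, hi.qz, hi.uz]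
    have hac0 : a + c ≠ 0 := fun e => hi.ind (-1) (by rw [neg_one_smul]; exact eq_neg_of_add_eq_zero_right e)
    have h1 := hkf (⟨a, ha⟩ + ⟨c, hc⟩) hQac hac0
    rw [hθadd, hkf ⟨a, ha⟩ hi.qu hi.u0, hkf ⟨c, hc⟩ hi.qz hi.z0] at h1
    simp only [Submodule.coe_add, smul_add] at h1
    obtain ⟨e1, e2⟩ := hi.coeff (a := kf a - kf (a + c)) (b := kf c - kf (a + c))
      (by linear_combination (norm := module) h1)
    rw [sub_eq_zero.1 e1, sub_eq_zero.1 e2]
  obtain ⟨a, haW, ha0, hQa⟩ := OrthStab.exists_singular_mem (Q := Q) W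
    (by have := hS.finrank_perp e f; have := hS.dim; rw [hW]; omega)
  have htop : ∀ v, ∃ k ∈ (⊤ : Submodule F V), ∀ x ∈ (⊤ : Submodule F V), polar Q x k = polar Q x v :=
    fun v => ⟨v, trivial, fun _ _ => rfl⟩
  have hprojW := perp_proj htop trivial trivial hp.qe hp.qf hp.ef
  rw [top_inf_eq] at hprojW
  obtain ⟨b, hbW, hQb, hab⟩ := exists_pair_in hS W hprojW haW hQa ha0
  have hb0 : b ≠ 0 := fun e => by simp [e] at hab
  set k := kf b with hkdef
  have hk : k = 1 := by
    have hbr := congrArg (piO Q) (braid hp ⟨hQa, hQb, hab⟩ haW hbW)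
    simp only [map_mul] at hbr
    have h := congrArg γ hbr
    simp only [map_mul] at h
    change γ (eb Q e a) * γ (eb Q f b) * γ (eb Q e a) = γ (eb Q f b) * γ (eb Q e a) * γ (eb Q f b) at h
    rw [hγe a haW, hθ ⟨b, hbW⟩, hkf ⟨b, hbW⟩ hQb hb0] at h
    obtain ⟨z, hz, hze⟩ := (QuotientGroup.mk'_eq_mk' _).1
      (show piO Q (eo Q e a * eo Q f (k • b) * eo Q e a) =
          piO Q (eo Q f (k • b) * eo Q e a * eo Q f (k • b)) by simp only [map_mul]; exact h)
    obtain ⟨c, hc2, hc⟩ := center_scalar hS hz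
    have h1 : polar Q e a = 0 := haW.1
    have h2 : polar Q f a = 0 := haW.2
    have h3 : polar Q e b = 0 := hbW.1
    have h4 : polar Q f b = 0 := hbW.2
    have hz' := congrArg (fun g : Om Q => g.1.1 f) hze
    simp only [om_mul_apply, eo_coe, hc, map_smul] at hz'
    simp only [eich_apply hp.qe h1, eich_apply hp.qf (show polar Q f (k • b) = 0 by simp [h4]),
      hQa, form_smul, hQb, mul_zero, zero_mul, zero_smul, sub_zero, map_add, map_sub, map_smul,
      polar_add_right, polar_sub_right, polar_smul_right, polar_smul_left, smul_eq_mul, h1, h2, h3,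
      h4, polar_comm Q a e, polar_comm Q a f, polar_comm Q b e, polar_comm Q b f, polar_comm Q b a,
      polar_self_zero hp.qe, polar_self_zero hp.qf, polar_self_zero hQa, polar_self_zero hQb,
      hp.ef, hp.fe, hab, polar_comm Q f e] at hz'
    have ee := congrArg (polar Q e) hz'
    have eb2 := congrArg (polar Q b) hz'
    simp [h1, h3, polar_comm Q b f, h4, polar_comm Q b a, hab, hp.ef,
      polar_self_zero hp.qe] at ee eb2
    grind
  have hfix : ∀ w : W, θ w = (w : V) := by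
    intro w
    have hm := mem_closure_singular (Q := Q) haW hbW hQa hQb hab (v := (w : V)) w.2
    suffices ∀ x : V, x ∈ AddSubgroup.closure {x : V | x ∈ W ∧ Q x = 0} →
        ∃ hx : x ∈ W, θ ⟨x, hx⟩ = x from (this _ hm).2
    have hθ0 : θ 0 = 0 := by have := hθadd 0 0; rw [add_zero] at this; exact left_eq_add.1 this
    intro x hx
    induction hx using AddSubgroup.closure_induction with
    | mem y hy =>
      refine ⟨hy.1, ?_⟩
      by_cases hy0 : y = 0
      · subst hy0; exact hθ0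
      · rw [hkf ⟨y, hy.1⟩ hy.2 hy0, hkc y b hy.1 hbW hy.2 hQb hy0 hb0, ← hkdef, hk, one_smul]
    | zero => exact ⟨W.zero_mem, hθ0⟩
    | add y z _ _ hy hz =>
      obtain ⟨hy1, hy2⟩ := hy
      obtain ⟨hz1, hz2⟩ := hz
      exact ⟨W.add_mem hy1 hz1, by
        rw [show (⟨y + z, W.add_mem hy1 hz1⟩ : W) = ⟨y, hy1⟩ + ⟨z, hz1⟩ from rfl, hθadd, hy2, hz2]⟩
    | neg y _ hy =>
      obtain ⟨hy1, hy2⟩ := hy
      refine ⟨W.neg_mem hy1, ?_⟩
      rw [show (⟨-y, W.neg_mem hy1⟩ : W) = -⟨y, hy1⟩ from rfl]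
      conv_rhs => rw [← hy2]
      exact eq_neg_of_add_eq_zero_left (by rw [← hθadd, neg_add_cancel, hθ0])
  have hγ1 : γ = 1 := by
    let H : Subgroup (Om Q) := MonoidHom.eqLocus (γ.toMonoidHom.comp (piO Q)) (piO Q)
    have hle : eichGroup Q ≤ H.map (eichGroup Q).subtype :=
      gen_of_radicals hS hp (fun w hw => ⟨eo Q e w, hγe w hw, rfl⟩)
        (fun w hw => ⟨eo Q f w, show γ (eb Q f w) = eb Q f w by
          rw [hθ ⟨w, hw⟩, hfix ⟨w, hw⟩], rfl⟩)
    refine MulEquiv.ext fun x => ?_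
    obtain ⟨g, rfl⟩ := piO_surjective x
    obtain ⟨g', hg', e'⟩ := hle g.2
    rw [← show g' = g from Subtype.ext e']
    exact hg'
  rw [hγ, inv_mul_eq_one] at hγ1
  exact hγ1

/-- **Every automorphism of `PΩ(Q)` comes from a semisimilitude** (no triality). -/
theorem exists_sim_aut (hS : Setup Q) (hB : Big Q) (α : MulAut (PO Q)) :
    ∃ s : Sim Q, s.aut = α :=
  exists_sim_aut_of hS (pres_of_big hS hB α)

end Cfsg.Agent.CG26.AutPO
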