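import Cfsg.Agent.CG26.AutPO.Count
import Cfsg.Prelude.Def_KGroupFacts

/-!
`Out(PΩ(Q))` as classes of semisimilitudes.
-/

set_option autoImplicit false

namespace Cfsg.Agent.CG26.AutPO

open QuadraticMap Cfsg.Agent.UnitaryOrthogonal

universe u v

variable {F : Type u} [Field F] {V : Type v} [AddCommGroup V] [Module F V] {Q : QuadraticForm F V}

namespace Sim

theorem comp_aut (s t : Sim Q) : (s.comp t).aut = s.aut * t.aut := by
  refine MulEquiv.ext fun x => ?_
  obtain ⟨h, rfl⟩ := piO_surjective x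
  rw [MulAut.mul_apply, aut_piO, aut_piO, aut_piO]
  rfl

theorem ofOrth_aut (h : Om Q) : (Sim.ofOrth h.1).aut = MulAut.conj (piO Q h) := by
  refine MulEquiv.ext fun x => ?_
  obtain ⟨k, rfl⟩ := piO_surjective x
  rw [aut_piO, MulAut.conj_apply, ← map_inv, ← map_mul, ← map_mul]
  exact congrArg _ (Subtype.ext (orth_ext fun y => rfl))

/-- Conjugating a reflection. -/
theorem conj_rf (s : Sim Q) (v : V) : s.conj (rf Q v) = rf Q (s.g v) := by
  refine orth_ext fun x => ?_
  obtain ⟨y, rfl⟩ := s.g.surjective x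
  show s.g ((rf Q v).1 (s.g.symm (s.g y))) = _
  rw [s.g.symm_apply_apply, rf_apply, rf_apply, map_sub, s.map_smul', s.form', s.map_polar]
  congr 2
  rw [map_mul, map_inv₀, mul_inv, mul_mul_mul_comm, inv_mul_cancel₀ s.μ0, one_mul]

end Sim

section field

variable (hS : Setup Q) (hB : Big Q)

/-- The field component of an automorphism. -/
noncomputable def fieldHom : MulAut (PO Q) →* (F ≃+* F) :=
  MonoidHom.mk' (fun α => (exists_sim_aut hS hB α).choose.σ) fun α β => by
    refine ((Sim.unique hS _ ((exists_sim_aut hS hB α).choose.comp (exists_sim_aut hS hB β).choose) ?_).1).trans rfl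
    rw [Sim.comp_aut, (exists_sim_aut hS hB α).choose_spec, (exists_sim_aut hS hB β).choose_spec,
      (exists_sim_aut hS hB (α * β)).choose_spec]

theorem fieldHom_aut (s : Sim Q) : fieldHom hS hB s.aut = s.σ :=
  (Sim.unique hS _ s (exists_sim_aut hS hB s.aut).choose_spec).1

include hS hB in
theorem inn_le_ker : Cfsg.Inn (PO Q) ≤ (fieldHom hS hB).ker := by
  rintro _ ⟨x, rfl⟩
  obtain ⟨h, rfl⟩ := piO_surjective x
  rw [MonoidHom.mem_ker, ← Sim.ofOrth_aut, fieldHom_aut]
  rfl

include hS in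
theorem card_inn : Nat.card (Cfsg.Inn (PO Q)) = Nat.card (PO Q) := by
  refine (Nat.card_congr (MonoidHom.ofInjective
    (f := (MulAut.conj : PO Q →* MulAut (PO Q))) ?_).toEquiv).symm
  rw [injective_iff_map_eq_one]
  intro x hx
  obtain ⟨h, rfl⟩ := piO_surjective x
  rw [← Sim.ofOrth_aut, ← map_one (MulAut.conj : PO Q →* MulAut (PO Q)),
    ← map_one (piO Q), ← Sim.ofOrth_aut] at hx
  obtain ⟨-, c, -, hc⟩ := Sim.unique hS _ _ hx
  refine (QuotientGroup.eq_one_iff h).2 (Subgroup.mem_center_iff.2 fun k => ?_)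
  refine Subtype.ext (orth_ext fun y => ?_)
  have hh : ∀ z, h.1.1 z = c • z := hc
  show k.1.1 (h.1.1 y) = h.1.1 (k.1.1 y)
  rw [hh, hh, map_smul]

/-- The class of a semisimilitude in `Out`. -/
noncomputable def cls (s : Sim Q) : Cfsg.Out (PO Q) := QuotientGroup.mk s.aut

theorem cls_comp (s t : Sim Q) : cls (s.comp t) = cls s * cls t := by
  rw [cls, Sim.comp_aut, QuotientGroup.mk_mul]
  rfl

theorem cls_scale (c : Fˣ) (s : Sim Q) : cls (s.scale c) = cls s := by rw [cls, Sim.scale_aut]; rfl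

theorem cls_eq_of_g (hS : Setup Q) {s t : Sim Q} (hσ : s.σ = t.σ) (hg : ∀ x, s.g x = t.g x) :
    cls s = cls t := by rw [Sim.ext' hS hσ hg]

/-- The classes of isometries. -/
noncomputable def orthCls : orth Q →* Cfsg.Out (PO Q) :=
  MonoidHom.mk' (fun h => cls (Sim.ofOrth h)) fun h k => by
    rw [← cls_comp]
    refine congrArg (fun a => (QuotientGroup.mk a : Cfsg.Out (PO Q))) (MulEquiv.ext fun x => ?_)
    obtain ⟨y, rfl⟩ := piO_surjective x
    rw [Sim.aut_piO, Sim.aut_piO]
    exact congrArg _ (Subtype.ext (orth_ext fun y => rfl))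

theorem orthCls_eq_one {h : orth Q} (hh : h ∈ eichGroup Q) : orthCls h = 1 :=
  (QuotientGroup.eq_one_iff _).2 ⟨piO Q ⟨h, hh⟩, (Sim.ofOrth_aut ⟨h, hh⟩).symm⟩

include hS hB in
theorem cls_surjective (x : Cfsg.Out (PO Q)) : ∃ s : Sim Q, cls s = x := by
  obtain ⟨α, rfl⟩ := QuotientGroup.mk_surjective x
  obtain ⟨s, rfl⟩ := exists_sim_aut hS hB α
  exact ⟨s, rfl⟩

include hS in
/-- The kernel of `cls` on semisimilitudes. -/
theorem cls_eq_one {s : Sim Q} (h : cls s = 1) :
    ∃ (c : F) (k : orth Q), c ≠ 0 ∧ k ∈ eichGroup Q ∧ s.σ = RingEquiv.refl F ∧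
      ∀ x, s.g x = c • k.1 x := by
  obtain ⟨x, hx⟩ := (QuotientGroup.eq_one_iff _).1 h
  obtain ⟨k, rfl⟩ := piO_surjective x
  rw [← Sim.ofOrth_aut] at hx
  obtain ⟨hσ, c, hc, hg⟩ := Sim.unique hS _ _ hx.symm
  exact ⟨c, k.1, hc, k.2, hσ, hg⟩

/-- The field component on `Out`. -/
noncomputable def outField : Cfsg.Out (PO Q) →* (F ≃+* F) :=
  QuotientGroup.lift _ (fieldHom hS hB) (inn_le_ker hS hB)

theorem outField_cls (s : Sim Q) : outField hS hB (cls s) = s.σ :=
  fieldHom_aut hS hB s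

include hS hB in
theorem card_out {N : ℕ} (h : Nat.card (MulAut (PO Q)) = N * Nat.card (PO Q)) :
    Nat.card (Cfsg.Out (PO Q)) = N := by
  haveI := hS.fin
  haveI := hS.finiteV
  haveI : Finite (V ≃ₗ[F] V) := Finite.of_injective _ DFunLike.coe_injective
  have e := Subgroup.card_eq_card_quotient_mul_card_subgroup (Cfsg.Inn (PO Q))
  rw [h, card_inn hS] at e
  exact (Nat.eq_of_mul_eq_mul_right Nat.card_pos e).symm

include hS in
theorem finite_out : Finite (Cfsg.Out (PO Q)) := by
  haveI := hS.fin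
  haveI := hS.finiteV
  haveI : Finite (V ≃ₗ[F] V) := Finite.of_injective _ DFunLike.coe_injective
  haveI : Finite (MulAut (PO Q)) := Finite.of_injective _ DFunLike.coe_injective
  infer_instance

end field

section classes

variable (hS : Setup Q)

theorem orthCls_rf_smul {t : F} (ht : t ≠ 0) (a : V) :
    orthCls (rf Q (t • a)) = orthCls (rf Q a) := by rw [rf_smul ht]

include hS in
/-- Reflections of values in the same square class have the same class. -/
theorem orthCls_rf_eq {a b : V} (ha : Q a ≠ 0) {t : F} (h : Q a = t * t * Q b) :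
    orthCls (rf Q a) = orthCls (rf Q b) := by
  haveI := hS.fin
  haveI := hS.fd
  have ht : t ≠ 0 := fun e => ha (by rw [h, e, mul_zero, zero_mul])
  rw [← orthCls_rf_smul ht b]
  have h1 := orthCls_eq_one (OrthStab.rf_mul_rf_mem hS.nd (le_trans (by norm_num) hS.dim)
    (a := a) (b := t • b) ha (by rw [form_smul, h]))
  rw [map_mul, mul_eq_one_iff_eq_inv, ← map_inv, rf_inv] at h1
  exact h1

include hS in
/-- The classes of isometries are generated by those of the reflections. -/
theorem orthCls_range_le {K : Subgroup (Cfsg.Out (PO Q))}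
    (h : ∀ a, Q a ≠ 0 → orthCls (rf Q a) ∈ K) : (orthCls (Q := Q)).range ≤ K := by
  haveI := hS.fin
  haveI := hS.fd
  rw [MonoidHom.range_eq_map, Subgroup.map_le_iff_le_comap, ← OrthStab.elemGroup_eq_top hS.nd]
  refine sup_le ?_ fun g hg => ?_
  · rw [reflGroup, Subgroup.closure_le]
    rintro _ ⟨a, rfl⟩
    by_cases ha : Q a = 0
    · rw [show rf Q a = 1 from orth_ext fun x => by simp [rf_apply, ha]]
      exact one_mem _
    · exact h a ha
  · show orthCls g ∈ K
    rw [orthCls_eq_one hg]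
    exact one_mem _

include hS in
theorem orthCls_comm (g k : orth Q) : Commute (orthCls g) (orthCls k) := by
  haveI := hS.fin
  haveI := hS.fd
  rw [← commutatorElement_eq_one_iff_commute, ← map_commutatorElement]
  refine orthCls_eq_one ?_
  rw [← OrthStab.commutator_eq hS.nd (le_trans (by norm_num) hS.dim), commutator_def]
  exact Subgroup.commutator_mem_commutator (Subgroup.mem_top _) (Subgroup.mem_top _)

theorem cls_conj_rf (hS : Setup Q) (s : Sim Q) (v : V) :
    cls s * orthCls (rf Q v) = orthCls (rf Q (s.g v)) * cls s := by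
  show cls s * cls (Sim.ofOrth _) = cls (Sim.ofOrth _) * cls s
  rw [← cls_comp, ← cls_comp]
  refine cls_eq_of_g hS (RingEquiv.ext fun x => rfl) fun x => ?_
  show s.g ((rf Q v).1 x) = (rf Q (s.g v)).1 (s.g x)
  rw [← Sim.conj_rf]
  show _ = s.g ((rf Q v).1 (s.g.symm (s.g x)))
  rw [s.g.symm_apply_apply]

include hS in
/-- A similitude with a square multiplier has the class of an isometry. -/
theorem cls_mem_range_of_square {s : Sim Q} (hσ : s.σ = RingEquiv.refl F) (hμ : IsSquare s.μ) :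
    cls s ∈ (orthCls (Q := Q)).range := by
  obtain ⟨r, hr⟩ := hμ
  have hr0 : r ≠ 0 := fun e => s.μ0 (by rw [hr, e, mul_zero])
  let L : V ≃ₗ[F] V :=
    { s.g.trans (LinearEquiv.smulOfUnit (Units.mk0 r⁻¹ (inv_ne_zero hr0)) : V ≃ₗ[F] V).toAddEquiv with
      map_smul' := fun c x => by
        show r⁻¹ • s.g (c • x) = c • r⁻¹ • s.g x
        rw [s.map_smul', hσ, RingEquiv.refl_apply, smul_comm] }
  have hL : L ∈ orth Q := fun x => by
    show Q (r⁻¹ • s.g x) = Q x
    rw [form_smul, s.form', hσ, RingEquiv.refl_apply, hr]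
    field_simp
  refine ⟨⟨L, hL⟩, ?_⟩
  show cls (Sim.ofOrth _) = _
  rw [← cls_scale (Units.mk0 r hr0)]
  refine cls_eq_of_g hS hσ.symm fun x => ?_
  show r • (r⁻¹ • s.g x) = s.g x
  rw [smul_inv_smul₀ hr0]

include hS in
/-- A similitude with a non-square multiplier does not have the class of an isometry. -/
theorem cls_notMem_range {s : Sim Q} (hσ : s.σ = RingEquiv.refl F) (hμ : ¬ IsSquare s.μ) :
    cls s ∉ (orthCls (Q := Q)).range := by
  rintro ⟨g, hg⟩
  have h1 : cls ((Sim.ofOrth g⁻¹).comp s) = 1 := by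
    rw [cls_comp, ← hg]
    show orthCls g⁻¹ * orthCls g = 1
    rw [← map_mul, inv_mul_cancel, map_one]
  obtain ⟨c, k, hc, -, -, hck⟩ := cls_eq_one hS h1
  obtain ⟨x, hx⟩ := hS.exists_one
  refine hμ ⟨c, ?_⟩
  have h2 := congrArg Q (hck x)
  change Q ((g⁻¹).1 (s.g x)) = _ at h2
  rw [map_form, s.form', hσ, RingEquiv.refl_apply, hx, mul_one, form_smul, map_form, hx,
    mul_one] at h2
  exact h2

end classes

/-- Isomorphic groups have isomorphic outer automorphism groups. -/
noncomputable def outCongr {A B : Type*} [Group A] [Group B] (e : A ≃* B) :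
    Cfsg.Out A ≃* Cfsg.Out B :=
  QuotientGroup.congr _ _ (MulAut.congr e) (by
    refine le_antisymm ?_ ?_
    · rintro _ ⟨_, ⟨a, rfl⟩, rfl⟩
      exact ⟨e a, MulEquiv.ext fun b => by simp [MulAut.congr]⟩
    · rintro _ ⟨b, rfl⟩
      exact ⟨MulAut.conj (e.symm b), ⟨_, rfl⟩, MulEquiv.ext fun x => by simp [MulAut.congr]⟩)

end Cfsg.Agent.CG26.AutPO
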