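import Cfsg.Agent.Lib.UnitaryOrthogonal.OuterGroup

/-!
Abstract groups: extensions of a cyclic group by a group of order two, four or eight.
-/

set_option autoImplicit false

namespace Cfsg.Agent.CG26.AutPO.OutGroup

open Cfsg.Agent.UnitaryOrthogonal

variable {G C : Type*} [Group G] [Group C]

theorem cycHom_val {n : ℕ} [NeZero n] (r : G) (hr : r ^ n = 1) (i : ZMod n) :
    cycHom r hr (Multiplicative.ofAdd i) = r ^ i.val := by
  rw [cycHom_apply, ← zpow_natCast]
  congr 1
  exact (ZMod.natCast_val i).symm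

theorem card_eq_ker_mul (π : G →* C) (hπ : Function.Surjective π) :
    Nat.card G = Nat.card π.ker * Nat.card C := by
  rw [← π.ker.card_mul_index, Subgroup.index_ker, MonoidHom.range_eq_top.2 hπ, Subgroup.card_top]

theorem surjective_of_gen {f : ℕ} [NeZero f] (π : G →* C) (x : G) (hord : orderOf (π x) = f)
    (hC : Nat.card C = f) : Function.Surjective π := by
  haveI : Finite C := Nat.finite_of_card_ne_zero (by rw [hC]; exact NeZero.ne f)
  intro c
  have : c ∈ Subgroup.zpowers (π x) := by
    rw [Subgroup.eq_top_of_card_eq (Subgroup.zpowers (π x)) (by rw [Nat.card_zpowers, hord, hC])]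
    trivial
  obtain ⟨j, hj⟩ := this
  exact ⟨x ^ j, by rw [map_zpow]; exact hj⟩

/-- A lift of the generator centralising the kernel splits the extension. -/
theorem nonempty_split {f : ℕ} [NeZero f] [Finite G] (π : G →* C) (hC : Nat.card C = f) (y : G)
    (hord : orderOf (π y) = f) (hy : y ^ f = 1) (hcomm : ∀ k ∈ π.ker, Commute k y) :
    Nonempty (G ≃* π.ker × Multiplicative (ZMod f)) := by
  let φ : π.ker × Multiplicative (ZMod f) →* G :=
    MonoidHom.noncommCoprod π.ker.subtype (cycHom y hy) fun k i => by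
      obtain ⟨i, rfl⟩ := Multiplicative.ofAdd.surjective i
      rw [cycHom_val]
      exact (hcomm _ k.2).pow_right _
  have hinj : Function.Injective φ := by
    rw [injective_iff_map_eq_one]
    rintro ⟨k, i⟩ h
    obtain ⟨i, rfl⟩ := Multiplicative.ofAdd.surjective i
    simp only [φ, MonoidHom.noncommCoprod_apply, cycHom_val, Subgroup.coe_subtype] at h
    have h' := congrArg π h
    rw [map_mul, MonoidHom.mem_ker.1 k.2, one_mul, map_pow, map_one] at h'
    have hd := orderOf_dvd_of_pow_eq_one h'
    rw [hord] at hd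
    have hi : i.val = 0 := Nat.eq_zero_of_dvd_of_lt hd (ZMod.val_lt i)
    rw [hi, pow_zero, mul_one] at h
    rw [(ZMod.val_eq_zero i).1 hi, show k = 1 from Subtype.ext h]
    rfl
  have hcard : Nat.card G = Nat.card (π.ker × Multiplicative (ZMod f)) := by
    rw [Nat.card_prod, card_eq_ker_mul π (surjective_of_gen π y hord hC), hC]
    simp
  have hbij : Function.Bijective φ :=
    (Nat.bijective_iff_injective_and_card φ).2 ⟨hinj, hcard.symm⟩
  exact ⟨(MulEquiv.ofBijective φ hbij).symm⟩

theorem card_ker_two_central [Finite G] (π : G →* C) (h : Nat.card π.ker = 2) {k : G}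
    (hk : k ∈ π.ker) (g : G) : Commute k g := by
  by_cases hk1 : k = 1
  · subst hk1
    exact Commute.one_left g
  obtain ⟨u, -, hu⟩ := (Nat.card_eq_two_iff' (1 : π.ker)).1 h
  have hall : ∀ z : π.ker, z = 1 ∨ z = ⟨k, hk⟩ := fun z =>
    (em (z = 1)).imp_right fun hz =>
      (hu z hz).trans (hu ⟨k, hk⟩ fun e => hk1 (congrArg Subtype.val e)).symm
  rcases hall ⟨g⁻¹ * k * g, by
      rw [MonoidHom.mem_ker, map_mul, map_mul, MonoidHom.mem_ker.1 hk, mul_one, map_inv,
        inv_mul_cancel]⟩ with e | e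
  · have e' : g⁻¹ * k * g = 1 := congrArg Subtype.val e
    exact absurd (by simpa [mul_assoc] using congrArg (fun t => g * t * g⁻¹) e') hk1
  · have e' : g⁻¹ * k * g = k := congrArg Subtype.val e
    show k * g = g * k
    conv_rhs => rw [← e']
    group

/-- `Z₂ × C_f`. -/
theorem nonempty_two_prod {f : ℕ} [NeZero f] [Finite G] (π : G →* C) (hC : Nat.card C = f) (y : G)
    (hord : orderOf (π y) = f) (hy : y ^ f = 1) (hG : Nat.card G = 2 * f) :
    Nonempty (G ≃* Multiplicative (ZMod 2 × ZMod f)) := by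
  have hk : Nat.card π.ker = 2 := by
    have := card_eq_ker_mul π (surjective_of_gen π y hord hC)
    rw [hG, hC] at this
    exact (Nat.eq_of_mul_eq_mul_right (Nat.pos_of_ne_zero (NeZero.ne f)) this).symm
  obtain ⟨e⟩ := nonempty_split π hC y hord hy fun k hkm => card_ker_two_central π hk hkm y
  haveI : Fact (Nat.Prime 2) := ⟨Nat.prime_two⟩
  exact ⟨e.trans (((mulEquivOfPrimeCardEq hk (by rw [Nat.card_congr Multiplicative.toAdd, Nat.card_zmod])).prodCongr (MulEquiv.refl _)).trans
    (MulEquiv.prodMultiplicative _ _).symm)⟩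

/-- A lift of order twice the degree generates. -/
theorem cyclic_two {f : ℕ} [NeZero f] [Finite G] (π : G →* C) (hC : Nat.card C = f) (x : G)
    (hord : orderOf (π x) = f) (hx : x ^ f ≠ 1) (hG : Nat.card G = 2 * f) : IsCyclic G := by
  refine isCyclic_of_orderOf_eq_card x ?_
  rw [hG]
  have h1 : orderOf (π x) ∣ orderOf x := orderOf_map_dvd π x
  have h2 : orderOf x ∣ Nat.card G := orderOf_dvd_natCard x
  rw [hord] at h1
  rw [hG] at h2
  obtain ⟨c, hc⟩ := h1
  rw [hc, mul_comm 2 f] at h2
  have hcd : c ∣ 2 := Nat.dvd_of_mul_dvd_mul_left (Nat.pos_of_ne_zero (NeZero.ne f)) h2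
  rcases (Nat.dvd_prime Nat.prime_two).1 hcd with rfl | rfl
  · exact absurd (by rw [mul_one] at hc; rw [← hc]; exact pow_orderOf_eq_one x) hx
  · rw [hc, mul_comm]

/-- `Z₂ × C_{2f}`. -/
theorem nonempty_two_two_prod {f : ℕ} [NeZero f] [Finite G] (π : G →* C) (hC : Nat.card C = f)
    (x d : G) (hord : orderOf (π x) = f) (hG : Nat.card G = 4 * f)
    (hexp : ∀ k ∈ π.ker, k * k = 1) (hd : d ∈ π.ker) (hd1 : d ≠ 1) (hdx : d ≠ x ^ f)
    (hx : x ^ f ≠ 1) (hc : Commute d x) :
    Nonempty (G ≃* Multiplicative (ZMod 2 × ZMod (2 * f))) := by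
  haveI : NeZero (2 * f) := ⟨by have := NeZero.ne f; omega⟩
  have hxk : x ^ f ∈ π.ker := by rw [MonoidHom.mem_ker, map_pow, ← hord]; exact pow_orderOf_eq_one _
  have hx2 : x ^ (2 * f) = 1 := by rw [mul_comm, pow_mul, pow_two]; exact hexp _ hxk
  have hd2 : d ^ 2 = 1 := by rw [pow_two]; exact hexp d hd
  let φ : Multiplicative (ZMod 2) × Multiplicative (ZMod (2 * f)) →* G :=
    MonoidHom.noncommCoprod (cycHom d hd2) (cycHom x hx2) fun i j => by
      obtain ⟨i, rfl⟩ := Multiplicative.ofAdd.surjective i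
      obtain ⟨j, rfl⟩ := Multiplicative.ofAdd.surjective j
      rw [cycHom_val, cycHom_val]
      exact hc.pow_pow _ _
  have hinj : Function.Injective φ := by
    rw [injective_iff_map_eq_one]
    rintro ⟨i, j⟩ h
    obtain ⟨i, rfl⟩ := Multiplicative.ofAdd.surjective i
    obtain ⟨j, rfl⟩ := Multiplicative.ofAdd.surjective j
    simp only [φ, MonoidHom.noncommCoprod_apply, cycHom_val] at h
    have h' := congrArg π h
    rw [map_mul, map_pow, MonoidHom.mem_ker.1 hd, one_pow, one_mul, map_pow, map_one] at h'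
    have hdv := orderOf_dvd_of_pow_eq_one h'
    rw [hord] at hdv
    have hlt := ZMod.val_lt j
    obtain ⟨t, ht⟩ := hdv
    rw [ht] at h hlt
    have ht2 : t < 2 := by nlinarith
    have hi2 := ZMod.val_lt i
    interval_cases t <;> (obtain hi | hi : i.val = 0 ∨ i.val = 1 := by omega) <;>
      rw [hi] at h <;> simp only [mul_zero, mul_one, pow_zero, pow_one, one_mul] at h
    · rw [(ZMod.val_eq_zero i).1 hi, (ZMod.val_eq_zero j).1 (by rw [ht, mul_zero])]
      rfl
    · exact absurd h hd1
    · exact absurd h hx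
    · exact absurd (by rw [← inv_eq_of_mul_eq_one_right h]
                       exact (inv_eq_of_mul_eq_one_right (hexp d hd)).symm) hdx
  have hbij : Function.Bijective φ := (Nat.bijective_iff_injective_and_card φ).2
    ⟨hinj, by rw [hG]; simp; ring⟩
  exact ⟨(MulEquiv.ofBijective φ hbij).symm.trans (MulEquiv.prodMultiplicative _ _).symm⟩

/-- An automorphism of `D₄` has order dividing four. -/
theorem aut_dihedral_pow (α : MulAut (DihedralGroup 4)) (g : DihedralGroup 4) :
    α (α (α (α g))) = g := by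
  have hne : ∀ a : ZMod 4, DihedralGroup.sr a ≠ DihedralGroup.r (1 : ZMod 4) := fun a h => by
    simp at h
  have h1 : ∃ e : ZMod 4, e * e = 1 ∧ α (DihedralGroup.r 1) = DihedralGroup.r e := by
    have h4 : orderOf (α (DihedralGroup.r 1)) = 4 := by
      rw [MulEquiv.orderOf_eq]; exact DihedralGroup.orderOf_r_one
    cases hα : α (DihedralGroup.r 1) with
    | r e =>
      refine ⟨e, ?_, rfl⟩
      rw [hα, DihedralGroup.orderOf_r] at h4
      clear hα
      revert h4
      revert e
      decide
    | sr e =>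
      rw [hα, DihedralGroup.orderOf_sr] at h4
      omega
  obtain ⟨e, he, hr1⟩ := h1
  have hr : ∀ i : ZMod 4, α (DihedralGroup.r i) = DihedralGroup.r (e * i) := fun i => by
    rw [← ZMod.natCast_zmod_val i, ← DihedralGroup.r_one_pow, map_pow, hr1, DihedralGroup.r_pow]
  obtain ⟨j, hj⟩ : ∃ j, α (DihedralGroup.sr 0) = DihedralGroup.sr j := by
    cases hα : α (DihedralGroup.sr 0) with
    | r i =>
      exfalso
      have : α (DihedralGroup.r (e * i)) = DihedralGroup.r i := by
        rw [hr, ← mul_assoc, he, one_mul]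
      exact absurd (α.injective (hα.trans this.symm)) (by simp)
    | sr j => exact ⟨j, rfl⟩
  have hs : ∀ i : ZMod 4, α (DihedralGroup.sr i) = DihedralGroup.sr (j + e * i) := fun i => by
    rw [show DihedralGroup.sr i = DihedralGroup.sr 0 * DihedralGroup.r i by simp, map_mul, hj, hr,
      DihedralGroup.sr_mul_r]
  cases g with
  | r i =>
    rw [hr, hr, hr, hr]
    congr 1
    linear_combination (e * e + 1) * i * he
  | sr i =>
    rw [hs, hs, hs, hs]
    congr 1
    clear hs hr hr1 hj hne
    revert he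
    revert e j i
    decide

/-- Two non-commuting involutions in a group of order eight. -/
theorem nonempty_dihedral [Finite G] (hG : Nat.card G = 8) (a b : G) (ha : a ^ 4 = 1)
    (ha2 : a ^ 2 ≠ 1) (hb : b * b = 1) (hba : b * a * b = a⁻¹) (hbn : ∀ n : ℕ, b ≠ a ^ n) :
    Nonempty (G ≃* DihedralGroup 4) := by
  let φ : DihedralGroup 4 → G := fun g => match g with
    | .r i => a ^ i.val
    | .sr i => b * a ^ i.val
  have hmod : ∀ m n : ℕ, m % 4 = n % 4 → a ^ m = a ^ n := fun m n h => by
    rw [pow_eq_pow_mod m ha, pow_eq_pow_mod n ha, h]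
  have hinv : ∀ n : ℕ, a ^ n * b = b * a ^ (3 * n) := by
    intro n
    induction n with
    | zero => simp
    | succ k ih =>
      have h3 : a⁻¹ = a ^ 3 := inv_eq_of_mul_eq_one_right (by rw [← pow_succ']; exact ha)
      have : a * b = b * a ^ 3 := by
        rw [← h3, ← hba, ← mul_assoc, ← mul_assoc, hb, one_mul]
      calc a ^ (k + 1) * b = a ^ k * (a * b) := by rw [pow_succ, mul_assoc]
        _ = a ^ k * b * a ^ 3 := by rw [this, mul_assoc]
        _ = b * a ^ (3 * (k + 1)) := by rw [ih, mul_assoc, ← pow_add]; ring_nf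
  have hcalc : ∀ i j : ZMod 4, (i + j).val % 4 = (i.val + j.val) % 4 ∧
      (j - i).val % 4 = (3 * i.val + j.val) % 4 := by decide
  let Φ : DihedralGroup 4 →* G := MonoidHom.mk' φ fun g h => by
    cases g with
    | r i => cases h with
      | r j => simp only [φ, DihedralGroup.r_mul_r]; rw [← pow_add]; exact hmod _ _ (hcalc i j).1
      | sr j =>
        simp only [φ, DihedralGroup.r_mul_sr]
        rw [← mul_assoc, hinv, mul_assoc, ← pow_add]
        exact congrArg (b * ·) (hmod _ _ (hcalc i j).2)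
    | sr i => cases h with
      | r j =>
        simp only [φ, DihedralGroup.sr_mul_r]
        rw [mul_assoc, ← pow_add]
        exact congrArg (b * ·) (hmod _ _ (hcalc i j).1)
      | sr j =>
        simp only [φ, DihedralGroup.sr_mul_sr]
        rw [mul_assoc b, ← mul_assoc (a ^ i.val), hinv, mul_assoc b (a ^ (3 * i.val)), ← pow_add,
          ← mul_assoc, hb, one_mul]
        exact hmod _ _ (hcalc i j).2
  have hinj : Function.Injective Φ := by
    rw [injective_iff_map_eq_one]
    intro g hg
    cases g with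
    | r i =>
      change a ^ i.val = 1 at hg
      obtain h | h | h | h : i.val = 0 ∨ i.val = 1 ∨ i.val = 2 ∨ i.val = 3 := by
        have := ZMod.val_lt i; omega
      · rw [(ZMod.val_eq_zero i).1 h]; rfl
      · rw [h, pow_one] at hg; exact absurd (by rw [hg, one_pow]) ha2
      · rw [h] at hg; exact absurd hg ha2
      · rw [h] at hg
        exact absurd (by
          have h2 : a = 1 := by rw [← ha, pow_succ, hg, one_mul]
          rw [h2, one_pow]) ha2
    | sr i =>
      change b * a ^ i.val = 1 at hg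
      exact absurd ((inv_eq_of_mul_eq_one_right hb).symm.trans (inv_eq_of_mul_eq_one_right hg))
        (hbn _)
  exact ⟨(MulEquiv.ofBijective Φ ((Nat.bijective_iff_injective_and_card Φ).2
    ⟨hinj, by rw [hG, DihedralGroup.nat_card]⟩)).symm⟩

/-- `D₄ × C_f` for odd `f`. -/
theorem nonempty_dihedral_prod {f : ℕ} [NeZero f] [Finite G] (π : G →* C) (hC : Nat.card C = f)
    (x : G) (hord : orderOf (π x) = f) (hf : Odd f) (e : π.ker ≃* DihedralGroup 4) :
    Nonempty (G ≃* DihedralGroup 4 × Multiplicative (ZMod f)) := by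
  have hcop : Nat.Coprime f 4 := Nat.Coprime.pow_right 2 (Nat.coprime_two_right.2 hf)
  have hk4 : ∀ k : DihedralGroup 4, k ^ 4 = 1 := by decide
  have hxk : x ^ f ∈ π.ker := by rw [MonoidHom.mem_ker, map_pow, ← hord]; exact pow_orderOf_eq_one _
  have hker4 : ∀ k ∈ π.ker, k ^ 4 = 1 := fun k hk => by
    have := hk4 (e ⟨k, hk⟩)
    rw [← map_pow, MulEquiv.map_eq_one_iff] at this
    exact congrArg Subtype.val this
  let α : MulAut π.ker := MulAut.conjNormal x
  have hα : ∀ k : π.ker, α (α (α (α k))) = k := by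
    intro k
    apply e.injective
    have := aut_dihedral_pow ((e.symm.trans α).trans e) (e k)
    simpa using this
  obtain ⟨e'⟩ := nonempty_split π hC (x ^ 4)
    (by rw [map_pow, Nat.Coprime.orderOf_pow (by rw [hord]; exact hcop), hord])
    (by rw [← pow_mul, mul_comm, pow_mul]; exact hker4 _ hxk)
    (fun k hk => by
      have h4 : x ^ 4 * k * (x ^ 4)⁻¹ = k := by
        have := congrArg Subtype.val (hα ⟨k, hk⟩)
        simp only [α, MulAut.conjNormal_apply] at this
        refine Eq.trans ?_ this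
        simp only [pow_succ, pow_zero, one_mul, mul_inv_rev, mul_assoc]
      exact (mul_inv_eq_iff_eq_mul.1 h4).symm)
  exact ⟨e'.trans (e.prodCongr (MulEquiv.refl _))⟩

end Cfsg.Agent.CG26.AutPO.OutGroup
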