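import Cfsg.Agent.CG26.AutPO.OutStandard

/-!
`Out(PΩ⁻_{2m}(q))` for odd `q`.
-/

set_option autoImplicit false

namespace Cfsg.Agent.CG26.AutPO

open QuadraticMap Cfsg.Agent.UnitaryOrthogonal

universe u v

section kernel

variable {F : Type u} [Field F] {V : Type v} [AddCommGroup V] [Module F V] {Q : QuadraticForm F V}

/-- The kernel of the field map, from an involutory similitude of non-square multiplier and a
reflection. -/
theorem kernel_classes [Finite F] (hS : Setup Q) (hB : Big Q) (h2 : (2 : F) ≠ 0) (d : Sim Q)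
    (hdσ : d.σ = RingEquiv.refl F) (hdμ : ¬ IsSquare d.μ) (hdd : cls d * cls d = 1) (v : V)
    (hv : Q v ≠ 0) :
    (Nat.card (outField hS hB).ker = 4 →
      (∀ x ∈ (outField hS hB).ker, x * x = 1) ∧ orthCls (rf Q v) ≠ 1) ∧
    (Nat.card (outField hS hB).ker = 8 →
      Nonempty ((outField hS hB).ker ≃* DihedralGroup 4)) := by
  classical
  cases nonempty_fintype F
  haveI := finite_out hS
  set r := orthCls (rf Q v) with hr
  set r' := orthCls (rf Q (d.g v)) with hr'
  set K := (outField hS hB).ker with hK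
  set R := (orthCls (Q := Q)).range with hR
  have hrr : r * r = 1 := by rw [hr, ← map_mul, rf_mul_self, map_one]
  have hr'r' : r' * r' = 1 := by rw [hr', ← map_mul, rf_mul_self, map_one]
  have hcomm : r * r' = r' * r := orthCls_comm hS _ _
  have hdr : cls d * r = r' * cls d := cls_conj_rf hS d v
  have hQd : Q (d.g v) = d.μ * Q v := by rw [d.form', hdσ]; rfl
  have hRle : R ≤ (kleinHom r r' hrr hr'r' hcomm).range := by
    refine orthCls_range_le hS fun w hw => ?_
    show orthCls (rf Q w) ∈ ((kleinHom r r' hrr hr'r' hcomm).range : Set (Cfsg.Out (PO Q)))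
    rw [kleinHom_range]
    by_cases hsq : IsSquare (Q w / Q v)
    · obtain ⟨t, ht⟩ := hsq
      exact Or.inr (Or.inl (orthCls_rf_eq hS hw (t := t) (by rw [← ht, div_mul_cancel₀ _ hv])))
    · have : IsSquare (Q w / Q (d.g v)) := by
        rw [hQd, show Q w / (d.μ * Q v) = Q w / Q v / d.μ by field_simp,
          ← quadraticChar_one_iff_isSquare (div_ne_zero (div_ne_zero hw hv) d.μ0), div_eq_mul_inv,
          map_mul, quadraticChar_neg_one_iff_not_isSquare.2 hsq,
          quadraticChar_neg_one_iff_not_isSquare.2 (fun h => hdμ (isSquare_inv.1 h))]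
        norm_num
      obtain ⟨t, ht⟩ := this
      exact Or.inr (Or.inr (Or.inl (orthCls_rf_eq hS hw (t := t) (by
        rw [← ht, div_mul_cancel₀ _ (by rw [hQd]; exact mul_ne_zero d.μ0 hv)]))))
  have hdK : cls d ∈ K := by rw [hK, MonoidHom.mem_ker, outField_cls, hdσ]; rfl
  have hRK : R ≤ K := by
    rintro _ ⟨g, rfl⟩
    rw [hK, MonoidHom.mem_ker]
    exact (outField_cls hS hB _).trans rfl
  have hdR : cls d ∉ R := cls_notMem_range hS hdσ hdμ
  have hsplit : ∀ x ∈ K, x ∈ R ∨ cls d * x ∈ R := by
    intro x hx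
    obtain ⟨t, rfl⟩ := cls_surjective hS hB x
    rw [hK, MonoidHom.mem_ker, outField_cls] at hx
    have ht : t.σ = RingEquiv.refl F := hx
    by_cases hsq : IsSquare t.μ
    · exact Or.inl (cls_mem_range_of_square hS ht hsq)
    · refine Or.inr ?_
      rw [← cls_comp]
      refine cls_mem_range_of_square hS (RingEquiv.ext fun y => ?_) ?_
      · show d.σ (t.σ y) = y
        rw [hdσ, ht]; rfl
      · show IsSquare (d.μ * d.σ t.μ)
        rw [hdσ, RingEquiv.refl_apply, ← quadraticChar_one_iff_isSquare (mul_ne_zero d.μ0 t.μ0),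
          map_mul, quadraticChar_neg_one_iff_not_isSquare.2 hsq,
          quadraticChar_neg_one_iff_not_isSquare.2 hdμ]
        norm_num
  have hK2 : Nat.card K ≤ 2 * Nat.card R := by
    have hsub : (K : Set (Cfsg.Out (PO Q))) ⊆
        (R : Set (Cfsg.Out (PO Q))) ∪ (fun y => (cls d)⁻¹ * y) '' (R : Set (Cfsg.Out (PO Q))) := by
      intro x hx
      rcases hsplit x hx with h | h
      · exact Or.inl h
      · exact Or.inr ⟨_, h, inv_mul_cancel_left _ _⟩
    have h := (Set.ncard_le_ncard hsub).trans ((Set.ncard_union_le _ _).trans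
      (Nat.add_le_add_left (Set.ncard_image_le (s := (R : Set (Cfsg.Out (PO Q))))) _))
    rw [two_mul]
    exact h
  have hR0 : r = 1 → r' = 1 := fun e => by
    rw [e, mul_one] at hdr
    exact mul_right_cancel (hdr.symm.trans (one_mul _).symm)
  have hsmall : r = r' → Nat.card K ≤ 4 ∧ ∀ x ∈ R, x = 1 ∨ x = r := by
    intro e
    have hall : ∀ x ∈ R, x = 1 ∨ x = r := by
      intro x hx
      have hmem : x ∈ ((kleinHom r r' hrr hr'r' hcomm).range : Set (Cfsg.Out (PO Q))) := hRle hx
      rw [kleinHom_range] at hmem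
      rcases hmem with h | h | h | h
      · exact Or.inl h
      · exact Or.inr h
      · exact Or.inr (h.trans e.symm)
      · rw [← e, hrr] at h; exact Or.inl h
    refine ⟨hK2.trans ?_, hall⟩
    have : (R : Set (Cfsg.Out (PO Q))).ncard ≤ 2 := by
      refine (Set.ncard_le_ncard (t := {1, r}) (fun x hx => ?_)).trans
        ((Set.ncard_insert_le _ _).trans (by rw [Set.ncard_singleton]))
      rcases hall x hx with h | h <;> simp [h]
    calc 2 * Nat.card R ≤ 2 * 2 := Nat.mul_le_mul_left 2 this
      _ = 4 := rfl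
  refine ⟨fun h4 => ?_, fun h8 => ?_⟩
  · have hR2 : Nat.card R = 2 := by
      have hlt : Nat.card R ≠ 4 := fun e => hdR (by
        have hs : (R : Set (Cfsg.Out (PO Q))) = K :=
          Set.eq_of_subset_of_ncard_le hRK (le_of_eq (h4.trans e.symm))
        show cls d ∈ (R : Set (Cfsg.Out (PO Q)))
        rw [hs]; exact hdK)
      have hdvd := Subgroup.card_dvd_of_le hRK
      rw [h4] at hdvd
      have hle : Nat.card R ≤ 4 := Nat.le_of_dvd (by norm_num) hdvd
      have hpos : 0 < Nat.card R := Nat.card_pos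
      interval_cases Nat.card R <;> omega
    have hr1 : r ≠ 1 := by
      intro e
      have : R = ⊥ := eq_bot_iff.2 fun x hx => by
        have hmem : x ∈ ((kleinHom r r' hrr hr'r' hcomm).range : Set (Cfsg.Out (PO Q))) := hRle hx
        rw [kleinHom_range, e, hR0 e, mul_one] at hmem
        simpa using hmem
      rw [this, Subgroup.card_bot] at hR2
      exact absurd hR2 (by norm_num)
    have hr'1 : r' ≠ 1 := fun e => hr1 (by
      rw [e, one_mul] at hdr
      exact mul_left_cancel (hdr.trans (mul_one _).symm))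
    have heq : r = r' := by
      obtain ⟨u, -, hu⟩ := (Nat.card_eq_two_iff' (1 : R)).1 hR2
      exact congrArg Subtype.val ((hu ⟨r, ⟨_, rfl⟩⟩ fun e => hr1 (congrArg Subtype.val e)).trans
        (hu ⟨r', ⟨_, rfl⟩⟩ fun e => hr'1 (congrArg Subtype.val e)).symm)
    refine ⟨fun x hx => ?_, hr1⟩
    rw [← heq] at hdr
    have hc : Commute (cls d) r := hdr
    rcases hsplit x hx with h | h <;> rcases (hsmall heq).2 _ h with e | e
    · rw [e, one_mul]
    · rw [e, hrr]
    · rw [← eq_inv_of_mul_eq_one_right e |>.symm, ← mul_inv_rev, hdd, inv_one]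
    · have hx' : x = cls d * r := by
        rw [← e, ← mul_assoc, hdd, one_mul]
      rw [hx', show cls d * r * (cls d * r) = cls d * (r * cls d) * r by simp only [mul_assoc],
        ← hc.eq, ← mul_assoc, hdd, one_mul, hrr]
  · have hne : r ≠ r' := fun e => by
      have := (hsmall e).1
      omega
    let bK : K := ⟨r, hRK ⟨_, rfl⟩⟩
    let aK : K := ⟨r * cls d, mul_mem (hRK ⟨_, rfl⟩) hdK⟩
    have haa : r * cls d * (r * cls d) = r * r' := by
      calc r * cls d * (r * cls d) = r * (cls d * r) * cls d := by simp only [mul_assoc]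
        _ = r * r' := by rw [hdr, mul_assoc, mul_assoc, hdd, mul_one]
    refine OutGroup.nonempty_dihedral h8 aK bK (Subtype.ext ?_) (fun e => hne ?_)
      (Subtype.ext hrr) (Subtype.ext ?_) (fun n e => hne ?_)
    · show (r * cls d) ^ 4 = 1
      rw [show (4 : ℕ) = 2 * 2 from rfl, pow_mul, pow_two (r * cls d), haa, pow_two,
        mul_assoc, ← mul_assoc r' r, ← hcomm, mul_assoc r r', hr'r', mul_one, hrr]
    · have h : (r * cls d) ^ 2 = 1 := congrArg Subtype.val e
      rw [pow_two, haa] at h
      exact (mul_left_cancel (h.trans hrr.symm)).symm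
    · show r * (r * cls d) * r = (r * cls d)⁻¹
      rw [← mul_assoc, hrr, one_mul, mul_inv_rev, inv_eq_of_mul_eq_one_right hdd,
        inv_eq_of_mul_eq_one_right hrr]
    · have h : r = (r * cls d) ^ n := congrArg Subtype.val e
      have hc : r * (r * cls d) = r * cls d * r := by
        have hh : Commute ((r * cls d) ^ n) (r * cls d) := (Commute.refl _).pow_left n
        rwa [← h] at hh
      rw [← mul_assoc, hrr, one_mul, mul_assoc, hdr, ← mul_assoc] at hc
      exact mul_left_cancel ((hrr.trans (mul_right_cancel (hc.symm.trans (one_mul _).symm)).symm))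

end kernel

section minus

variable {F : Type u} [Field F] [Fintype F] {p f : ℕ} [Fact p.Prime]

set_option maxHeartbeats 3200000 in
theorem out_minus_odd (hf : 1 ≤ f) (hF : Fintype.card F = p ^ f) (hp : p ≠ 2) {a b : F}
    (hab : BinAniso a b) (k : ℕ) (hk : 1 ≤ k) :
    (p ^ f % 4 = 3 ∧ Odd (k + 3) →
      Nonempty (Cfsg.Out (Cfsg.POmega F (Cfsg.quadFormMinus (k + 2) F a b)) ≃*
        DihedralGroup 4 × Multiplicative (ZMod f))) ∧
    (¬ (p ^ f % 4 = 3 ∧ Odd (k + 3)) →
      Nonempty (Cfsg.Out (Cfsg.POmega F (Cfsg.quadFormMinus (k + 2) F a b)) ≃*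
        Multiplicative (ZMod 2 × ZMod (2 * f)))) := by
  haveI : NeZero f := ⟨by omega⟩
  haveI : CharP F p := charP_of_card_eq_prime_pow hF
  have hp2 : Odd p := (Fact.out : p.Prime).odd_of_ne_two hp
  have hc2 : ringChar F ≠ 2 := by rw [ringChar.eq F p]; exact hp
  have h2 : (2 : F) ≠ 0 := Ring.two_ne_zero hc2
  obtain ⟨ν, hν⟩ := FiniteField.exists_nonsquare hc2
  have hν0 : ν ≠ 0 := by rintro rfl; exact hν ⟨0, (mul_zero 0).symm⟩
  have hab₀ : BinAniso 0 (-ν) := binAniso_of_not_isSquare hν
  have hm : 3 ≤ k + 2 := by omega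
  have hS := setup_sum hab₀ hm
  have hB := big_sum hab₀ hm
  haveI := finite_out hS
  set Q := hypSum (k + 2) (binForm (0 : F) (-ν)) with hQ
  obtain ⟨σ, hord, hσ⟩ := exists_frob p f hF
  obtain ⟨e⟩ := nonempty_minus_equiv hab hab₀ hm
  -- the field lift
  obtain ⟨j, hj⟩ := hp2
  let c := ν ^ j
  let T : MV F (k + 2) → MV F (k + 2) := fun v =>
    ((fun i => σ (v.1.1 i), fun i => σ (v.1.2 i)), (σ v.2.1, c * σ v.2.2))
  let s : Sim Q := Sim.ofMap hS σ T
    (fun x y => by
      simp only [T, Prod.mk_add_mk, Prod.fst_add, Prod.snd_add, Pi.add_apply, map_add, mul_add]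
      rfl)
    (fun d x => by
      simp only [T, Prod.smul_fst, Prod.smul_snd, Prod.smul_mk, Pi.smul_apply, smul_eq_mul, map_mul]
      refine Prod.ext rfl (Prod.ext rfl ?_)
      ring) 1 one_ne_zero
    (fun x => by
      simp only [T, hQ, hypSum_apply, binForm_apply, one_mul, map_add, map_sum, map_mul, map_pow,
        map_zero, map_neg]
      rw [show σ ν = c * c * ν by rw [hσ, hj, pow_succ, pow_mul']; ring]
      ring)
  have hiter : ∀ i x, (⇑s.g)^[i] x =
      ((fun l => x.1.1 l ^ p ^ i, fun l => x.1.2 l ^ p ^ i),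
        (x.2.1 ^ p ^ i, ν ^ ((p ^ i - 1) / 2) * x.2.2 ^ p ^ i)) := by
    intro i x
    induction i with
    | zero => simp
    | succ i ih =>
      rw [Function.iterate_succ_apply', ih]
      show T _ = _
      simp only [T, hσ, mul_pow, ← pow_mul, ← pow_succ]
      refine Prod.ext rfl (Prod.ext rfl ?_)
      rw [← mul_assoc, ← pow_add]
      congr 2
      obtain ⟨l, hl⟩ : Odd (p ^ i) := Odd.pow ⟨j, hj⟩
      rw [pow_succ, hl, Nat.add_sub_cancel, Nat.mul_div_cancel_left _ two_pos,
        show (2 * l + 1) * p = 2 * (j + l * p) + 1 by rw [hj]; ring, Nat.add_sub_cancel,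
        Nat.mul_div_cancel_left _ two_pos]
  have hq : ∀ y : F, y ^ p ^ f = y := fun y => by rw [← hF]; exact FiniteField.pow_card y
  have heul : ν ^ ((p ^ f - 1) / 2) = -1 := by
    have hdiv : (p ^ f - 1) / 2 = Fintype.card F / 2 := by
      obtain ⟨l, hl⟩ : Odd (p ^ f) := Odd.pow ⟨j, hj⟩
      rw [hF, hl]
      omega
    rw [hdiv]
    exact (FiniteField.pow_dichotomy hc2 hν0).resolve_left fun h =>
      hν ((FiniteField.isSquare_iff hc2 hν0).2 h)
  let v₀ : MV F (k + 2) := (0, ((0, 1) : F × F))
  have hv₀ : Q v₀ = -ν := by simp [hQ, v₀, binForm_apply]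
  have hσf : s.σ ^ f = 1 := hord ▸ pow_orderOf_eq_one σ
  have hpow : cls s ^ f = orthCls (rf Q v₀) := by
    refine cls_pow_eq_orth hS s f hσf _ fun x => ?_
    rw [hiter, heul, rf_apply, hv₀]
    have hp' : polar Q v₀ x = -(2 * ν) * x.2.2 := by
      simp [hQ, polar, v₀, binForm_apply]
      ring
    rw [hp', show (-ν)⁻¹ * (-(2 * ν) * x.2.2) = 2 * x.2.2 by field_simp]
    refine Prod.ext (Prod.ext (funext fun i => by simp [v₀, hq]) (funext fun i => by simp [v₀, hq])) ?_
    refine Prod.ext (by simp [v₀, hq]) ?_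
    simp [v₀, hq]
    ring
  obtain ⟨z, hz⟩ := hab₀.exists_form_eq ν
  have hz' : z.1 ^ 2 - ν * z.2 ^ 2 = ν := by rw [binForm_apply] at hz; linear_combination hz
  -- an involutory similitude
  let D : MV F (k + 2) → MV F (k + 2) := fun v =>
    ((ν • v.1.2, v.1.1), binMul 0 (-ν) z (v.2.1, -v.2.2))
  let d : Sim Q := Sim.ofMap hS (RingEquiv.refl F) D
    (fun x y => by
      simp only [D, Prod.fst_add, Prod.snd_add, smul_add, neg_add, ← Prod.mk_add_mk, map_add])
    (fun l x => by
      simp only [D, Prod.smul_fst, Prod.smul_snd, RingEquiv.refl_apply, smul_eq_mul,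
        smul_comm ν l, ← mul_neg]
      rw [show ((l * x.2.1, l * -x.2.2) : F × F) = l • (x.2.1, -x.2.2) from rfl, map_smul]
      rfl) ν hν0
    (fun x => by
      simp only [D, hQ, hypSum_apply, binForm_binMul, hz, RingEquiv.refl_apply, mul_add,
        Finset.mul_sum]
      refine congrArg₂ _ (Finset.sum_congr rfl fun i _ => ?_) ?_
      · simp only [Pi.smul_apply, smul_eq_mul]; ring
      · simp only [binForm_apply]; ring)
  have hdd : cls d * cls d = 1 := by
    rw [← cls_comp, ← map_one (orthCls (Q := Q))]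
    show _ = cls (Sim.ofOrth 1)
    rw [← cls_scale (Units.mk0 ν hν0) (Sim.ofOrth 1)]
    refine cls_eq_of_g hS rfl fun x => ?_
    show D (D x) = ν • x
    simp only [D, binMul, LinearMap.coe_mk, AddHom.coe_mk]
    refine Prod.ext (Prod.ext rfl rfl) (Prod.ext ?_ ?_) <;>
      simp only [Prod.smul_snd, Prod.smul_fst, smul_eq_mul]
    · linear_combination x.2.1 * hz'
    · linear_combination x.2.2 * hz'
  obtain ⟨h4, h8⟩ := kernel_classes hS hB h2 d rfl hν hdd v₀ (by rw [hv₀]; exact neg_ne_zero.2 hν0)
  have hx : outField hS hB (cls s) = σ := outField_cls hS hB s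
  have hker : ∀ g : ℕ, Nat.gcd 4 (Nat.card F ^ (k + 3) + 1) = g →
      Nat.card (Cfsg.Out (PO Q)) = 2 * g * f ∧ Nat.card (outField hS hB).ker = 2 * g := by
    intro g hg
    have hG : Nat.card (Cfsg.Out (PO Q)) = 2 * g * f := by
      rw [card_out_sum hab hab₀ k hk, hg, card_fieldAut p f hF]
      ring
    refine ⟨hG, ?_⟩
    have hk2 := OutGroup.card_eq_ker_mul (outField hS hB)
      (OutGroup.surjective_of_gen _ (cls s) (by rw [hx]; exact hord) (card_fieldAut p f hF))
    rw [card_fieldAut p f hF, hG] at hk2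
    exact (Nat.eq_of_mul_eq_mul_right (by omega) hk2).symm
  have hmod : Nat.gcd 4 (Nat.card F ^ (k + 3) + 1) = if p ^ f % 4 = 3 ∧ Odd (k + 3) then 4 else 2 := by
    obtain ⟨r, hr⟩ : Odd (p ^ f) := Odd.pow ⟨j, hj⟩
    rw [Nat.card_eq_fintype_card, hF, Nat.gcd_rec, Nat.add_mod, Nat.pow_mod, hr]
    rcases Nat.even_or_odd' r with ⟨t, rfl | rfl⟩
    · simp [show (2 * (2 * t) + 1) % 4 = 1 by omega]
    · rw [show (2 * (2 * t + 1) + 1) % 4 = 3 by omega]
      rcases Nat.even_or_odd' (k + 3) with ⟨l, hl | hl⟩ <;> rw [hl] <;>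
        simp [pow_succ, pow_mul, Nat.mul_mod, Nat.pow_mod]
  refine ⟨fun hc => ?_, fun hc => ?_⟩
  · rw [if_pos hc] at hmod
    obtain ⟨e8⟩ := h8 (hker 4 hmod).2
    have hfodd : Odd f := by
      rcases Nat.even_or_odd f with ⟨t, rfl⟩ | h
      · exfalso
        obtain ⟨l, hl⟩ : Odd (p ^ t) := Odd.pow ⟨j, hj⟩
        have := hc.1
        rw [pow_add, hl, show (2 * l + 1) * (2 * l + 1) = 4 * (l * l + l) + 1 by ring] at this
        omega
      · exact h
    obtain ⟨iso⟩ := OutGroup.nonempty_dihedral_prod (outField hS hB) (card_fieldAut p f hF) (cls s)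
      (by rw [hx]; exact hord) hfodd e8
    exact ⟨(outCongr e).trans iso⟩
  · rw [if_neg hc] at hmod
    obtain ⟨hexp, hr1⟩ := h4 (hker 2 hmod).2
    -- a similitude centralising the lift
    let E : F × F → MV F (k + 2) → MV F (k + 2) := fun w v =>
      ((binForm (0 : F) (-ν) w • v.1.1, v.1.2), binMul 0 (-ν) w v.2)
    let dz : Sim Q := Sim.ofMap hS (RingEquiv.refl F) (E z)
      (fun x y => by simp only [E, Prod.fst_add, Prod.snd_add, smul_add, map_add, Prod.mk_add_mk])
      (fun l x => by
        simp only [E, Prod.smul_fst, Prod.smul_snd, RingEquiv.refl_apply, map_smul,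
          smul_comm _ l]
        rfl) ν hν0
      (fun x => by
        simp only [E, hQ, hypSum_apply, binForm_binMul, hz, RingEquiv.refl_apply, mul_add,
          Finset.mul_sum, Pi.smul_apply, smul_eq_mul, mul_assoc])
    have hdzK : cls dz ∈ (outField hS hB).ker := by
      rw [MonoidHom.mem_ker, outField_cls]; rfl
    have hcomm : Commute (cls dz) (cls s) := by
      obtain ⟨t, ht1, ht2, ht3⟩ := exists_cls_pow dz p
      have hzz := hexp _ hdzK
      have htp : cls t = cls dz := by
        rw [ht1, hj, pow_succ, pow_mul, pow_two, hzz, one_pow, one_mul]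
      show cls dz * cls s = cls s * cls dz
      conv_lhs => rw [← htp]
      rw [← cls_comp, ← cls_comp]
      refine cls_eq_of_g hS (RingEquiv.ext fun y => ?_) fun x => ?_
      · show t.σ (σ y) = σ y
        rw [ht2, show dz.σ = 1 from rfl, one_pow]
        rfl
      · show t.g (T x) = T (E z x)
        rw [ht3]
        have hit : ∀ (i : ℕ) (y : MV F (k + 2)), (⇑dz.g)^[i] y =
            ((ν ^ i • y.1.1, y.1.2), ((binMul 0 (-ν) z : Module.End F (F × F)) ^ i) y.2) := by
          intro i y
          induction i with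
          | zero => simp
          | succ i ih =>
            rw [Function.iterate_succ_apply', ih]
            show E z _ = _
            simp only [E, hz, smul_smul, ← pow_succ']
            refine Prod.ext rfl ?_
            simp only [pow_succ', Module.End.mul_apply]
        rw [hit]
        let Θ : Module.End F (F × F) := binMul 0 (-ν) ((0, 1) : F × F)
        have hlin : (binMul 0 (-ν) z : Module.End F (F × F)) =
            z.1 • (1 : Module.End F (F × F)) + z.2 • Θ := by
          refine LinearMap.ext fun y => ?_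
          simp [Θ, binMul]
          ext <;> simp <;> ring
        have hΘ : Θ * Θ = ν • (1 : Module.End F (F × F)) := by
          refine LinearMap.ext fun y => ?_
          simp [Θ, binMul]
          rfl
        haveI : CharP (Module.End F (F × F)) p :=
          charP_of_injective_algebraMap
            (algebraMap F (Module.End F (F × F))).injective p
        haveI : ExpChar (Module.End F (F × F)) p := ExpChar.prime (Fact.out : p.Prime)
        have hpz : (binMul 0 (-ν) z : Module.End F (F × F)) ^ p =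
            σ z.1 • (1 : Module.End F (F × F)) + (σ z.2 * c) • Θ := by
          rw [hlin, add_pow_expChar_of_commute p
            ((Commute.one_left Θ).smul_left z.1 |>.smul_right z.2), smul_pow, smul_pow, one_pow,
            hσ z.1, hσ z.2]
          congr 1
          conv_lhs => rw [hj, pow_succ Θ, pow_mul Θ, pow_two Θ, hΘ, smul_pow, one_pow, smul_mul_assoc,
            one_mul, smul_smul]
          rw [hj]
        rw [hpz]
        refine Prod.ext (Prod.ext (funext fun i => ?_) rfl) (Prod.ext ?_ ?_)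
        · show ν ^ p * σ (x.1.1 i) = σ (binForm (0 : F) (-ν) z * x.1.1 i)
          rw [hz, map_mul, hσ ν]
        · simp [T, E, Θ, binMul]
          rw [show σ ν = c * c * ν by rw [hσ, hj, pow_succ, pow_mul']; ring]
          ring
        · simp [T, E, Θ, binMul]
          ring
    obtain ⟨iso⟩ := OutGroup.nonempty_two_two_prod (outField hS hB) (card_fieldAut p f hF) (cls s)
      (cls dz) (by rw [hx]; exact hord) (hker 2 hmod).1 hexp hdzK
      (fun h => cls_notMem_range hS (s := dz) rfl hν (by rw [h]; exact one_mem _))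
      (fun h => cls_notMem_range hS (s := dz) rfl hν (by rw [h, hpow]; exact ⟨_, rfl⟩))
      (by rw [hpow]; exact hr1) hcomm
    exact ⟨(outCongr e).trans iso⟩

end minus

end Cfsg.Agent.CG26.AutPO
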