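import Cfsg.Agent.CG26.AutPO.Count
import Cfsg.Agent.CG26.FieldAutCard
import Cfsg.Agent.Forms59.Elliptic2
import Cfsg.Agent.Lib.UnitaryOrthogonal.OmegaStandard

/-!
The standard forms: semisimilitudes, multipliers, and the transfer to `Cfsg.POmega`.
-/

set_option autoImplicit false

namespace Cfsg.Agent.CG26.AutPO

open QuadraticMap Cfsg.Agent.UnitaryOrthogonal

universe u

variable {F : Type u} [Field F]

/-- `Cfsg.POmega` of a form given as a function is `PΩ` of the quadratic form. -/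
theorem nonempty_pomega_equiv {ι : Type} [Fintype ι] [DecidableEq ι] {f : (ι → F) → F}
    {Q : QuadraticForm F (ι → F)} (h : ∀ v, Q v = f v) (hS : Setup Q) :
    Nonempty (Cfsg.POmega F f ≃* PO Q) := by
  haveI := hS.fin
  exact nonempty_commutator_quotient_congr (isometryGroupEquiv Q h)
    (OrthStab.commutator_eq hS.nd (le_trans (by norm_num) hS.dim))

theorem card_mulAut_pomega {ι : Type} [Fintype ι] [DecidableEq ι] {f : (ι → F) → F}
    {Q : QuadraticForm F (ι → F)} (h : ∀ v, Q v = f v) (hS : Setup Q) :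
    Nat.card (MulAut (Cfsg.POmega F f)) = Nat.card (MulAut (PO Q)) := by
  obtain ⟨e⟩ := nonempty_pomega_equiv h hS
  exact Nat.card_congr (MulAut.congr e).toEquiv

variable [Finite F]

theorem setup_odd (h2 : (2 : F) ≠ 0) {m : ℕ} (hm : 3 ≤ m) : Setup (qOdd m F) :=
  ⟨((polarND_sqForm h2).hypSum m).congr (qOddIso m F).symm, inferInstance, inferInstance, by
    simp only [Module.finrank_fintype_fun_eq_card, Fintype.card_sum, Fintype.card_fin,
      Fintype.card_unit]
    omega⟩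

theorem setup_plus {m : ℕ} (hm : 4 ≤ m) : Setup (qPlus m F) :=
  ⟨((polarND_zeroForm (F := F)).hypSum m).congr (qPlusIso m F).symm, inferInstance, inferInstance, by
    simp only [Module.finrank_fintype_fun_eq_card, Fintype.card_sum, Fintype.card_fin]
    omega⟩

theorem setup_minus {a b : F} (hab : BinAniso a b) {m : ℕ} (hm : 3 ≤ m) : Setup (qMinus m F a b) :=
  ⟨(hab.polarND.hypSum m).congr (qMinusIso m F a b).symm, inferInstance, inferInstance, by
    simp only [Module.finrank_fintype_fun_eq_card, Fintype.card_sum, Fintype.card_fin]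
    omega⟩

theorem big_odd (h2 : (2 : F) ≠ 0) {m : ℕ} (hm : 3 ≤ m) : Big (qOdd m F) := by
  rcases Nat.lt_or_ge m 4 with h | h
  · obtain rfl : m = 3 := by omega
    refine Or.inl (noOD_of_singular_le fun U hU => ?_)
    have := finrank_singular_le (setup_odd h2 hm).nd U hU
    simp only [Module.finrank_fintype_fun_eq_card, Fintype.card_sum, Fintype.card_fin,
      Fintype.card_unit] at this
    omega
  · refine Or.inr ?_
    simp only [Module.finrank_fintype_fun_eq_card, Fintype.card_sum, Fintype.card_fin,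
      Fintype.card_unit]
    omega

omit [Finite F] in
theorem big_plus {m : ℕ} (hm : 5 ≤ m) : Big (qPlus m F) := by
  refine Or.inr ?_
  simp only [Module.finrank_fintype_fun_eq_card, Fintype.card_sum, Fintype.card_fin]
  omega

omit [Finite F] in
theorem big_minus {a b : F} (hab : BinAniso a b) {m : ℕ} (hm : 3 ≤ m) :
    Big (qMinus m F a b) := by
  rcases Nat.lt_or_ge m 4 with h | h
  · obtain rfl : m = 3 := by omega
    refine Or.inl (noOD_of_singular_le fun U hU => ?_)
    exact Forms59.finrank_le_of_totally_singular_minus 3 a b hab U fun u hu => by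
      rw [← qMinus_apply]; exact hU u hu
  · refine Or.inr ?_
    simp only [Module.finrank_fintype_fun_eq_card, Fintype.card_sum, Fintype.card_fin]
    omega

theorem qOdd_field (σ : F ≃+* F) (m : ℕ) (v : Unit ⊕ (Fin m ⊕ Fin m) → F) :
    qOdd m F (fun i => σ (v i)) = σ (qOdd m F v) := by
  simp [qOdd_apply, Cfsg.quadFormOdd, map_sum]

theorem qPlus_field (σ : F ≃+* F) (m : ℕ) (v : Fin m ⊕ Fin m → F) :
    qPlus m F (fun i => σ (v i)) = σ (qPlus m F v) := by
  simp [qPlus_apply, Cfsg.quadFormPlus, map_sum]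

theorem qMinus_field (σ : F ≃+* F) (m : ℕ) (a b : F) (v : (Fin m ⊕ Fin m) ⊕ Fin 2 → F) :
    qMinus m F (σ a) (σ b) (fun i => σ (v i)) = σ (qMinus m F a b v) := by
  simp [qMinus_apply, Cfsg.quadFormMinus, map_sum]

/-- The coordinatewise action of a field automorphism. -/
def fieldMap {ι : Type} (σ : F ≃+* F) (v : ι → F) : ι → F := fun i => σ (v i)

omit [Finite F] in
theorem fieldMap_add {ι : Type} (σ : F ≃+* F) (x y : ι → F) :
    fieldMap σ (x + y) = fieldMap σ x + fieldMap σ y := funext fun i => by simp [fieldMap]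

omit [Finite F] in
theorem fieldMap_smul {ι : Type} (σ : F ≃+* F) (c : F) (x : ι → F) :
    fieldMap σ (c • x) = σ c • fieldMap σ x := funext fun i => by simp [fieldMap]

/-- Scaling the first half of each hyperbolic pair. -/
def hypScale {W : Type*} [AddCommGroup W] [Module F W] {m : ℕ} (μ : F) (g : W →ₗ[F] W) :
    ((Fin m → F) × (Fin m → F)) × W →ₗ[F] ((Fin m → F) × (Fin m → F)) × W :=
  ((μ • LinearMap.id).prodMap LinearMap.id).prodMap g

omit [Finite F] in
theorem hypSum_hypScale {W : Type*} [AddCommGroup W] [Module F W] {R : QuadraticForm F W} {m : ℕ}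
    (μ : F) (g : W →ₗ[F] W) (hg : ∀ w, R (g w) = μ * R w)
    (v : ((Fin m → F) × (Fin m → F)) × W) :
    hypSum m R (hypScale μ g v) = μ * hypSum m R v := by
  simp [hypScale, hg, Finset.mul_sum, mul_add, mul_assoc]

theorem exists_sim_odd (h2 : (2 : F) ≠ 0) {m : ℕ} (hm : 3 ≤ m) (σ : F ≃+* F) {μ : F} (hμ0 : μ ≠ 0)
    (hμ : IsSquare μ) : ∃ s : Sim (qOdd m F), s.σ = σ ∧ s.μ = μ := by
  obtain ⟨r, rfl⟩ := hμ
  have hr : r ≠ 0 := left_ne_zero_of_mul hμ0
  let s₁ : Sim (qOdd m F) := Sim.ofMap (setup_odd h2 hm) σ (fieldMap σ) (fieldMap_add σ)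
    (fieldMap_smul σ) 1 one_ne_zero (fun x => by rw [one_mul]; exact qOdd_field σ m x)
  refine ⟨s₁.scale (Units.mk0 r hr), rfl, ?_⟩
  show r * r * 1 = r * r
  rw [mul_one]

theorem exists_sim_plus {m : ℕ} (hm : 4 ≤ m) (σ : F ≃+* F) {μ : F} (hμ : μ ≠ 0) :
    ∃ s : Sim (qPlus m F), s.σ = σ ∧ s.μ = μ := by
  let T : (Fin m ⊕ Fin m → F) →ₗ[F] (Fin m ⊕ Fin m → F) :=
    (plusCoord m F).symm.toLinearMap.comp
      ((hypScale μ (LinearMap.id : (Fin 0 → F) →ₗ[F] _)).comp (plusCoord m F).toLinearMap)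
  have hT : ∀ x, qPlus m F (T x) = μ * qPlus m F x := fun x => by
    simp only [qPlus, QuadraticMap.comp_apply, T, LinearMap.comp_apply, LinearEquiv.coe_coe,
      LinearEquiv.apply_symm_apply]
    exact hypSum_hypScale μ _ (fun w => by simp [zeroForm]) _
  exact ⟨Sim.ofMap (setup_plus hm) σ (fun v => T (fieldMap σ v))
    (fun x y => by rw [fieldMap_add, map_add]) (fun c x => by rw [fieldMap_smul, map_smul]) μ hμ
    (fun x => by rw [hT]; exact congrArg _ (qPlus_field σ m x)), rfl, rfl⟩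

omit [Finite F] in
/-- An anisotropic binary form is a normal form `x² + xy + ζy²`. -/
theorem exists_binary_normal {a b : F} (hab : BinAniso a b) (ha : (2 : F) = 0 → a ≠ 0) :
    ∃ (ζ : F) (M : (Fin 2 → F) ≃ₗ[F] (Fin 2 → F)), (∀ t : F, t ^ 2 + t + ζ ≠ 0) ∧
      ∀ z, (M z) 0 ^ 2 + a * (M z) 0 * (M z) 1 + b * (M z) 1 ^ 2 =
        z 0 ^ 2 + 1 * z 0 * z 1 + ζ * z 1 ^ 2 := by
  obtain ⟨x, y, hy, hxy⟩ : ∃ x y : F, y ≠ 0 ∧ 2 * x + a * y = 1 := by
    by_cases h2 : (2 : F) = 0
    · exact ⟨0, a⁻¹, inv_ne_zero (ha h2), by rw [mul_zero, zero_add, mul_inv_cancel₀ (ha h2)]⟩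
    · exact ⟨(1 - a) / 2, 1, one_ne_zero, by field_simp; ring⟩
  let M : (Fin 2 → F) →ₗ[F] (Fin 2 → F) := Matrix.mulVecLin !![1, x; 0, y]
  have hinj : Function.Injective M := (injective_iff_map_eq_zero M).2 fun z hz => by
    have e1 := congr_fun hz 1
    have e0 := congr_fun hz 0
    simp [M, dotProduct, Fin.sum_univ_two, hy] at e1
    simp [M, dotProduct, Fin.sum_univ_two, e1] at e0
    funext i
    fin_cases i
    · exact e0
    · exact e1
  refine ⟨x ^ 2 + a * x * y + b * y ^ 2, LinearEquiv.ofInjectiveEndo M hinj, fun t ht => ?_,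
    fun z => ?_⟩
  · exact hy (hab (t + x) y (by linear_combination ht + t * hxy)).2
  · rw [LinearEquiv.coe_ofInjectiveEndo]
    simp [M, dotProduct, Fin.sum_univ_two]
    linear_combination (z 0 * z 1) * hxy

theorem exists_minus_isometry {a b a' b' : F} (hab : BinAniso a b) (hab' : BinAniso a' b') (m : ℕ) :
    ∃ T : ((Fin m ⊕ Fin m) ⊕ Fin 2 → F) ≃ₗ[F] ((Fin m ⊕ Fin m) ⊕ Fin 2 → F),
      ∀ v, qMinus m F a' b' (T v) = qMinus m F a b v := by
  obtain ⟨ζ, M, hζ, hM⟩ := exists_binary_normal hab hab.a_ne_zero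
  obtain ⟨ζ', M', hζ', hM'⟩ := exists_binary_normal hab' hab'.a_ne_zero
  obtain ⟨N, hN⟩ := Forms59.exists_binary_isometry ζ ζ' hζ hζ'
  obtain ⟨T, hT⟩ := Forms59.exists_isometry_minus_of_binary m a b a' b'
    ((M.symm.trans N).trans M') fun z => by
      rw [LinearEquiv.trans_apply, LinearEquiv.trans_apply, hM', hN, ← hM, LinearEquiv.apply_symm_apply]
  exact ⟨T, fun v => by rw [qMinus_apply, qMinus_apply]; exact hT v⟩

theorem exists_sim_minus {a b : F} (hab : BinAniso a b) {m : ℕ} (hm : 3 ≤ m) (σ : F ≃+* F) {μ : F}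
    (hμ : μ ≠ 0) : ∃ s : Sim (qMinus m F a b), s.σ = σ ∧ s.μ = μ := by
  have hab' : BinAniso (σ a) (σ b) := fun z₁ z₂ h => by
    obtain ⟨h1, h2⟩ := hab (σ.symm z₁) (σ.symm z₂) (σ.injective (by simpa using h))
    exact ⟨σ.symm.map_eq_zero_iff.1 h1, σ.symm.map_eq_zero_iff.1 h2⟩
  obtain ⟨I, hI⟩ := exists_minus_isometry hab' hab m
  obtain ⟨z, hz⟩ := hab.exists_form_eq μ
  let T : ((Fin m ⊕ Fin m) ⊕ Fin 2 → F) →ₗ[F] ((Fin m ⊕ Fin m) ⊕ Fin 2 → F) :=
    (minusCoord m F).symm.toLinearMap.comp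
      ((hypScale μ (binMul a b z)).comp ((minusCoord m F).toLinearMap.comp I.toLinearMap))
  have hT : ∀ x, qMinus m F a b (T x) = μ * qMinus m F (σ a) (σ b) x := fun x => by
    rw [← hI]
    simp only [qMinus, QuadraticMap.comp_apply, T, LinearMap.comp_apply, LinearEquiv.coe_coe,
      LinearEquiv.apply_symm_apply]
    exact hypSum_hypScale μ _ (fun w => by rw [binForm_binMul, hz]) _
  exact ⟨Sim.ofMap (setup_minus hab hm) σ (fun v => T (fieldMap σ v))
    (fun x y => by rw [fieldMap_add, map_add]) (fun c x => by rw [fieldMap_smul, map_smul]) μ hμ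
    (fun x => by rw [hT]; exact congrArg _ (qMinus_field σ m a b x)), rfl, rfl⟩

/-- Multipliers are squares in odd dimension. -/
theorem multiplier_odd (h2 : (2 : F) ≠ 0) {m : ℕ} (hm : 3 ≤ m) (s : Sim (qOdd m F)) :
    IsSquare s.μ := by
  classical
  let L : (Unit ⊕ (Fin m ⊕ Fin m) → F) →ₗ[F] (Unit ⊕ (Fin m ⊕ Fin m) → F) :=
    { toFun := fun x => s.g (fieldMap s.σ.symm x)
      map_add' := fun x y => by rw [fieldMap_add, map_add]
      map_smul' := fun c x => by
        rw [fieldMap_smul, s.map_smul', s.σ.apply_symm_apply, RingHom.id_apply] }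
  have hL : (polarBilin (qOdd m F)).compl₁₂ L L = s.μ • polarBilin (qOdd m F) := by
    refine LinearMap.ext fun x => LinearMap.ext fun y => ?_
    have hq : ∀ v, s.σ (qOdd m F (fieldMap s.σ.symm v)) = qOdd m F v := fun v => by
      show s.σ (qOdd m F (fun i => s.σ.symm (v i))) = _
      rw [qOdd_field, s.σ.apply_symm_apply]
    show polar (qOdd m F) (L x) (L y) = s.μ • polar (qOdd m F) x y
    simp only [polar, ← map_add L]
    simp only [L, LinearMap.coe_mk, AddHom.coe_mk, s.form', hq, smul_eq_mul]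
    ring
  have e := congrArg (fun B => (LinearMap.toMatrix₂' F B).det) hL
  simp only [LinearMap.toMatrix₂'_compl₁₂, map_smul, Matrix.det_mul, Matrix.det_transpose,
    Matrix.det_smul, Fintype.card_sum, Fintype.card_fin, Fintype.card_unit] at e
  have hB : (LinearMap.toMatrix₂' F (polarBilin (qOdd m F))).det ≠ 0 :=
    LinearMap.separatingLeft_iff_det_ne_zero (Pi.basisFun F _) |>.1
      (fun x hx => (setup_odd h2 hm).nd x hx) |> fun h => by
        rwa [LinearMap.toMatrix₂_basisFun] at h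
  have e' : s.μ ^ (1 + (m + m)) = (LinearMap.toMatrix' L).det ^ 2 :=
    mul_right_cancel₀ hB (by linear_combination -e)
  refine ⟨(LinearMap.toMatrix' L).det / s.μ ^ m, ?_⟩
  have := s.μ0
  field_simp
  linear_combination e'

end Cfsg.Agent.CG26.AutPO

namespace Cfsg.Agent.CG26.AutPO

open QuadraticMap Cfsg.Agent.UnitaryOrthogonal

universe u

variable {F : Type u} [Field F] [Finite F]

theorem two_mul_ncard_squares (h2 : (2 : F) ≠ 0) :
    2 * {μ : F | μ ≠ 0 ∧ IsSquare μ}.ncard = Nat.card F - 1 := by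
  cases nonempty_fintype F
  let g : Fˣ →* Fˣ := powMonoidHom 2
  have hset : {μ : F | μ ≠ 0 ∧ IsSquare μ} = (fun u : Fˣ => (u : F)) '' (g.range : Set Fˣ) := by
    ext μ
    constructor
    · rintro ⟨h0, r, rfl⟩
      exact ⟨_, ⟨Units.mk0 r (left_ne_zero_of_mul h0), rfl⟩, by simp [g, pow_two]⟩
    · rintro ⟨_, ⟨u, rfl⟩, rfl⟩
      exact ⟨Units.ne_zero _, ⟨u, by simp [g, pow_two]⟩⟩
  have hker : Nat.card g.ker = 2 := by
    have hne : (-1 : Fˣ) ≠ 1 := fun e => h2 (by
      have := congrArg (fun u : Fˣ => (u : F)) e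
      simp only [Units.val_neg, Units.val_one] at this
      linear_combination -this)
    rw [Nat.card_eq_two_iff]
    refine ⟨⟨1, map_one _⟩, ⟨-1, by simp [g]⟩, fun e => hne (congrArg Subtype.val e).symm,
      Set.eq_univ_of_forall fun x => ?_⟩
    obtain ⟨x, hx⟩ := x
    have hx' : (x : F) * x = 1 := by
      have := congrArg (fun u : Fˣ => (u : F)) (MonoidHom.mem_ker.1 hx)
      simpa [g, pow_two, ← Units.val_mul] using this
    rcases mul_self_eq_one_iff.1 hx' with e | e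
    · exact Or.inl (Subtype.ext (Units.ext e))
    · exact Or.inr (Subtype.ext (Units.ext (by simpa using e)))
  have h := g.ker.card_mul_index
  rw [hker, Subgroup.index_ker, Nat.card_units] at h
  rw [hset, Set.ncard_image_of_injective _ Units.val_injective, ← Nat.card_coe_set_eq]
  exact h

theorem ncard_ne_zero : {μ : F | μ ≠ 0}.ncard = Nat.card F - 1 := by
  rw [show {μ : F | μ ≠ 0} = ({0} : Set F)ᶜ from rfl, Set.ncard_compl, Set.ncard_singleton]

/-- `|Aut(PΩ_{2m+1}(q))| = 2 f |PΩ_{2m+1}(q)|`. -/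
theorem card_aut_odd (h2 : (2 : F) ≠ 0) {m : ℕ} (hm : 3 ≤ m) :
    Nat.card (MulAut (Cfsg.POmega F (Cfsg.quadFormOdd m F))) =
      2 * Nat.card (F ≃+* F) * Nat.card (Cfsg.POmega F (Cfsg.quadFormOdd m F)) := by
  have h := card_aut (setup_odd h2 hm) (big_odd h2 hm) {μ : F | μ ≠ 0 ∧ IsSquare μ}
    (fun σ μ hμ => exists_sim_odd h2 hm σ hμ.1 hμ.2)
    (fun s => ⟨s.μ0, multiplier_odd h2 hm s⟩)
  rw [← card_mulAut_pomega (qOdd_apply m) (setup_odd h2 hm), card_orth_congr (qOddIso m F)] at h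
  obtain ⟨k, rfl⟩ : ∃ k, m = k + 2 := ⟨m - 2, by omega⟩
  rw [← (pomega_odd h2 k).2] at h
  have hM := two_mul_ncard_squares (F := F) h2
  have hq : 0 < Nat.card F - 1 := by have := Finite.one_lt_card (α := F); omega
  refine Nat.eq_of_mul_eq_mul_right hq ?_
  rw [h, ← hM]
  ring

/-- `|Aut(PΩ⁻_{2m}(q))|`. -/
theorem card_aut_minus {a b : F} (hab : BinAniso a b) (k : ℕ) (hk : 1 ≤ k) :
    Nat.card (MulAut (Cfsg.POmega F (Cfsg.quadFormMinus (k + 2) F a b))) =
      Nat.card (F ≃+* F) * (2 * Nat.gcd 4 (Nat.card F ^ (k + 3) + 1) *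
        Nat.card (Cfsg.POmega F (Cfsg.quadFormMinus (k + 2) F a b))) := by
  have hm : 3 ≤ k + 2 := by omega
  have h := card_aut (setup_minus hab hm) (big_minus hab hm) {μ : F | μ ≠ 0}
    (fun σ μ hμ => exists_sim_minus hab hm σ hμ) (fun s => s.μ0)
  rw [← card_mulAut_pomega (qMinus_apply (k + 2) a b) (setup_minus hab hm),
    card_orth_congr (qMinusIso (k + 2) F a b), ← (pomega_minus hab k).2, ncard_ne_zero] at h
  have hq : 0 < Nat.card F - 1 := by have := Finite.one_lt_card (α := F); omega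
  refine Nat.eq_of_mul_eq_mul_right hq ?_
  rw [h]
  ring

/-- `|Aut(PΩ⁺_{2m}(q))|`, `m ≥ 5`. -/
theorem card_aut_plus (k : ℕ) (hk : 3 ≤ k) :
    Nat.card (MulAut (Cfsg.POmega F (Cfsg.quadFormPlus (k + 2) F))) =
      Nat.card (F ≃+* F) * (2 * Nat.gcd 4 (Nat.card F ^ (k + 2) - 1) *
        Nat.card (Cfsg.POmega F (Cfsg.quadFormPlus (k + 2) F))) := by
  have hm : 5 ≤ k + 2 := by omega
  have h := card_aut (setup_plus (F := F) (show 4 ≤ k + 2 by omega)) (big_plus hm) {μ : F | μ ≠ 0}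
    (fun σ μ hμ => exists_sim_plus (show 4 ≤ k + 2 by omega) σ hμ) (fun s => s.μ0)
  rw [← card_mulAut_pomega (qPlus_apply (k + 2)) (setup_plus (by omega)),
    card_orth_congr (qPlusIso (k + 2) F), ← (pomega_plus k (by omega)).2, ncard_ne_zero] at h
  have hq : 0 < Nat.card F - 1 := by have := Finite.one_lt_card (α := F); omega
  refine Nat.eq_of_mul_eq_mul_right hq ?_
  rw [h]
  ring

end Cfsg.Agent.CG26.AutPO
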