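import Cfsg.Agent.CG26.AutPO.Out
import Cfsg.Agent.CG26.AutPO.Standard
import Cfsg.Agent.CG26.AutPO.OutGroup

/-!
The structure of `Out(PΩ)` for the odd and minus forms.
-/

set_option autoImplicit false

namespace Cfsg.Agent.CG26.AutPO

open QuadraticMap Cfsg.Agent.UnitaryOrthogonal

universe u v

variable {F : Type u} [Field F]

theorem exists_frob [Fintype F] (p f : ℕ) [Fact p.Prime] (hF : Fintype.card F = p ^ f) :
    ∃ σ : F ≃+* F, orderOf σ = f ∧ ∀ x, σ x = x ^ p := by
  haveI : CharP F p := charP_of_card_eq_prime_pow hF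
  letI : Algebra (ZMod p) F := ZMod.algebra F p
  have hrank : Module.finrank (ZMod p) F = f := by
    have h := Module.card_eq_pow_finrank (K := ZMod p) (V := F)
    rw [ZMod.card, hF] at h
    exact (Nat.pow_right_injective (Fact.out (p := p.Prime)).two_le h).symm
  let φ : (F ≃ₐ[ZMod p] F) →* (F ≃+* F) :=
    MonoidHom.mk' (fun a => a.toRingEquiv) fun _ _ => rfl
  refine ⟨φ (FiniteField.frobeniusAlgEquivOfAlgebraic (ZMod p) F), ?_, fun x => ?_⟩
  · rw [orderOf_injective φ (fun a b h => AlgEquiv.ext fun x => DFunLike.congr_fun h x),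
      FiniteField.orderOf_frobeniusAlgEquivOfAlgebraic, hrank]
  · show (FiniteField.frobeniusAlgEquivOfAlgebraic (ZMod p) F) x = _
    simp [ZMod.card]

theorem frob_pow {p : ℕ} {σ : F ≃+* F} (hσ : ∀ x, σ x = x ^ p) (k : ℕ) (x : F) :
    (σ ^ k) x = x ^ p ^ k := by
  induction k generalizing x with
  | zero => simp
  | succ k ih => rw [pow_succ', RingAut.mul_apply, ih, hσ, ← pow_mul, pow_succ]

section general

variable {V : Type v} [AddCommGroup V] [Module F V] {Q : QuadraticForm F V}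

/-- Powers of a class. -/
theorem exists_cls_pow (s : Sim Q) : ∀ k : ℕ,
    ∃ t : Sim Q, cls t = cls s ^ k ∧ t.σ = s.σ ^ k ∧ ∀ x, t.g x = (⇑s.g)^[k] x
  | 0 => ⟨Sim.ofOrth 1, by rw [pow_zero]; exact map_one orthCls, by rw [pow_zero]; rfl,
      fun x => rfl⟩
  | k + 1 => by
    obtain ⟨t, h1, h2, h3⟩ := exists_cls_pow s k
    refine ⟨s.comp t, by rw [cls_comp, h1, pow_succ'], ?_, fun x => ?_⟩
    · rw [pow_succ', ← h2]
      rfl
    · rw [Function.iterate_succ_apply', ← h3]
      rfl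

theorem cls_pow_eq_orth (hS : Setup Q) (s : Sim Q) (k : ℕ) (hσ : s.σ ^ k = 1) (g : orth Q)
    (hg : ∀ x, (⇑s.g)^[k] x = g.1 x) : cls s ^ k = orthCls g := by
  obtain ⟨t, h1, h2, h3⟩ := exists_cls_pow s k
  rw [← h1]
  exact cls_eq_of_g hS (h2.trans hσ) fun x => (h3 x).trans (hg x)

end general

section odd

variable [Fintype F] {p f : ℕ} [Fact p.Prime]

theorem out_odd (hf : 1 ≤ f) (hF : Fintype.card F = p ^ f) (h2 : (2 : F) ≠ 0) {m : ℕ} (hm : 3 ≤ m) :
    Nonempty (Cfsg.Out (Cfsg.POmega F (Cfsg.quadFormOdd m F)) ≃*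
      Multiplicative (ZMod 2 × ZMod f)) := by
  haveI : NeZero f := ⟨by omega⟩
  have hS := setup_odd h2 hm
  have hB := big_odd h2 hm
  haveI := finite_out hS
  obtain ⟨e⟩ := nonempty_pomega_equiv (qOdd_apply m) hS
  obtain ⟨σ, hord, -⟩ := exists_frob p f hF
  let s : Sim (qOdd m F) := Sim.ofMap hS σ (fieldMap σ) (fieldMap_add σ) (fieldMap_smul σ) 1
    one_ne_zero (fun x => by rw [one_mul]; exact qOdd_field σ m x)
  have hcard : Nat.card (MulAut (PO (qOdd m F))) = 2 * f * Nat.card (PO (qOdd m F)) := by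
    rw [← card_mulAut_pomega (qOdd_apply m) hS, card_aut_odd h2 hm, card_fieldAut p f hF,
      Nat.card_congr e.toEquiv]
  have hiter : ∀ k x, (⇑s.g)^[k] x = fieldMap (σ ^ k) x := by
    intro k
    induction k with
    | zero => intro x; rfl
    | succ k ih => intro x; rw [Function.iterate_succ_apply', ih, pow_succ']; rfl
  have hσf : σ ^ f = 1 := hord ▸ pow_orderOf_eq_one σ
  obtain ⟨iso⟩ := OutGroup.nonempty_two_prod (outField hS hB) (card_fieldAut p f hF) (cls s)
    (by rw [outField_cls]; exact hord)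
    (by
      rw [cls_pow_eq_orth hS s f hσf 1 (fun x => by rw [hiter, hσf]; rfl), map_one])
    (card_out hS hB hcard)
  exact ⟨(outCongr e).trans iso⟩

end odd

section minus

variable (m : ℕ) (a b : F)

/-- The minus space in split coordinates. -/
abbrev MV (F : Type u) (m : ℕ) : Type u := ((Fin m → F) × (Fin m → F)) × (F × F)

theorem setup_sum [Finite F] {a b : F} (hab : BinAniso a b) {m : ℕ} (hm : 3 ≤ m) :
    Setup (hypSum m (binForm a b)) :=
  ⟨hab.polarND.hypSum m, inferInstance, inferInstance, by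
    rw [← (qMinusIso m F a b).toLinearEquiv.finrank_eq]
    exact (setup_minus hab hm).dim⟩

theorem big_sum {a b : F} (hab : BinAniso a b) {m : ℕ} (hm : 3 ≤ m) :
    Big (hypSum m (binForm a b)) := by
  have hd := (qMinusIso m F a b).toLinearEquiv.finrank_eq
  simp only [Module.finrank_fintype_fun_eq_card, Fintype.card_sum, Fintype.card_fin] at hd
  rcases Nat.lt_or_ge m 4 with h | h
  · obtain rfl : m = 3 := by omega
    refine Or.inl (noOD_of_singular_le fun U hU => ?_)
    rw [← LinearEquiv.finrank_map_eq (qMinusIso 3 F a b).toLinearEquiv.symm U]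
    refine Forms59.finrank_le_of_totally_singular_minus 3 a b hab _ ?_
    rintro _ ⟨u, hu, rfl⟩
    rw [← qMinus_apply, ← hU u hu]
    show hypSum 3 (binForm a b) (minusCoord 3 F ((minusCoord 3 F).symm u)) = _
    rw [LinearEquiv.apply_symm_apply]
  · refine Or.inr ?_
    rw [← hd]
    omega

theorem nonempty_minus_equiv [Finite F] {a b a₀ b₀ : F} (hab : BinAniso a b)
    (hab₀ : BinAniso a₀ b₀) {m : ℕ} (hm : 3 ≤ m) :
    Nonempty (Cfsg.POmega F (Cfsg.quadFormMinus m F a b) ≃* PO (hypSum m (binForm a₀ b₀))) := by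
  obtain ⟨T, hT⟩ := exists_minus_isometry hab hab₀ m
  let e : (qMinus m F a b).IsometryEquiv (qMinus m F a₀ b₀) := { T with map_app' := hT }
  exact nonempty_commutator_quotient_congr
    ((isometryGroupEquiv (qMinus m F a b) (qMinus_apply m a b)).trans
      (orthCongr (e.trans (qMinusIso m F a₀ b₀))))
    (OrthStab.commutator_eq (setup_sum hab₀ hm).nd
      (le_trans (by norm_num) (setup_sum hab₀ hm).dim))

theorem card_out_sum [Fintype F] {a b a₀ b₀ : F} (hab : BinAniso a b) (hab₀ : BinAniso a₀ b₀)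
    (k : ℕ) (hk : 1 ≤ k) :
    Nat.card (Cfsg.Out (PO (hypSum (k + 2) (binForm a₀ b₀)))) =
      Nat.card (F ≃+* F) * (2 * Nat.gcd 4 (Nat.card F ^ (k + 3) + 1)) := by
  obtain ⟨e⟩ := nonempty_minus_equiv hab hab₀ (show 3 ≤ k + 2 by omega)
  refine card_out (setup_sum hab₀ (by omega)) (big_sum hab₀ (by omega)) ?_
  rw [← Nat.card_congr (MulAut.congr e).toEquiv, card_aut_minus hab k hk, ← mul_assoc,
    Nat.card_congr e.toEquiv]

end minus

section trace

/-- The truncated trace `ζ + ζ² + ⋯ + ζ^(2^(k-1))`. -/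
def trSeq (ζ : F) : ℕ → F
  | 0 => 0
  | k + 1 => trSeq ζ k ^ 2 + ζ

theorem trSeq_succ [CharP F 2] (ζ : F) : ∀ k, trSeq ζ (k + 1) = trSeq ζ k + ζ ^ 2 ^ k
  | 0 => by simp [trSeq]
  | k + 1 => by
    rw [show trSeq ζ (k + 1 + 1) = trSeq ζ (k + 1) ^ 2 + ζ from rfl]
    conv_lhs => rw [trSeq_succ ζ k, CharTwo.add_sq, ← pow_mul, ← pow_succ]
    rw [show trSeq ζ (k + 1) = trSeq ζ k ^ 2 + ζ from rfl]
    ring

theorem trSeq_eq_one [Fintype F] [CharP F 2] {f : ℕ} (hF : Fintype.card F = 2 ^ f) (hf : 1 ≤ f)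
    {ζ : F} (hζ : ∀ t : F, t ^ 2 + t + ζ ≠ 0) : trSeq ζ f = 1 := by
  classical
  have hq : ∀ x : F, x ^ 2 ^ f = x := fun x => by rw [← hF]; exact FiniteField.pow_card x
  have h01 : ∀ z : F, trSeq z f = 0 ∨ trSeq z f = 1 := fun z => by
    have h := trSeq_succ z f
    rw [show trSeq z (f + 1) = trSeq z f ^ 2 + z from rfl, hq] at h
    have h' : trSeq z f * (trSeq z f - 1) = 0 := by linear_combination h
    rcases mul_eq_zero.1 h' with e | e
    · exact Or.inl e
    · exact Or.inr (sub_eq_zero.1 e)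
  refine (h01 ζ).resolve_left fun h0 => ?_
  let P : ℕ → Polynomial F := fun k => Nat.rec 0 (fun _ p => p ^ 2 + Polynomial.X) k
  have heval : ∀ k z, (P k).eval z = trSeq z k := by
    intro k z
    induction k with
    | zero => simp [P, trSeq]
    | succ k ih =>
      show (P k ^ 2 + Polynomial.X).eval z = trSeq z k ^ 2 + z
      simp [ih]
  have hdeg : ∀ k, (P (k + 1)).natDegree ≤ 2 ^ k := by
    intro k
    induction k with
    | zero => simp [P]
    | succ k ih =>
      show (P (k + 1) ^ 2 + Polynomial.X).natDegree ≤ _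
      refine (Polynomial.natDegree_add_le _ _).trans (max_le ?_ ?_)
      · refine Polynomial.natDegree_pow_le.trans ?_
        rw [pow_succ']
        exact Nat.mul_le_mul_left 2 ih
      · rw [Polynomial.natDegree_X]
        exact Nat.one_le_two_pow
  obtain ⟨g, rfl⟩ : ∃ g, f = g + 1 := ⟨f - 1, by omega⟩
  have hne : P (g + 1) ≠ 0 := by
    intro e
    have h := congrArg Polynomial.derivative e
    change Polynomial.derivative (P g ^ 2 + Polynomial.X) = _ at h
    simp [Polynomial.derivative_pow, CharTwo.two_eq_zero] at h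
  have hker : ∀ t : F, trSeq (t ^ 2 + t) (g + 1) = 0 := fun t => by
    have h : ∀ k, trSeq (t ^ 2 + t) k = t ^ 2 ^ k + t := by
      intro k
      induction k with
      | zero => simp [trSeq, CharTwo.add_self_eq_zero]
      | succ k ih =>
        rw [trSeq, ih, CharTwo.add_sq, ← pow_mul, ← pow_succ]
        linear_combination CharTwo.add_self_eq_zero (t ^ 2)
    rw [h, hq, CharTwo.add_self_eq_zero]
  let S : Finset F := Finset.univ.image fun t : F => t ^ 2 + t
  have hS : Fintype.card F ≤ 2 * S.card := by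
    refine Finset.card_le_mul_card_image (s := Finset.univ) 2 fun y _ => ?_
    by_contra hlt
    push Not at hlt
    obtain ⟨u, v, w, hu, hv, hw, huv, huw, hvw⟩ := Finset.two_lt_card_iff.1 hlt
    simp only [Finset.mem_filter, Finset.mem_univ, true_and] at hu hv hw
    have key : ∀ {x z : F}, x ^ 2 + x = z ^ 2 + z → x ≠ z → x + z + 1 = 0 := by
      intro x z h hxz
      exact (mul_eq_zero.1 (show (x - z) * (x + z + 1) = 0 by linear_combination h)).resolve_left
        (sub_ne_zero.2 hxz)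
    have e1 := key (hu.trans hv.symm) huv
    have e2 := key (hu.trans hw.symm) huw
    exact hvw (by linear_combination e1 - e2)
  have hroots : insert ζ S ⊆ (P (g + 1)).roots.toFinset := by
    intro z hz
    rw [Multiset.mem_toFinset, Polynomial.mem_roots hne, Polynomial.IsRoot]
    refine (heval (g + 1) z).trans ?_
    rcases Finset.mem_insert.1 hz with rfl | hz
    · exact h0
    · obtain ⟨t, -, rfl⟩ := Finset.mem_image.1 hz
      exact hker t
  have hnS : ζ ∉ S := fun hz => by
    obtain ⟨t, -, ht⟩ := Finset.mem_image.1 hz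
    exact hζ t (by rw [ht, CharTwo.add_self_eq_zero])
  have h1 := (Finset.card_le_card hroots).trans
    ((Multiset.toFinset_card_le _).trans ((Polynomial.card_roots' _).trans (hdeg g)))
  rw [Finset.card_insert_of_notMem hnS] at h1
  rw [hF, pow_succ] at hS
  omega

end trace

section minusTwo

variable [Fintype F]

/-- `Out(PΩ⁻(2^f))` is cyclic of order `2f`. -/
theorem out_minus_two {f : ℕ} (hf : 1 ≤ f) (hF : Fintype.card F = 2 ^ f) {a b : F}
    (hab : BinAniso a b) (k : ℕ) (hk : 1 ≤ k) :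
    IsCyclic (Cfsg.Out (Cfsg.POmega F (Cfsg.quadFormMinus (k + 2) F a b))) ∧
      Nat.card (Cfsg.Out (Cfsg.POmega F (Cfsg.quadFormMinus (k + 2) F a b))) = 2 * f := by
  haveI : Fact (Nat.Prime 2) := ⟨Nat.prime_two⟩
  haveI : NeZero f := ⟨by omega⟩
  haveI : CharP F 2 := charP_of_card_eq_prime_pow hF
  obtain ⟨ζ, -, hζ, -⟩ := exists_binary_normal hab hab.a_ne_zero
  have hab₀ : BinAniso 1 ζ := Forms59.anisotropic_of_no_root ζ hζ
  have hm : 3 ≤ k + 2 := by omega
  have hS := setup_sum hab₀ hm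
  have hB := big_sum hab₀ hm
  haveI := finite_out hS
  obtain ⟨σ, hord, hσ⟩ := exists_frob 2 f hF
  let T : MV F (k + 2) → MV F (k + 2) := fun v =>
    ((fun i => σ (v.1.1 i), fun i => σ (v.1.2 i)), (v.2.1 ^ 2 + ζ * v.2.2 ^ 2, v.2.2 ^ 2))
  let s : Sim (hypSum (k + 2) (binForm 1 ζ)) := Sim.ofMap hS σ T
    (fun x y => by
      simp only [T, Prod.mk_add_mk, Prod.fst_add, Prod.snd_add, Pi.add_apply, map_add,
        CharTwo.add_sq]
      refine Prod.ext rfl (Prod.ext ?_ rfl)
      ring)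
    (fun c x => by
      simp only [T, Prod.smul_fst, Prod.smul_snd, Prod.smul_mk, Pi.smul_apply, smul_eq_mul, map_mul,
        mul_pow, hσ c]
      refine Prod.ext rfl (Prod.ext ?_ rfl)
      ring) 1 one_ne_zero
    (fun x => by
      simp only [T, hypSum_apply, binForm_apply, one_mul, map_add, map_sum, map_mul]
      rw [hσ x.2.1, hσ x.2.2, hσ (x.2.1 ^ 2), hσ ζ, hσ (x.2.2 ^ 2)]
      linear_combination (ζ * x.2.1 ^ 2 * x.2.2 ^ 2 + ζ * x.2.2 ^ 4) * CharTwo.two_eq_zero (R := F))
  have hiter : ∀ j x, (⇑s.g)^[j] x =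
      ((fun i => x.1.1 i ^ 2 ^ j, fun i => x.1.2 i ^ 2 ^ j),
        (x.2.1 ^ 2 ^ j + trSeq ζ j * x.2.2 ^ 2 ^ j, x.2.2 ^ 2 ^ j)) := by
    intro j x
    induction j with
    | zero => simp [trSeq]
    | succ j ih =>
      rw [Function.iterate_succ_apply', ih]
      show T _ = _
      simp only [T, hσ, ← pow_mul, ← pow_succ, CharTwo.add_sq, mul_pow]
      refine Prod.ext rfl (Prod.ext ?_ rfl)
      simp only [trSeq]
      ring
  have hσf : s.σ ^ f = 1 := hord ▸ pow_orderOf_eq_one σ
  let v₀ : MV F (k + 2) := (0, ((1, 0) : F × F))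
  have hv₀ : hypSum (k + 2) (binForm (1 : F) ζ) v₀ = 1 := by simp [v₀, binForm_apply]
  have hpow : cls s ^ f = orthCls (rf _ v₀) := by
    refine cls_pow_eq_orth hS s f hσf _ fun x => ?_
    rw [hiter, trSeq_eq_one hF hf hζ, rf_apply, hv₀, inv_one, one_mul]
    have hq : ∀ y : F, y ^ 2 ^ f = y := fun y => by rw [← hF]; exact FiniteField.pow_card y
    have hp : polar (hypSum (k + 2) (binForm (1 : F) ζ)) v₀ x = x.2.2 := by
      simp [polar, v₀, binForm_apply]
      linear_combination x.2.1 * CharTwo.two_eq_zero (R := F)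
    rw [hp]
    refine Prod.ext (Prod.ext (funext fun i => by simp [v₀, hq]) (funext fun i => by simp [v₀, hq])) ?_
    refine Prod.ext ?_ ?_
    · simp [v₀, hq, CharTwo.sub_eq_add]
    · simp [v₀, hq]
  have hq2 : Nat.gcd 4 (Nat.card F ^ (k + 3) + 1) = 1 := by
    have : ¬ 2 ∣ Nat.card F ^ (k + 3) + 1 := by
      have : 2 ∣ Nat.card F ^ (k + 3) := by
        rw [Nat.card_eq_fintype_card, hF]
        exact dvd_pow (dvd_pow_self 2 (by omega)) (by omega)
      omega
    exact (Nat.Coprime.pow_left 2 (Nat.prime_two.coprime_iff_not_dvd.2 this) :)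
  have hG : Nat.card (Cfsg.Out (PO (hypSum (k + 2) (binForm (1 : F) ζ)))) = 2 * f := by
    rw [card_out_sum hab hab₀ k hk, hq2, card_fieldAut 2 f hF]
    ring
  have hx : outField hS hB (cls s) = σ := outField_cls hS hB s
  have hne : cls s ^ f ≠ 1 := by
    intro h1
    rw [hpow] at h1
    have hbot : (orthCls (Q := hypSum (k + 2) (binForm (1 : F) ζ))).range ≤ ⊥ := by
      refine orthCls_range_le hS fun w hw => ?_
      obtain ⟨t, ht⟩ := FiniteField.isSquare_of_char_two (ringChar.eq F 2)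
        (hypSum (k + 2) (binForm (1 : F) ζ) w)
      rw [orthCls_rf_eq hS hw (t := t) (b := v₀) (by rw [hv₀, mul_one, ht]), h1]
      exact one_mem _
    have hker : ∀ x ∈ (outField hS hB).ker, x = 1 := by
      intro x hx'
      obtain ⟨t, rfl⟩ := cls_surjective hS hB x
      rw [MonoidHom.mem_ker, outField_cls] at hx'
      exact Subgroup.mem_bot.1 (hbot (cls_mem_range_of_square hS hx'
        (FiniteField.isSquare_of_char_two (ringChar.eq F 2) _)))
    have hk2 := OutGroup.card_eq_ker_mul (outField hS hB)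
      (OutGroup.surjective_of_gen _ (cls s) (by rw [hx]; exact hord) (card_fieldAut 2 f hF))
    rw [(Subgroup.eq_bot_iff_forall _).2 hker, Subgroup.card_bot, one_mul,
      card_fieldAut 2 f hF, hG] at hk2
    omega
  obtain ⟨e⟩ := nonempty_minus_equiv hab hab₀ hm
  have hc : IsCyclic (Cfsg.Out (PO (hypSum (k + 2) (binForm (1 : F) ζ)))) :=
    OutGroup.cyclic_two (outField hS hB) (card_fieldAut 2 f hF) (cls s)
      (by rw [hx]; exact hord) hne hG
  exact ⟨(outCongr e).isCyclic.2 hc, (Nat.card_congr (outCongr e).toEquiv).trans hG⟩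

end minusTwo

end Cfsg.Agent.CG26.AutPO
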