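import Cfsg.Agent.CG26.AutPO.Basic

/-!
The root subgroup of a line is the centre of a Sylow subgroup, hence automorphisms permute them.
-/

set_option autoImplicit false

namespace Cfsg.Agent.CG26.AutPO

open QuadraticMap Cfsg.Agent.UnitaryOrthogonal

universe u v

variable {F : Type u} [Field F] {V : Type v} [AddCommGroup V] [Module F V] {Q : QuadraticForm F V}

/-- The root subgroup of a line, as a set. -/
def TT (Q : QuadraticForm F V) (L : Submodule F V) : Set (PO Q) :=
  {x | ∃ u ∈ L, ∃ z ∈ L, x = eb Q u z}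

theorem IsLn.span_mem_left {u z : V} : u ∈ Submodule.span F ({u, z} : Set V) :=
  Submodule.subset_span (Set.mem_insert _ _)

theorem IsLn.span_mem_right {u z : V} : z ∈ Submodule.span F ({u, z} : Set V) :=
  Submodule.subset_span (Set.mem_insert_of_mem _ rfl)

theorem mem_TT {u z : V} (h : IsLn Q u z) {x : PO Q} :
    x ∈ TT Q (Submodule.span F ({u, z} : Set V)) ↔ ∃ c : F, x = eb Q u (c • z) := by
  constructor
  · rintro ⟨a, ha, b, hb, rfl⟩
    obtain ⟨a₁, a₂, rfl⟩ := mem_pair.1 ha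
    obtain ⟨b₁, b₂, rfl⟩ := mem_pair.1 hb
    exact ⟨_, congrArg (piO Q) (Subtype.ext (eich_change h a₁ a₂ b₁ b₂))⟩
  · rintro ⟨c, rfl⟩
    exact ⟨u, IsLn.span_mem_left, _, Submodule.smul_mem _ c IsLn.span_mem_right, rfl⟩

/-- The unipotent radical of the stabiliser of a line. -/
def Rad (Q : QuadraticForm F V) (L : Submodule F V) : Subgroup (Om Q) where
  carrier := {g | (∀ l ∈ L, g.1.1 l = l) ∧
    ∀ x, (∀ l ∈ L, polar Q l x = 0) → g.1.1 x - x ∈ L}
  one_mem' := ⟨fun _ _ => rfl, fun x _ => by simp⟩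
  mul_mem' := by
    rintro g h ⟨g1, g2⟩ ⟨h1, h2⟩
    refine ⟨fun l hl => by simp [h1 l hl, g1 l hl], fun x hx => ?_⟩
    have : (g * h).1.1 x - x = g.1.1 (h.1.1 x - x) + (g.1.1 x - x) := by simp
    rw [this, g1 _ (h2 x hx)]
    exact L.add_mem (h2 x hx) (g2 x hx)
  inv_mem' := by
    rintro g ⟨g1, g2⟩
    have hi : ∀ l ∈ L, g⁻¹.1.1 l = l := fun l hl => by
      conv_lhs => rw [← g1 l hl]
      exact coe_inv_apply_apply g.1 l
    refine ⟨hi, fun x hx => ?_⟩
    have h := g2 x hx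
    have : g⁻¹.1.1 x - x = -(g⁻¹.1.1 (g.1.1 x - x)) := by
      rw [map_sub]
      rw [show g⁻¹.1.1 (g.1.1 x) = x from coe_inv_apply_apply g.1 x]
      abel
    rw [this, hi _ h]
    exact L.neg_mem h

theorem eo_mem_Rad {u z a w : V} (h : IsLn Q u z) (ha : a ∈ Submodule.span F ({u, z} : Set V))
    (hw : ∀ l ∈ Submodule.span F ({u, z} : Set V), polar Q l w = 0) :
    eo Q a w ∈ Rad Q (Submodule.span F ({u, z} : Set V)) := by
  have hQa := h.form_mem ha
  have haw := hw a ha
  refine ⟨fun l hl => ?_, fun x hx => ?_⟩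
  · rw [eo_coe, eich_apply hQa haw, polar_comm Q w l, hw l hl, h.polar_mem ha hl]
    simp
  · rw [eo_coe, eich_apply hQa haw, hx a ha]
    simp only [zero_smul, add_zero, mul_zero, sub_zero, sub_sub_cancel_left]
    exact Submodule.neg_mem _ (Submodule.smul_mem _ _ ha)

theorem rad_isU (hS : Setup Q) {L : Submodule F V} (hL : Ln Q L) {g : Om Q} (hg : g ∈ Rad Q L) :
    IsU g := by
  haveI := hS.fd
  obtain ⟨u, z, h, rfl⟩ := hL
  haveI : Nontrivial V := ⟨u, 0, h.u0⟩
  set N : Module.End F V := g.1.1.toLinearMap - 1 with hN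
  have hN' : ∀ x, N x = g.1.1 x - x := fun x => rfl
  have hperp : ∀ x, ∀ l ∈ Submodule.span F ({u, z} : Set V), polar Q l (N x) = 0 := by
    intro x l hl
    have := map_polar g.1 l x
    rw [hg.1 l hl] at this
    rw [hN', polar_sub_right, this, sub_self]
  have h3 : N ^ 3 = 0 := LinearMap.ext fun x => by
    show N (N (N x)) = 0
    rw [hN' (N (N x)), hg.1 _ (by rw [hN' (N x)]; exact hg.2 _ (hperp x)), sub_self]
  set p := ringChar F with hp
  haveI : Finite F := hS.fin
  haveI := Fact.mk (CharP.char_is_prime F p)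
  haveI : ExpChar (Module.End F V) p := by
    haveI : CharP (Module.End F V) p :=
      charP_of_injective_algebraMap (algebraMap F (Module.End F V)).injective p
    infer_instance
  refine ⟨2, Subtype.ext (orth_ext fun x => ?_)⟩
  have e1 : ∀ k : ℕ, ((g ^ k).1.1.toLinearMap : Module.End F V) = (1 + N) ^ k := by
    intro k
    induction k with
    | zero => exact LinearMap.ext fun x => rfl
    | succ k ih =>
      rw [pow_succ, pow_succ, ← ih]
      refine LinearMap.ext fun x => ?_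
      simp [hN]
  have e2 := DFunLike.congr_fun (e1 (p ^ 2)) x
  rw [LinearEquiv.coe_coe, add_pow_expChar_pow_of_commute p 2 (Commute.one_left N), one_pow,
    pow_eq_zero_of_le (by
      have := (CharP.char_is_prime F p).two_le
      nlinarith) h3, add_zero] at e2
  simpa using e2

/-- The centraliser of the radical. -/
theorem centralizer_Rad (hS : Setup Q) {u z : V} (h : IsLn Q u z) {y : PO Q}
    (hy : ∀ r ∈ Rad Q (Submodule.span F ({u, z} : Set V)), Commute y (piO Q r)) :
    y ∈ TT Q (Submodule.span F ({u, z} : Set V)) := by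
  haveI := hS.fd
  obtain ⟨g, rfl⟩ := piO_surjective y
  set L := Submodule.span F ({u, z} : Set V) with hL
  have hperpL : ∀ {w : V}, polar Q u w = 0 → polar Q z w = 0 → ∀ l ∈ L, polar Q l w = 0 := by
    intro w h1 h2 l hl
    obtain ⟨a, b, rfl⟩ := mem_pair.1 hl
    simp [h1, h2]
  have key : ∀ {a w : V}, a ∈ L → polar Q u w = 0 → polar Q z w = 0 →
      Commute (piO Q g) (eb Q a w) := fun ha h1 h2 => hy _ (eo_mem_Rad h ha (hperpL h1 h2))
  obtain ⟨-, hgL⟩ := span_conj_eq hS h.qu h.uz h.u0 h.ind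
    (key IsLn.span_mem_left h.uz (polar_self_zero h.qz))
  have hgmem : ∀ l ∈ L, g.1.1 l ∈ L := fun l hl => by
    obtain ⟨a, b, rfl⟩ := mem_pair.1 hl
    rw [map_add, map_smul, map_smul, hL, ← hgL]
    exact mem_pair.2 ⟨a, b, rfl⟩
  obtain ⟨w₀, hw0, hw0u, hw0z, hw0L⟩ := hS.exists_orth u z
  have hfix : ∀ a ∈ L, a ≠ 0 → ∃ t : F, g.1.1 a = t • a := by
    intro a ha ha0
    have hind : ∀ c : F, w₀ ≠ c • a := fun c e => hw0L (e ▸ Submodule.smul_mem _ c ha)
    obtain ⟨-, hsp⟩ := span_conj_eq hS (h.form_mem ha) (hperpL hw0u hw0z a ha) ha0 hind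
      (key ha hw0u hw0z)
    have hm : g.1.1 a ∈ Submodule.span F ({a, w₀} : Set V) := hsp ▸ IsLn.span_mem_left
    obtain ⟨p, q, e⟩ := mem_pair.1 hm
    by_cases hq : q = 0
    · exact ⟨p, by rw [← e, hq, zero_smul, add_zero]⟩
    · exfalso
      refine hw0L ?_
      have : w₀ = q⁻¹ • (g.1.1 a - p • a) := by
        rw [← e, add_sub_cancel_left, inv_smul_smul₀ hq]
      rw [this]
      exact Submodule.smul_mem _ _ (Submodule.sub_mem _ (hgmem a ha) (Submodule.smul_mem _ _ ha))
  obtain ⟨a₁, hu1⟩ := hfix u IsLn.span_mem_left h.u0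
  obtain ⟨a₂, hz1⟩ := hfix z IsLn.span_mem_right h.z0
  obtain ⟨a₃, huz1⟩ := hfix (u + z) (Submodule.add_mem _ IsLn.span_mem_left IsLn.span_mem_right)
    (fun e => h.ind (-1) (by rw [neg_one_smul]; exact eq_neg_of_add_eq_zero_right e))
  have ha12 : a₁ = a₂ := by
    rw [map_add, hu1, hz1] at huz1
    obtain ⟨e1, e2⟩ := h.coeff (a := a₁ - a₃) (b := a₂ - a₃)
      (by linear_combination (norm := module) huz1)
    rw [sub_eq_zero.1 e1, sub_eq_zero.1 e2]
  subst ha12
  have hw : ∀ w, polar Q u w = 0 → polar Q z w = 0 → a₁ • g.1.1 w = w := by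
    intro w h1 h2
    have step : ∀ a, a ∈ L → a ≠ 0 → g.1.1 a = a₁ • a →
        ∃ c : F, a₁ • g.1.1 w - w = c • a := by
      intro a ha ha0 hga
      have hQa := h.form_mem ha
      have haw := hperpL h1 h2 a ha
      have e : eich Q (g.1.1 a) (g.1.1 w) = eich Q a w := by
        rw [← conj_eich]
        exact congrArg Subtype.val (conj_eq_of_comm hS (eo_isU hQa haw) (key ha h1 h2))
      have hgw : polar Q a (a₁ • g.1.1 w) = 0 := by
        have h3 := map_polar g.1 a w
        rw [hga, polar_smul_left, haw] at h3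
        rw [polar_smul_right]; exact h3
      have hgw' : polar Q a (g.1.1 w) = 0 := by
        have h3 := map_polar g.1 a w
        rw [hga, polar_smul_left, haw, smul_eq_mul] at h3
        rcases mul_eq_zero.1 h3 with h4 | h4
        · exfalso; rw [h4, zero_smul] at hga; exact ha0 (g.1.1.map_eq_zero_iff.1 hga)
        · exact h4
      rw [hga, eich_smul_left hQa hgw'] at e
      exact eich_eq_iff hS hQa hgw haw ha0 e
    obtain ⟨c, hc⟩ := step u IsLn.span_mem_left h.u0 hu1
    obtain ⟨d, hd⟩ := step z IsLn.span_mem_right h.z0 hz1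
    obtain ⟨e1, -⟩ := h.coeff (a := c) (b := -d) (by rw [neg_smul, ← hc, ← hd, add_neg_cancel])
    rw [e1, zero_smul, sub_eq_zero] at hc
    exact hc
  have ha11 : a₁ * a₁ = 1 := by
    have := hw u (polar_self_zero h.qu) (by rw [polar_comm]; exact h.uz)
    rw [hu1, smul_smul] at this
    exact sub_eq_zero.1 ((smul_eq_zero.1 (show (a₁ * a₁ - 1) • u = 0 by
      rw [sub_smul, one_smul, this, sub_self])).resolve_right h.u0)
  set G : V → V := fun x => a₁ • g.1.1 x with hG
  have hGQ : ∀ x, Q (G x) = Q x := fun x => by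
    rw [hG]; simp only [form_smul, map_form, ha11, one_mul]
  have hGB : ∀ x y, polar Q (G x) (G y) = polar Q x y := fun x y => by
    rw [hG]; simp only [polar_smul_left, polar_smul_right, map_polar, smul_eq_mul, ← mul_assoc, ha11, one_mul]
  have hGadd : ∀ x y, G (x + y) = G x + G y := fun x y => by simp [hG]
  have hGsmul : ∀ (c : F) x, G (c • x) = c • G x := fun c x => by simp [hG, smul_comm c a₁]
  obtain ⟨f, f', h1, h2, h3, h4⟩ := h.exists_duals hS
  have hdiff : ∀ x, G x - x = polar Q (G x - x) f • u + polar Q (G x - x) f' • z := by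
    intro x
    refine mem_of_perp_perp hS h1 h2 h3 h4 fun w hw1 hw2 => ?_
    rw [polar_sub_left]
    nth_rewrite 1 [← hw w hw1 hw2]
    rw [← hG] at *
    show polar Q (G x) (G w) - polar Q x w = 0
    rw [hGB, sub_self]
  obtain ⟨α, β, hf⟩ : ∃ α β : F, G f = f + (α • u + β • z) :=
    ⟨_, _, by rw [← hdiff f, add_sub_cancel]⟩
  obtain ⟨γ, δ, hf'⟩ : ∃ γ δ : F, G f' = f' + (γ • u + δ • z) :=
    ⟨_, _, by rw [← hdiff f', add_sub_cancel]⟩
  have hfu : polar Q f u = 1 := by rw [polar_comm]; exact h1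
  have hfz : polar Q f z = 0 := by rw [polar_comm]; exact h2
  have hfu' : polar Q f' u = 0 := by rw [polar_comm]; exact h3
  have hfz' : polar Q f' z = 1 := by rw [polar_comm]; exact h4
  have hα : α = 0 := by
    have := hGQ f
    rw [hf, form_add, polar_add_right, polar_smul_right, polar_smul_right, hfu, hfz,
      h.form_mem (mem_pair.2 ⟨α, β, rfl⟩)] at this
    simpa using this
  have hδ : δ = 0 := by
    have := hGQ f'
    rw [hf', form_add, polar_add_right, polar_smul_right, polar_smul_right, hfu', hfz',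
      h.form_mem (mem_pair.2 ⟨γ, δ, rfl⟩)] at this
    simpa using this
  have hγ : γ = -β := by
    have := hGB f f'
    rw [hf, hf', hα, hδ] at this
    simp [hfu, h4, h.uz, polar_comm Q z u, polar_self_zero h.qu, polar_self_zero h.qz] at this
    linear_combination this
  rw [hα, zero_smul, zero_add] at hf
  rw [hδ, hγ, zero_smul, add_zero] at hf'
  have hβz : polar Q u (β • z) = 0 := by rw [polar_smul_right, h.uz, smul_zero]
  have hGe : ∀ x, G x = (eich Q u (β • z)).1 x := by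
    intro x
    rw [eich_apply h.qu hβz, form_smul, h.qz, mul_zero, zero_mul, zero_smul, sub_zero,
      polar_smul_left]
    have hw' : G (x - polar Q u x • f - polar Q z x • f') = x - polar Q u x • f - polar Q z x • f' :=
      hw _ (by simp [polar_sub_right, h1, h3]) (by simp [polar_sub_right, h2, h4])
    have hsplit : G x = G (x - polar Q u x • f - polar Q z x • f') + (polar Q u x • G f + polar Q z x • G f') := by
      rw [← hGsmul, ← hGsmul, ← hGadd, ← hGadd]
      congr 1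
      abel
    rw [hsplit, hw', hf, hf', smul_eq_mul]
    module
  have hcen : (eo Q u (β • z))⁻¹ * g ∈ Subgroup.center (Om Q) := by
    refine mem_center_of_scalar (c := a₁) fun x => ?_
    apply (eich Q u (β • z)).1.injective
    show (eich Q u (β • z)).1 ((eich Q u (β • z))⁻¹.1 (g.1.1 x)) = _
    rw [coe_apply_inv_apply, map_smul, ← hGe, hG]
    simp [smul_smul, ha11]
  exact (mem_TT h).2 ⟨β, (QuotientGroup.eq.2 hcen).symm⟩

/-- The centre of a subgroup, as a set. -/
def ZS {G : Type*} [Group G] (H : Subgroup G) : Set G := {x | x ∈ H ∧ ∀ y ∈ H, y * x = x * y}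

theorem ZS_map {G G' : Type*} [Group G] [Group G'] (H : Subgroup G) (e : G ≃* G') :
    ZS (H.map e.toMonoidHom) = e '' ZS H := by
  ext x
  constructor
  · rintro ⟨⟨a, ha, rfl⟩, hx⟩
    exact ⟨a, ⟨ha, fun y hy => e.injective (by simpa using hx _ ⟨y, hy, rfl⟩)⟩, rfl⟩
  · rintro ⟨a, ⟨ha, hx⟩, rfl⟩
    refine ⟨⟨a, ha, rfl⟩, ?_⟩
    rintro _ ⟨y, hy, rfl⟩
    simp only [MulEquiv.coe_toMonoidHom, ← map_mul, hx y hy]

theorem eb_ne_one (hS : Setup Q) {u w : V} (hu : Q u = 0) (huw : polar Q u w = 0) (hu0 : u ≠ 0)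
    (hind : ∀ c : F, w ≠ c • u) : eb Q u w ≠ 1 := fun e => by
  have e1 : eo Q u w = 1 := piO_inj hS (eo_isU hu huw) ⟨0, by simp⟩ (e.trans (map_one _).symm)
  obtain ⟨c, hc⟩ := eich_eq_one hS hu huw hu0 (congrArg Subtype.val e1)
  exact hind c hc

/-- The centre of a Sylow subgroup containing the radical of a line is its root subgroup. -/
theorem center_sylow (hS : Setup Q) [Fact (ringChar F).Prime] {u z : V} (h : IsLn Q u z)
    (P : Sylow (ringChar F) (PO Q))
    (hP : (Rad Q (Submodule.span F ({u, z} : Set V))).map (piO Q) ≤ P) :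
    ZS (P : Subgroup (PO Q)) = TT Q (Submodule.span F ({u, z} : Set V)) := by
  haveI := hS.finiteV
  haveI : Finite (PO Q) := Finite.of_surjective _ piO_surjective
  set L := Submodule.span F ({u, z} : Set V) with hL
  have hTP : ∀ {x}, x ∈ TT Q L → x ∈ (P : Subgroup (PO Q)) := by
    rintro x ⟨a, ha, b, hb, rfl⟩
    exact hP ⟨_, eo_mem_Rad h ha (fun l hl => h.polar_mem hl hb), rfl⟩
  have hle : ZS (P : Subgroup (PO Q)) ⊆ TT Q L := fun x hx =>
    centralizer_Rad hS h fun r hr => (hx.2 _ (hP ⟨r, hr, rfl⟩)).symm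
  refine Set.Subset.antisymm hle fun x hx => ⟨hTP hx, fun y hy => ?_⟩
  haveI : Nontrivial P := ⟨⟨_, hTP ((mem_TT h).2 ⟨1, rfl⟩)⟩, 1,
    fun e => eb_ne_one hS h.qu (by simp [h.uz]) h.u0 (by simpa using h.ind)
      (congrArg Subtype.val e)⟩
  haveI := P.isPGroup'.center_nontrivial
  obtain ⟨z₀, hz₀⟩ := exists_ne (1 : Subgroup.center P)
  have hz₀' : (z₀.1.1 : PO Q) ∈ ZS (P : Subgroup (PO Q)) :=
    ⟨z₀.1.2, fun w hw => congrArg Subtype.val (Subgroup.mem_center_iff.1 z₀.2 ⟨w, hw⟩)⟩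
  obtain ⟨c, hc⟩ := (mem_TT h).1 (hle hz₀')
  have hc0 : c ≠ 0 := fun e => hz₀ (Subtype.ext (Subtype.ext (hc.trans (by
    rw [e, zero_smul]
    show piO Q _ = 1
    rw [show eo Q u 0 = 1 from Subtype.ext (eich_zero u), map_one]))))
  obtain ⟨g, rfl⟩ := piO_surjective y
  obtain ⟨-, hgL⟩ := span_conj_eq hS h.qu (w := c • z) (by simp [h.uz]) h.u0
    (fun t e => h.ind (c⁻¹ * t) (by rw [← smul_smul, ← e, inv_smul_smul₀ hc0])) (g := g)
    (show piO Q g * eb Q u (c • z) = eb Q u (c • z) * piO Q g from hc ▸ hz₀'.2 _ hy)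
  have hsp : Submodule.span F ({u, c • z} : Set V) = L := by
    refine le_antisymm (Submodule.span_le.2 ?_) (Submodule.span_le.2 ?_)
    · rintro v (rfl | rfl)
      · exact IsLn.span_mem_left
      · exact Submodule.smul_mem _ _ IsLn.span_mem_right
    · rintro v (rfl | rfl)
      · exact IsLn.span_mem_left
      · exact mem_pair.2 ⟨0, c⁻¹, by rw [zero_smul, zero_add, inv_smul_smul₀ hc0]⟩
  rw [hsp] at hgL
  obtain ⟨a, b, hgu⟩ := mem_pair.1 (show g.1.1 u ∈ L from hgL ▸ IsLn.span_mem_left)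
  obtain ⟨a', b', hgz⟩ : ∃ a' b' : F, a' • u + b' • z = g.1.1 z := by
    have : g.1.1 (c • z) ∈ L := hgL ▸ IsLn.span_mem_right
    rw [map_smul] at this
    have := Submodule.smul_mem _ c⁻¹ this
    rw [inv_smul_smul₀ hc0] at this
    exact mem_pair.1 this
  set D := a * b' - b * a' with hD
  have hconj : ∀ t : F, piO Q g * eb Q u (t • z) * (piO Q g)⁻¹ = eb Q u ((D * t) • z) := by
    intro t
    rw [conj_eb, map_smul, ← hgu, ← hgz, smul_add, smul_smul, smul_smul]
    refine congrArg (piO Q) (Subtype.ext ?_)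
    rw [eo_coe, eich_change h, eo_coe]
    congr 2
    rw [hD]; ring
  have hD1 : D = 1 := by
    have e := hconj c
    rw [show piO Q g * eb Q u (c • z) * (piO Q g)⁻¹ = eb Q u (c • z) by
      rw [show piO Q g * eb Q u (c • z) = eb Q u (c • z) * piO Q g from hc ▸ hz₀'.2 _ hy,
        mul_inv_cancel_right]] at e
    have e' := congrArg Subtype.val (piO_inj hS (eo_isU h.qu (by simp [h.uz]))
      (eo_isU h.qu (by simp [h.uz])) e)
    obtain ⟨t, ht⟩ := eich_eq_iff hS h.qu (by simp [h.uz]) (by simp [h.uz]) h.u0 e'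
    obtain ⟨-, e2⟩ := h.coeff (a := -t) (b := c - D * c) (by linear_combination (norm := module) ht)
    refine mul_right_cancel₀ hc0 ?_
    rw [one_mul]; exact (sub_eq_zero.1 e2).symm
  obtain ⟨t, rfl⟩ := (mem_TT h).1 hx
  have := hconj t
  rw [hD1, one_mul, mul_inv_eq_iff_eq_mul] at this
  exact this

/-- **Automorphisms permute the root subgroups of lines.** -/
theorem map_TT (hS : Setup Q) (α : MulAut (PO Q)) {L : Submodule F V} (hL : Ln Q L) :
    ∃ L', Ln Q L' ∧ α '' TT Q L = TT Q L' := by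
  haveI := hS.finiteV
  haveI := hS.fin
  haveI := hS.fd
  haveI : Finite (PO Q) := Finite.of_surjective _ piO_surjective
  haveI := Fact.mk (CharP.char_is_prime F (ringChar F))
  obtain ⟨u, z, h, rfl⟩ := hL
  have hp : IsPGroup (ringChar F) ((Rad Q (Submodule.span F ({u, z} : Set V))).map (piO Q)) := by
    refine IsPGroup.map ?_ _
    rintro ⟨g, hg⟩
    obtain ⟨k, hk⟩ := rad_isU hS ⟨u, z, h, rfl⟩ hg
    exact ⟨k, Subtype.ext (by rw [SubgroupClass.coe_pow]; exact hk)⟩
  obtain ⟨P, hP⟩ := hp.exists_le_sylow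
  let P' : Sylow (ringChar F) (PO Q) := P.comapOfInjective α.symm.toMonoidHom α.symm.injective
    (fun x _ => ⟨α x, α.symm_apply_apply x⟩)
  have hP' : (P' : Subgroup (PO Q)) = (P : Subgroup (PO Q)).map α.toMonoidHom := by
    rw [Subgroup.map_equiv_eq_comap_symm']; rfl
  obtain ⟨y, hy⟩ := MulAction.exists_smul_eq (PO Q) P P'
  obtain ⟨g, rfl⟩ := piO_surjective y
  refine ⟨_, ⟨g.1.1 u, g.1.1 z, ⟨by rw [map_form, h.qu], by rw [map_form, h.qz],
    by rw [map_polar, h.uz], fun e => h.u0 (g.1.1.map_eq_zero_iff.1 e),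
    fun c e => h.ind c (g.1.1.injective (by rw [e, map_smul]))⟩, rfl⟩, ?_⟩
  have e : (P' : Subgroup (PO Q)) = (P : Subgroup (PO Q)).map (MulAut.conj (piO Q g)).toMonoidHom := by
    rw [← hy]; rfl
  rw [← center_sylow hS h P hP, ← ZS_map, ← hP', e, ZS_map, center_sylow hS h P hP]
  ext x
  constructor
  · rintro ⟨_, ⟨a, ha, b, hb, rfl⟩, rfl⟩
    refine ⟨g.1.1 a, ?_, g.1.1 b, ?_, conj_eb g a b⟩
    · obtain ⟨p, q, rfl⟩ := mem_pair.1 ha
      exact mem_pair.2 ⟨p, q, by simp⟩
    · obtain ⟨p, q, rfl⟩ := mem_pair.1 hb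
      exact mem_pair.2 ⟨p, q, by simp⟩
  · rintro ⟨a, ha, b, hb, rfl⟩
    obtain ⟨p, q, rfl⟩ := mem_pair.1 ha
    obtain ⟨r, s, rfl⟩ := mem_pair.1 hb
    refine ⟨eb Q (p • u + q • z) (r • u + s • z),
      ⟨_, mem_pair.2 ⟨p, q, rfl⟩, _, mem_pair.2 ⟨r, s, rfl⟩, rfl⟩, ?_⟩
    refine (conj_eb g _ _).trans ?_
    simp

end Cfsg.Agent.CG26.AutPO
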